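import Mathlib
import Groth.Prelude.Def_GrLC2
import Groth.Agent.GorLib.TopHull
import Groth.Agent.LocCohLib.Ischebeck

/-! Depth is the first degree with a nonzero Bass number. -/

set_option autoImplicit false
set_option linter.style.haveILetI false
universe u

open CategoryTheory RingTheory.Sequence IsLocalRing

namespace Groth.Agent.GrCoreLib

variable {B : Type u} [CommRing B] [IsLocalRing B] [IsNoetherianRing B]
  (N : Type u) [AddCommGroup N] [Module B N] [Module.Finite B N]

/-- The first nonvanishing Bass number of a nonzero finite module sits at the depth. -/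
theorem exists_depth [Nontrivial N] : ∃ e : ℕ, LocCoh.depth B N = e ∧
    GrLC.bassNumLocal B N e ≠ 0 ∧ ∀ i < e, GrLC.bassNumLocal B N i = 0 := by
  have hI : maximalIdeal B • (⊤ : Submodule B N) ≠ ⊤ := fun h =>
    top_ne_bot (Submodule.eq_bot_of_le_smul_of_le_jacobson_bot (maximalIdeal B) ⊤ Module.Finite.fg_top h.ge
      (maximalIdeal_le_jacobson _))
  obtain ⟨rs, h⟩ := Depth.exists_isMaxSeq (M := N) hI
  refine ⟨rs.length, Depth.idealDepth_eq_length hI h, ?_, fun i hi => ?_⟩
  · obtain ⟨hw, hm, x, hx, hx'⟩ := h
    show Module.length _ _ ≠ 0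
    rw [GorLib.length_ext_residueField_eq rs hm hw, ← pos_iff_ne_zero, Module.length_pos_iff]
    refine ⟨⟨Submodule.liftQ (maximalIdeal B) (LinearMap.toSpanSingleton B _ (Submodule.Quotient.mk x))
      fun r hr => ?_, 0, fun e => hx ?_⟩⟩
    · rw [LinearMap.mem_ker, LinearMap.toSpanSingleton_apply, ← Submodule.Quotient.mk_smul,
        Submodule.Quotient.mk_eq_zero]
      exact hx' r hr
    · have := LinearMap.congr_fun e (Submodule.Quotient.mk 1)
      exact (Submodule.Quotient.mk_eq_zero _).1 ((one_smul B _).symm.trans (this.trans rfl))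
  · haveI := LocCohLib.subsingleton_ext_of_isWeaklyRegular (maximalIdeal B) (ModuleCat.of B N)
      (ModuleCat.of B (ResidueField B)) rs h.1 h.2.1 1 (fun a ha z => by
        rw [pow_one] at ha
        show a • z = 0
        rw [Algebra.smul_def, show algebraMap B (ResidueField B) a = 0 from
          Ideal.Quotient.eq_zero_iff_mem.mpr ha, zero_mul]) i hi
    exact Module.length_eq_zero

omit [Module.Finite B N] in
theorem bassNumLocal_eq_zero [Subsingleton N] (i : ℕ) : GrLC.bassNumLocal B N i = 0 := by
  haveI : Subsingleton (Abelian.Ext.{u} (ModuleCat.of B (ResidueField B)) (ModuleCat.of B N) i) :=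
    subsingleton_of_forall_eq 0 fun e => by
      rw [← Abelian.Ext.comp_mk₀_id e,
        show 𝟙 (ModuleCat.of B N) = 0 from (ModuleCat.isZero_of_subsingleton _).eq_of_src _ _]
      simp
  exact Module.length_eq_zero

end Groth.Agent.GrCoreLib
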