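import Mathlib
import Groth.Agent.GrInjLib.Primes

/-! Coarsenings of a grading. -/

set_option autoImplicit false
set_option linter.style.haveILetI false
set_option linter.unusedSectionVars false
universe u

open DirectSum GrInjLib

namespace Groth.Agent.GrCoreLib

variable {ι : Type} [AddCommGroup ι] [DecidableEq ι]
  {M : Type u} [AddCommGroup M] (ℳ : ι → AddSubgroup M) [Decomposition ℳ]

/-- Keep the components with degree satisfying `P`. -/
noncomputable def sel (P : ι → Prop) : M →+ M :=
  haveI := Classical.decPred P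
  ((decomposeAddEquiv ℳ).symm.toAddMonoidHom.comp (DFinsupp.filterAddMonoidHom _ P)).comp
    (decomposeAddEquiv ℳ).toAddMonoidHom

theorem decompose_sel (P : ι → Prop) [DecidablePred P] (x : M) :
    decompose ℳ (sel ℳ P x) = DFinsupp.filter P (decompose ℳ x) := by
  show decompose ℳ ((decompose ℳ).symm _) = _
  rw [Equiv.apply_symm_apply]
  exact congrArg (fun d : DecidablePred P => @DFinsupp.filter ι _ _ P d (decompose ℳ x)) (Subsingleton.elim _ _)

theorem proj_sel_pos {P : ι → Prop} (x : M) {g : ι} (h : P g) : proj ℳ g (sel ℳ P x) = proj ℳ g x := by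
  classical
  rw [proj_apply, proj_apply, decompose_sel, DFinsupp.filter_apply, if_pos h]

theorem proj_sel_neg {P : ι → Prop} (x : M) {g : ι} (h : ¬ P g) : proj ℳ g (sel ℳ P x) = 0 := by
  classical
  rw [proj_apply, decompose_sel, DFinsupp.filter_apply, if_neg h]
  rfl

theorem ext_proj {x y : M} (h : ∀ g, proj ℳ g x = proj ℳ g y) : x = y :=
  sub_eq_zero.1 (eq_zero_of_proj ℳ (x - y) fun g => by rw [map_sub, h, sub_self])

theorem sel_sel (P Q : ι → Prop) (x : M) : sel ℳ P (sel ℳ Q x) = sel ℳ (fun g => P g ∧ Q g) x := by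
  refine ext_proj ℳ fun g => ?_
  by_cases hP : P g
  · rw [proj_sel_pos ℳ _ hP]
    by_cases hQ : Q g
    · rw [proj_sel_pos ℳ _ hQ, proj_sel_pos ℳ x (P := fun g => P g ∧ Q g) ⟨hP, hQ⟩]
    · rw [proj_sel_neg ℳ _ hQ, proj_sel_neg ℳ x (P := fun g => P g ∧ Q g) fun h => hQ h.2]
  · rw [proj_sel_neg ℳ _ hP, proj_sel_neg ℳ x (P := fun g => P g ∧ Q g) fun h => hP h.1]

theorem sel_congr {P Q : ι → Prop} (h : ∀ g, P g ↔ Q g) (x : M) : sel ℳ P x = sel ℳ Q x := by
  rw [show P = Q from funext fun g => propext (h g)]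

theorem sel_eq (g₀ : ι) (x : M) : sel ℳ (fun g => g = g₀) x = proj ℳ g₀ x := by
  refine ext_proj ℳ fun g => ?_
  by_cases h : g = g₀
  · rw [proj_sel_pos ℳ x (P := fun g => g = g₀) h, h, proj_of_mem ℳ (proj_mem ℳ g₀ x)]
  · rw [proj_sel_neg ℳ x (P := fun g => g = g₀) h, proj_of_mem_ne ℳ (proj_mem ℳ g₀ x) (Ne.symm h)]

variable {κ : Type} [AddCommGroup κ] [DecidableEq κ] (φ : ι →+ κ)

/-- The coarsened pieces. -/
noncomputable def coarse : κ → AddSubgroup M := fun k =>
  { carrier := {x | ∀ g, φ g ≠ k → proj ℳ g x = 0}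
    zero_mem' := fun g _ => map_zero _
    add_mem' := fun {x y} hx hy g hg => by rw [map_add, hx g hg, hy g hg, add_zero]
    neg_mem' := fun {x} hx g hg => by rw [map_neg, hx g hg, neg_zero] }

theorem sel_mem_coarse (k : κ) (x : M) : sel ℳ (fun g => φ g = k) x ∈ coarse ℳ φ k :=
  fun _ hg => proj_sel_neg ℳ x hg

theorem mem_coarse_of_mem {g : ι} {x : M} (hx : x ∈ ℳ g) : x ∈ coarse ℳ φ (φ g) :=
  fun h hh => proj_of_mem_ne ℳ hx fun e => hh (by rw [e])

theorem coarse_isInternal : DirectSum.IsInternal (coarse ℳ φ) := by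
  classical
  refine isInternal_of_proj _ (fun k => sel ℳ (fun g => φ g = k)) (fun k x hx => ext_proj ℳ fun g => ?_)
    (fun k l hne x hx => ext_proj ℳ fun g => ?_) fun x => ?_
  · by_cases h : φ g = k
    · exact proj_sel_pos ℳ x h
    · rw [proj_sel_neg ℳ x (P := fun g => φ g = k) h, hx g h]
  · rw [map_zero]
    by_cases h : φ g = k
    · rw [proj_sel_pos ℳ x (P := fun g => φ g = k) h]
      exact hx g fun e => hne (e.symm.trans h)
    · exact proj_sel_neg ℳ x h
  · rw [← sum_support_decompose ℳ x]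
    exact sum_mem fun g _ => AddSubgroup.mem_iSup_of_mem (φ g) (mem_coarse_of_mem ℳ φ (decompose ℳ x g).2)

noncomputable instance coarseDecomposition : Decomposition (coarse ℳ φ) := (coarse_isInternal ℳ φ).chooseDecomposition

theorem proj_coarse (k : κ) (x : M) : proj (coarse ℳ φ) k x = sel ℳ (fun g => φ g = k) x := by
  classical
  refine ext_proj ℳ fun g => ?_
  conv_rhs => rw [← sum_support_decompose (coarse ℳ φ) x]
  rw [map_sum, map_sum, Finset.sum_eq_single k]
  · by_cases h : φ g = k
    · rw [proj_sel_pos ℳ _ (P := fun g => φ g = k) h]; rfl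
    · rw [proj_sel_neg ℳ _ (P := fun g => φ g = k) h]
      exact proj_mem (coarse ℳ φ) k x g h
  · intro l _ hl
    by_cases h : φ g = k
    · rw [proj_sel_pos ℳ _ (P := fun g => φ g = k) h]
      exact (decompose (coarse ℳ φ) x l).2 g fun e => hl (e.symm.trans h)
    · exact proj_sel_neg ℳ _ h
  · intro h
    rw [DFinsupp.notMem_support_iff.1 h, ZeroMemClass.coe_zero, map_zero, map_zero]

section Ring

variable {R : Type u} [CommRing R] (𝒜 : ι → AddSubgroup R) [GradedRing 𝒜]

theorem proj_eq_decompose (g : ι) (x : R) : proj 𝒜 g x = (decompose 𝒜 x g : R) := rfl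

instance coarse_gradedMonoid : SetLike.GradedMonoid (coarse 𝒜 φ) where
  one_mem := fun g hg => proj_of_mem_ne 𝒜 (SetLike.one_mem_graded 𝒜) fun e => hg (by rw [← e, map_zero])
  mul_mem := fun {k l x y} hx hy g hg => by
    classical
    rw [← sum_support_decompose 𝒜 x, ← sum_support_decompose 𝒜 y, Finset.sum_mul_sum, map_sum]
    refine Finset.sum_eq_zero fun a ha => ?_
    rw [map_sum]
    refine Finset.sum_eq_zero fun b hb => ?_
    have hka : φ a = k := by
      by_contra h
      exact DFinsupp.mem_support_iff.1 ha (Subtype.ext (hx a h))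
    have hlb : φ b = l := by
      by_contra h
      exact DFinsupp.mem_support_iff.1 hb (Subtype.ext (hy b h))
    exact proj_of_mem_ne 𝒜 (SetLike.mul_mem_graded (decompose 𝒜 x a).2 (decompose 𝒜 y b).2)
      fun e => hg (by rw [← e, map_add, hka, hlb])

noncomputable instance coarse_gradedRing : GradedRing (coarse 𝒜 φ) :=
  { coarse_gradedMonoid φ 𝒜, coarseDecomposition 𝒜 φ with }

/-- An ideal is homogeneous in a coarsening when it is closed under the selections. -/
theorem isHomogeneous_coarse_iff (I : Ideal R) :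
    I.IsHomogeneous (coarse 𝒜 φ) ↔ ∀ k, ∀ x ∈ I, sel 𝒜 (fun g => φ g = k) x ∈ I := by
  constructor
  · intro h k x hx
    rw [← proj_coarse 𝒜 φ k x]
    exact h k hx
  · intro h k x hx
    show proj (coarse 𝒜 φ) k x ∈ I
    rw [proj_coarse]
    exact h k x hx

end Ring

end Groth.Agent.GrCoreLib
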