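import Mathlib
import Groth.Agent.GrInjLib.Ext
import Groth.Agent.GrInjLib.Cofree
import Groth.Agent.GorLib.ExtLoc
import Groth.Agent.GorLib.Bass

/-! `Ext` out of `R ⧸ q`, localised, is the localisation of a graded module killed by `q`. -/

set_option autoImplicit false
set_option linter.style.haveILetI false
set_option linter.unusedSectionVars false
universe u

open DirectSum GrInjLib CategoryTheory

namespace Groth.Agent.GrCoreLib

variable {R : Type u} [CommRing R]

/-- A localisation with a module structure over the localised ring is the localised module. -/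
theorem nonempty_equiv_localized (S : Submonoid R) {W Y : Type u} [AddCommGroup W] [Module R W]
    [AddCommGroup Y] [Module R Y] [Module (Localization S) Y] [IsScalarTower R (Localization S) Y]
    (c : W →ₗ[R] Y) [IsLocalizedModule S c] :
    Nonempty (Y ≃ₗ[Localization S] LocalizedModule S W) :=
  let e := (IsLocalizedModule.iso S c).symm
  ⟨{ e.toAddEquiv with
      map_smul' := fun b y => (e.toLinearMap.extendScalarsOfIsLocalization S (Localization S)).map_smul b y }⟩

variable [IsNoetherianRing R] (q : Ideal R) (p : Ideal R) [p.IsPrime]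

/-- The quotient of the local ring by the extension of `q`. -/
abbrev Quo : Type u := Localization.AtPrime p ⧸ q.map (algebraMap R (Localization.AtPrime p))

/-- The elements killed by an ideal. -/
def killed (M : Type u) [AddCommGroup M] [Module R M] : Submodule R M :=
  Submodule.torsionBySet R M q

theorem mem_killed {M : Type u} [AddCommGroup M] [Module R M] {x : M} :
    x ∈ killed q M ↔ ∀ r ∈ q, r • x = 0 := by
  rw [killed, Submodule.mem_torsionBySet_iff]
  exact ⟨fun h r hr => h ⟨r, hr⟩, fun h r => h r r.2⟩

/-- An element killed by `q` gives a map from the quotient. -/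
noncomputable def killedHom (M : Type u) [AddCommGroup M] [Module R M] :
    killed q M →ₗ[R] (Quo q p →ₗ[Localization.AtPrime p] LocalizedModule p.primeCompl M) where
  toFun k := Submodule.liftQ _ (LinearMap.toSpanSingleton (Localization.AtPrime p) _
      (LocalizedModule.mkLinearMap p.primeCompl M k)) <| Ideal.map_le_iff_le_comap.2 fun r hr => by
    show algebraMap R (Localization.AtPrime p) r • LocalizedModule.mkLinearMap p.primeCompl M (k : M) = 0
    rw [algebraMap_smul, ← map_smul, (mem_killed q).1 k.2 r hr, map_zero]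
  map_add' k k' := Submodule.linearMap_qext _ <| LinearMap.ext_ring <| by
    show (1 : Localization.AtPrime p) • LocalizedModule.mkLinearMap p.primeCompl M ((k + k' : killed q M) : M) =
      (1 : Localization.AtPrime p) • LocalizedModule.mkLinearMap p.primeCompl M (k : M) +
        (1 : Localization.AtPrime p) • LocalizedModule.mkLinearMap p.primeCompl M (k' : M)
    rw [one_smul, one_smul, one_smul, Submodule.coe_add, map_add]
  map_smul' r k := Submodule.linearMap_qext _ <| LinearMap.ext_ring <| by
    show (1 : Localization.AtPrime p) • LocalizedModule.mkLinearMap p.primeCompl M ((r • k : killed q M) : M) =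
      r • ((1 : Localization.AtPrime p) • LocalizedModule.mkLinearMap p.primeCompl M (k : M))
    rw [one_smul, one_smul, Submodule.coe_smul, map_smul]

theorem killedHom_one {M : Type u} [AddCommGroup M] [Module R M] (k : killed q M) :
    killedHom q p M k (Submodule.Quotient.mk 1) = LocalizedModule.mkLinearMap p.primeCompl M (k : M) := by
  show (1 : Localization.AtPrime p) • LocalizedModule.mkLinearMap p.primeCompl M (k : M) = _
  rw [one_smul]

theorem quoHom_ext {N : Type u} [AddCommGroup N] [Module (Localization.AtPrime p) N]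
    {h h' : Quo q p →ₗ[Localization.AtPrime p] N}
    (e : h (Submodule.Quotient.mk 1) = h' (Submodule.Quotient.mk 1)) : h = h' :=
  Submodule.linearMap_qext _ <| LinearMap.ext_ring e

instance isLocalized_killedHom (M : Type u) [AddCommGroup M] [Module R M] :
    IsLocalizedModule p.primeCompl (killedHom q p M) := by
  classical
  refine ⟨fun s => ?_, fun h => ?_, fun {k k'} e => ?_⟩
  · obtain ⟨w, hw⟩ := IsLocalization.map_units (Localization.AtPrime p) s
    refine (Module.End.isUnit_iff _).2 ⟨fun a b e => ?_, fun a => ⟨(↑w⁻¹ : Localization.AtPrime p) • a, ?_⟩⟩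
    · simp only [Module.algebraMap_end_apply, ← algebraMap_smul (Localization.AtPrime p) (s : R), ← hw] at e
      have e' := congrArg ((↑w⁻¹ : Localization.AtPrime p) • ·) e
      simpa [smul_smul] using e'
    · simp [← algebraMap_smul (Localization.AtPrime p) (s : R), ← hw, smul_smul]
  · obtain ⟨⟨m, s⟩, hm⟩ := IsLocalizedModule.surj p.primeCompl (LocalizedModule.mkLinearMap p.primeCompl M)
      (h (Submodule.Quotient.mk 1))
    obtain ⟨G, hG⟩ := (IsNoetherian.noetherian (q : Submodule R R))
    have hG' : Ideal.span (G : Set R) = q := hG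
    have hr : ∀ r ∈ G, ∃ u : p.primeCompl, u • (r • m) = u • (0 : M) := fun r hr => by
      refine IsLocalizedModule.exists_of_eq (f := LocalizedModule.mkLinearMap p.primeCompl M) ?_
      rw [map_zero, map_smul, ← hm]
      show r • ((s : R) • h (Submodule.Quotient.mk 1)) = 0
      rw [smul_comm, ← algebraMap_smul (Localization.AtPrime p) r, ← map_smul]
      rw [show algebraMap R (Localization.AtPrime p) r • (Submodule.Quotient.mk 1 : Quo q p) = 0 by
        rw [← Submodule.Quotient.mk_smul, Submodule.Quotient.mk_eq_zero, smul_eq_mul, mul_one]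
        exact Ideal.mem_map_of_mem _ (hG'.le (Ideal.subset_span hr)), map_zero, smul_zero]
    choose u hu using hr
    let U : p.primeCompl := ∏ r ∈ G.attach, u r.1 r.2
    have hk : U • m ∈ killed q M := by
      rw [mem_killed, ← hG']
      intro r hr
      induction hr using Submodule.span_induction with
      | mem r hr =>
        show r • ((U : R) • m) = 0
        rw [show U = (∏ x ∈ G.attach.erase ⟨r, hr⟩, u x.1 x.2) * u r hr from
          (Finset.prod_erase_mul _ _ (Finset.mem_attach _ _)).symm, Submonoid.coe_mul, mul_smul,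
          smul_comm r, smul_comm r]
        have := hu r hr
        rw [smul_zero] at this
        rw [show ((u r hr : R)) • r • m = 0 from this, smul_zero]
      | zero => exact zero_smul R _
      | add a b _ _ ha hb => rw [add_smul, ha, hb, add_zero]
      | smul c a _ ha => rw [smul_eq_mul, mul_smul, ha, smul_zero]
    refine ⟨⟨⟨U • m, hk⟩, U * s⟩, quoHom_ext q p ?_⟩
    rw [killedHom_one]
    show ((U * s : p.primeCompl) : R) • h (Submodule.Quotient.mk 1) =
      LocalizedModule.mkLinearMap p.primeCompl M ((U : R) • m)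
    rw [map_smul, Submonoid.coe_mul, mul_smul]
    exact congrArg _ hm
  · have e' := LinearMap.congr_fun e (Submodule.Quotient.mk 1)
    rw [killedHom_one, killedHom_one] at e'
    obtain ⟨c, hc⟩ := IsLocalizedModule.exists_of_eq (S := p.primeCompl) e'
    exact ⟨c, Subtype.ext hc⟩

variable {ι : Type} [AddCommGroup ι] [DecidableEq ι] (𝒜 : ι → AddSubgroup R) [GradedRing 𝒜]

theorem killed_homogeneous (hq : q.IsHomogeneous 𝒜) (M : GrLC.GMod.{u} 𝒜) :
    (killed q M.carrier).IsHomogeneous M.gr := fun g x hx => by
  classical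
  rw [mem_killed] at hx ⊢
  intro r hr
  rw [← sum_support_decompose 𝒜 r, Finset.sum_smul]
  refine Finset.sum_eq_zero fun a _ => ?_
  have := proj_smul 𝒜 M.gr (decompose 𝒜 r a).2 x g
  rw [hx _ (hq a hr), map_zero] at this
  exact this.symm

omit [p.IsPrime] in
/-- `Ext^{≥1}` from the localised quotient into a localised *injective vanishes. -/
theorem subsingleton_ext_localized [p.IsPrime] (hq : q.IsHomogeneous 𝒜) {X : GrLC.GMod.{u} 𝒜}
    (hX : GrLC.IsStarInj 𝒜 X.gr) (k : ℕ) :
    Subsingleton (Abelian.Ext.{u} (ModuleCat.of (Localization.AtPrime p) (Quo q p))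
      (ModuleCat.of (Localization.AtPrime p) (LocalizedModule p.primeCompl X.carrier)) (k + 1)) := by
  let Z := quotG 𝒜 (ringPieces 𝒜) (ideal_homogeneous 𝒜 hq)
  haveI : Module.Finite R Z.carrier :=
    Module.Finite.of_surjective _ (quotMk_surjective 𝒜 (ringPieces 𝒜) (ideal_homogeneous 𝒜 hq))
  have h1 : Subsingleton (Abelian.Ext.{u} (ModuleCat.of R (R ⧸ q)) (ModuleCat.of R X.carrier) (k + 1)) :=
    subsingleton_ext_succ 𝒜 X.gr hX k Z
  haveI := (GorLib.subsingleton_ext_localized_iff p.primeCompl (k + 1) (R ⧸ q) X.carrier).1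
    (LocalizedModule.subsingleton_iff.2 fun x => ⟨1, one_mem _, by rw [one_smul]; exact Subsingleton.elim _ _⟩)
  let f0 : (R ⧸ q) →ₗ[R] Quo q p := (IsScalarTower.toAlgHom R (R ⧸ q) (Quo q p)).toLinearMap
  haveI : IsLocalizedModule p.primeCompl f0 := inferInstance
  obtain ⟨e⟩ := nonempty_equiv_localized p.primeCompl f0
  exact GorLib.ext_subsingleton_of_iso e.symm.toModuleIso _ (k + 1)

/-- `Ext` from the localised quotient is the localisation of a graded module killed by `q`, the same
for all primes. -/
theorem exists_graded_rep (hq : q.IsHomogeneous 𝒜) : ∀ (i : ℕ) (M : GrLC.GMod.{u} 𝒜),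
    ∃ W : GrLC.GMod.{u} 𝒜, (∀ r ∈ q, ∀ w : W.carrier, r • w = 0) ∧ ∀ (p : Ideal R) [p.IsPrime],
      Nonempty (Abelian.Ext.{u} (ModuleCat.of (Localization.AtPrime p) (Quo q p))
        (ModuleCat.of (Localization.AtPrime p) (LocalizedModule p.primeCompl M.carrier)) i
        ≃ₗ[Localization.AtPrime p] LocalizedModule p.primeCompl W.carrier) := by
  intro i
  induction i with
  | zero =>
    intro M
    refine ⟨subG 𝒜 M.gr (killed_homogeneous q 𝒜 hq M), fun r hr w => ?_, fun p _ => ?_⟩
    · refine subIncl_injective 𝒜 M.gr (killed_homogeneous q 𝒜 hq M) ?_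
      rw [map_smul, map_zero]
      exact (mem_killed q).1 (subIncl_mem 𝒜 M.gr (killed_homogeneous q 𝒜 hq M) w) r hr
    · obtain ⟨e⟩ := nonempty_equiv_localized p.primeCompl (killedHom q p M.carrier)
      exact ⟨(Abelian.Ext.linearEquiv₀ (R := Localization.AtPrime p)).trans
        ((ModuleCat.homLinearEquiv (S := Localization.AtPrime p)).trans e)⟩
  | succ i ih =>
    intro M
    obtain ⟨X, f, hf, hfi, hX⟩ := exists_starInj_embedding 𝒜 M.gr
    have hR := range_homogeneous M.gr X.gr ((isGrHom_iff _ _).1 hf)
    let M1 := quotG 𝒜 X.gr hR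
    let g : X.carrier →ₗ[R] M1.carrier := quotMk 𝒜 X.gr hR
    have hex : Function.Exact f g := fun x => by
      rw [← LinearMap.mem_ker, ker_quotMk]; exact Iff.rfl
    -- the localised sequence at a prime
    have hseq : ∀ (p : Ideal R) [p.IsPrime], ∃ T : ShortComplex (ModuleCat.{u} (Localization.AtPrime p)),
        T.X₁ = ModuleCat.of _ (LocalizedModule p.primeCompl M.carrier) ∧ T.ShortExact ∧
        (∀ k : ℕ, Subsingleton (Abelian.Ext.{u} (ModuleCat.of _ (Quo q p)) T.X₂ (k + 1))) ∧
        T.X₃ = ModuleCat.of _ (LocalizedModule p.primeCompl M1.carrier) := fun p _ => by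
      have he := LocalizedModule.map_exact p.primeCompl f g hex
      refine ⟨ShortComplex.mk (X₁ := ModuleCat.of (Localization.AtPrime p) (LocalizedModule p.primeCompl M.carrier))
        (X₂ := ModuleCat.of (Localization.AtPrime p) (LocalizedModule p.primeCompl X.carrier))
        (X₃ := ModuleCat.of (Localization.AtPrime p) (LocalizedModule p.primeCompl M1.carrier))
        (ModuleCat.ofHom (LocalizedModule.map p.primeCompl f)) (ModuleCat.ofHom (LocalizedModule.map p.primeCompl g))
        (by apply ModuleCat.hom_ext; exact LinearMap.ext fun x => he.apply_apply_eq_zero x), rfl,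
        { exact := (ShortComplex.ShortExact.moduleCat_exact_iff_function_exact _).2 he
          mono_f := (ModuleCat.mono_iff_injective _).2 (LocalizedModule.map_injective _ f hfi)
          epi_g := (ModuleCat.epi_iff_surjective _).2
            (LocalizedModule.map_surjective _ g (quotMk_surjective 𝒜 X.gr hR)) },
        fun k => subsingleton_ext_localized q p 𝒜 hq hX k, rfl⟩
    rcases Nat.eq_zero_or_pos i with rfl | hi
    · -- the cokernel
      let KX := subG 𝒜 X.gr (killed_homogeneous q 𝒜 hq X)
      let K1 := subG 𝒜 M1.gr (killed_homogeneous q 𝒜 hq M1)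
      let g' : KX.carrier →ₗ[R] K1.carrier := toSubG 𝒜 M1.gr (killed_homogeneous q 𝒜 hq M1)
        (g ∘ₗ subIncl 𝒜 X.gr (killed_homogeneous q 𝒜 hq X)) fun x => (mem_killed q).2 fun r hr => by
          rw [LinearMap.comp_apply, ← map_smul,
            (mem_killed q).1 (subIncl_mem 𝒜 X.gr (killed_homogeneous q 𝒜 hq X) x) r hr, map_zero]
      have hg' : GrLC.IsGrHom KX.gr K1.gr g' := fun j x hx =>
        quotMk_grHom 𝒜 X.gr hR j _ (subIncl_grHom 𝒜 X.gr (killed_homogeneous q 𝒜 hq X) j x hx)
      have hR' := range_homogeneous KX.gr K1.gr ((isGrHom_iff _ _).1 hg')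
      refine ⟨quotG 𝒜 K1.gr hR', fun r hr w => ?_, fun p _ => ?_⟩
      · obtain ⟨k, rfl⟩ := quotMk_surjective 𝒜 K1.gr hR' w
        rw [← map_smul, show r • k = 0 from subIncl_injective 𝒜 M1.gr (killed_homogeneous q 𝒜 hq M1) (by
          rw [map_smul, map_zero]
          exact (mem_killed q).1 (subIncl_mem 𝒜 M1.gr (killed_homogeneous q 𝒜 hq M1) k) r hr), map_zero]
      let B := Localization.AtPrime p
      let MB := LocalizedModule p.primeCompl M.carrier
      let XB := LocalizedModule p.primeCompl X.carrier
      let NB := LocalizedModule p.primeCompl M1.carrier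
      let fS : MB →ₗ[B] XB := LocalizedModule.map p.primeCompl f
      let gS : XB →ₗ[B] NB := LocalizedModule.map p.primeCompl g
      have he : Function.Exact fS gS := LocalizedModule.map_exact p.primeCompl f g hex
      let T : ShortComplex (ModuleCat.{u} B) := ShortComplex.mk (X₁ := ModuleCat.of B MB)
        (X₂ := ModuleCat.of B XB) (X₃ := ModuleCat.of B NB) (ModuleCat.ofHom fS) (ModuleCat.ofHom gS)
        (by apply ModuleCat.hom_ext; exact LinearMap.ext fun x => he.apply_apply_eq_zero x)
      have hT : T.ShortExact :=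
        { exact := (ShortComplex.ShortExact.moduleCat_exact_iff_function_exact _).2 he
          mono_f := (ModuleCat.mono_iff_injective _).2 (LocalizedModule.map_injective _ f hfi)
          epi_g := (ModuleCat.epi_iff_surjective _).2
            (LocalizedModule.map_surjective _ g (quotMk_surjective 𝒜 X.gr hR)) }
      haveI := subsingleton_ext_localized q p 𝒜 hq hX 0
      let QB := ModuleCat.of B (Quo q p)
      let l0 : Abelian.Ext.{u} QB (ModuleCat.of B NB) 0 ≃ₗ[B] (Quo q p →ₗ[B] NB) :=
        (Abelian.Ext.linearEquiv₀ (R := B)).trans (ModuleCat.homLinearEquiv (S := B))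
      let δ : (Quo q p →ₗ[B] NB) →ₗ[B] Abelian.Ext.{u} QB T.X₁ 1 :=
        hT.extClass.postcompOfLinear B QB (show 0 + 1 = 1 from rfl) ∘ₗ l0.symm.toLinearMap
      have hδs : Function.Surjective δ := fun z => by
        obtain ⟨y, hy⟩ := Abelian.Ext.covariant_sequence_exact₁ QB hT z
          (Subsingleton.elim (α := Abelian.Ext.{u} QB (ModuleCat.of B XB) 1) _ _) (zero_add 1)
        exact ⟨l0 y, by rw [← hy]; show (l0.symm (l0 y)).comp hT.extClass (zero_add 1) = y.comp hT.extClass (zero_add 1); rw [l0.symm_apply_apply]⟩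
      let post : (Quo q p →ₗ[B] XB) →ₗ[B] (Quo q p →ₗ[B] NB) := gS.compRight B
      have hδk : LinearMap.ker δ = LinearMap.range post := by
        ext φ
        rw [LinearMap.mem_ker, LinearMap.mem_range]
        constructor
        · intro h
          obtain ⟨y, hy⟩ := Abelian.Ext.covariant_sequence_exact₃ QB hT (l0.symm φ) (zero_add 1) h
          obtain ⟨η, rfl⟩ := (Abelian.Ext.mk₀_bijective _ _).2 y
          rw [Abelian.Ext.mk₀_comp_mk₀] at hy
          refine ⟨η.hom, ?_⟩
          rw [← l0.apply_symm_apply φ, ← hy]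
          exact (congrArg ModuleCat.Hom.hom ((Abelian.Ext.linearEquiv₀ (R := B)).apply_symm_apply (η ≫ T.g))).symm
        · rintro ⟨η, rfl⟩
          show (Abelian.Ext.mk₀ (ModuleCat.ofHom η ≫ T.g)).comp hT.extClass (zero_add 1) = 0
          rw [← Abelian.Ext.mk₀_comp_mk₀]
          exact Abelian.Ext.comp_assoc_of_second_deg_zero _ _ hT.extClass (zero_add 1) |>.trans (by
            rw [hT.comp_extClass, Abelian.Ext.comp_zero])
      let ΦX : KX.carrier →ₗ[R] (Quo q p →ₗ[B] XB) := killedHom q p X.carrier
      let Φ1 : K1.carrier →ₗ[R] (Quo q p →ₗ[B] NB) := killedHom q p M1.carrier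
      haveI : IsLocalizedModule p.primeCompl ΦX := isLocalized_killedHom q p X.carrier
      haveI : IsLocalizedModule p.primeCompl Φ1 := isLocalized_killedHom q p M1.carrier
      have hcomm : ∀ x, post (ΦX x) = Φ1 (g' x) := fun x => by
        refine quoHom_ext q p ?_
        show gS (killedHom q p X.carrier x (Submodule.Quotient.mk 1)) =
          killedHom q p M1.carrier (g' x) (Submodule.Quotient.mk 1)
        rw [killedHom_one, killedHom_one]
        exact IsLocalizedModule.map_apply _ _ _ _ _
      have hrange : LinearMap.range post = (LinearMap.range g').localized' B p.primeCompl Φ1 := by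
        ext φ
        rw [Submodule.mem_localized', LinearMap.mem_range]
        constructor
        · rintro ⟨η, rfl⟩
          obtain ⟨⟨x, s⟩, hs⟩ := IsLocalizedModule.surj p.primeCompl ΦX η
          refine ⟨g' x, ⟨x, rfl⟩, s, ?_⟩
          rw [IsLocalizedModule.mk'_eq_iff, ← hcomm]
          show post (ΦX x) = (s : R) • post η
          rw [← show (s : R) • η = ΦX x from hs, LinearMap.map_smul_of_tower]
        · rintro ⟨_, ⟨x, rfl⟩, s, rfl⟩
          refine ⟨IsLocalization.mk' B (1 : R) s • ΦX x, ?_⟩
          rw [map_smul, hcomm, ← IsLocalizedModule.mk'_one p.primeCompl Φ1 (g' x),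
            IsLocalizedModule.mk'_smul_mk', one_smul, mul_one]
      let c : (quotG 𝒜 K1.gr hR').carrier →ₗ[R]
          (Quo q p →ₗ[B] NB) ⧸ (LinearMap.range g').localized' B p.primeCompl Φ1 :=
        (LinearMap.range g').toLocalizedQuotient' B p.primeCompl Φ1
      haveI : IsLocalizedModule p.primeCompl c :=
        IsLocalizedModule.toLocalizedQuotient' B p.primeCompl Φ1 (LinearMap.range g')
      obtain ⟨e⟩ := nonempty_equiv_localized p.primeCompl c
      exact ⟨(((Submodule.quotEquivOfEq _ _ (hrange.symm.trans hδk.symm)).trans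
        (δ.quotKerEquivOfSurjective hδs)).symm).trans e⟩
    · obtain ⟨W, hW, hW'⟩ := ih M1
      refine ⟨W, hW, fun p _ => ?_⟩
      obtain ⟨T, h1, hT, hv, h3⟩ := hseq p
      obtain ⟨e⟩ := hW' p
      rw [← h1]
      rw [← h3] at e
      let QB := ModuleCat.of (Localization.AtPrime p) (Quo q p)
      let δ : Abelian.Ext.{u} QB T.X₃ i →ₗ[Localization.AtPrime p] Abelian.Ext.{u} QB T.X₁ (i + 1) :=
        hT.extClass.postcompOfLinear (Localization.AtPrime p) QB rfl
      refine ⟨(LinearEquiv.ofBijective δ ⟨?_, fun z => ?_⟩).symm.trans e⟩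
      · rw [injective_iff_map_eq_zero]
        intro z hz
        obtain ⟨j, rfl⟩ := Nat.exists_eq_add_of_le' hi
        obtain ⟨y, hy⟩ := Abelian.Ext.covariant_sequence_exact₃ QB hT z rfl hz
        haveI := hv j
        rw [← hy, Subsingleton.elim y 0, Abelian.Ext.zero_comp]
      · haveI := hv i
        exact Abelian.Ext.covariant_sequence_exact₁ QB hT z (Subsingleton.elim _ _) rfl

end Groth.Agent.GrCoreLib
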