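import Mathlib
import Groth.Agent.GrInjLib.Basic

/-! A graded domain localised at a prime without homogeneous elements is regular. -/

set_option autoImplicit false
set_option linter.style.haveILetI false
set_option linter.unusedSectionVars false
universe u

open DirectSum

namespace Groth.Agent.GrCoreLib

variable {ι : Type} [AddCommGroup ι] [DecidableEq ι] {R : Type u} [CommRing R]
  (𝒜 : ι → AddSubgroup R) [GradedRing 𝒜] (q : Ideal R) [hqP : q.IsPrime]

/-- The map to the fraction field of `R ⧸ q`. -/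
noncomputable def toFrac : R →+* FractionRing (R ⧸ q) :=
  (algebraMap (R ⧸ q) (FractionRing (R ⧸ q))).comp (Ideal.Quotient.mk q)

local notation "𝕜" => FractionRing (R ⧸ q)

theorem toFrac_eq_zero {x : R} : toFrac q x = 0 ↔ x ∈ q := by
  show algebraMap (R ⧸ q) 𝕜 (Ideal.Quotient.mk q x) = 0 ↔ _
  rw [FaithfulSMul.algebraMap_eq_zero_iff, Ideal.Quotient.eq_zero_iff_mem]

/-- Fractions of homogeneous elements of equal degree. -/
noncomputable def coeffField : Subfield (FractionRing (R ⧸ q)) where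
  carrier := {z | ∃ a, ∃ x ∈ 𝒜 a, ∃ y ∈ 𝒜 a, y ∉ q ∧ z = toFrac q x / toFrac q y}
  zero_mem' := ⟨0, 0, zero_mem _, 1, SetLike.one_mem_graded 𝒜,
    fun h => hqP.ne_top ((Ideal.eq_top_iff_one q).2 h), by simp⟩
  one_mem' := ⟨0, 1, SetLike.one_mem_graded 𝒜, 1, SetLike.one_mem_graded 𝒜,
    fun h => hqP.ne_top ((Ideal.eq_top_iff_one q).2 h), by simp⟩
  add_mem' := by
    rintro _ _ ⟨a, x, hx, y, hy, hyq, rfl⟩ ⟨a', x', hx', y', hy', hyq', rfl⟩
    refine ⟨a + a', x * y' + y * x', add_mem (SetLike.mul_mem_graded hx hy') (SetLike.mul_mem_graded hy hx'),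
      y * y', SetLike.mul_mem_graded hy hy', hqP.mul_notMem hyq hyq', ?_⟩
    rw [div_add_div _ _ (mt (toFrac_eq_zero q).1 hyq) (mt (toFrac_eq_zero q).1 hyq'), map_add, map_mul,
      map_mul, map_mul]
  mul_mem' := by
    rintro _ _ ⟨a, x, hx, y, hy, hyq, rfl⟩ ⟨a', x', hx', y', hy', hyq', rfl⟩
    exact ⟨a + a', x * x', SetLike.mul_mem_graded hx hx', y * y', SetLike.mul_mem_graded hy hy',
      hqP.mul_notMem hyq hyq', by rw [div_mul_div_comm, map_mul, map_mul]⟩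
  neg_mem' := by
    rintro _ ⟨a, x, hx, y, hy, hyq, rfl⟩
    exact ⟨a, -x, neg_mem hx, y, hy, hyq, by rw [map_neg, neg_div]⟩
  inv_mem' := by
    rintro _ ⟨a, x, hx, y, hy, hyq, rfl⟩
    by_cases h : x ∈ q
    · exact ⟨a, x, hx, y, hy, hyq, by rw [(toFrac_eq_zero q).2 h, zero_div, inv_zero]⟩
    · exact ⟨a, y, hy, x, hx, h, inv_div _ _⟩

/-- A unit of the given degree in the graded field. -/
def Deg (h : ι) (z : FractionRing (R ⧸ q)) : Prop :=
  ∃ a b, ∃ x ∈ 𝒜 a, ∃ y ∈ 𝒜 b, x ∉ q ∧ y ∉ q ∧ a - b = h ∧ z = toFrac q x / toFrac q y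

theorem Deg.mul {h h' : ι} {z z' : 𝕜} (H : Deg 𝒜 q h z) (H' : Deg 𝒜 q h' z') :
    Deg 𝒜 q (h + h') (z * z') := by
  obtain ⟨a, b, x, hx, y, hy, hxq, hyq, rfl, rfl⟩ := H
  obtain ⟨a', b', x', hx', y', hy', hxq', hyq', rfl, rfl⟩ := H'
  exact ⟨a + a', b + b', x * x', SetLike.mul_mem_graded hx hx', y * y', SetLike.mul_mem_graded hy hy',
    hqP.mul_notMem hxq hxq', hqP.mul_notMem hyq hyq', by abel,
    by rw [div_mul_div_comm, map_mul, map_mul]⟩

theorem Deg.inv {h : ι} {z : 𝕜} (H : Deg 𝒜 q h z) : Deg 𝒜 q (-h) z⁻¹ := by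
  obtain ⟨a, b, x, hx, y, hy, hxq, hyq, rfl, rfl⟩ := H
  exact ⟨b, a, y, hy, x, hx, hyq, hxq, by abel, inv_div _ _⟩

theorem Deg.ne_zero {h : ι} {z : 𝕜} (H : Deg 𝒜 q h z) : z ≠ 0 := by
  obtain ⟨a, b, x, hx, y, hy, hxq, hyq, rfl, rfl⟩ := H
  exact div_ne_zero (mt (toFrac_eq_zero q).1 hxq) (mt (toFrac_eq_zero q).1 hyq)

theorem deg_one : Deg 𝒜 q 0 1 :=
  ⟨0, 0, 1, SetLike.one_mem_graded 𝒜, 1, SetLike.one_mem_graded 𝒜,
    fun h => hqP.ne_top ((Ideal.eq_top_iff_one q).2 h), fun h => hqP.ne_top ((Ideal.eq_top_iff_one q).2 h),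
    sub_zero 0, by simp⟩

theorem deg_toFrac {a : ι} {x : R} (hx : x ∈ 𝒜 a) (hxq : x ∉ q) : Deg 𝒜 q a (toFrac q x) :=
  ⟨a, 0, x, hx, 1, SetLike.one_mem_graded 𝒜, hxq, fun h => hqP.ne_top ((Ideal.eq_top_iff_one q).2 h),
    sub_zero a, by simp⟩

theorem Deg.div_mem {h : ι} {z z' : 𝕜} (H : Deg 𝒜 q h z) (H' : Deg 𝒜 q h z') :
    z / z' ∈ coeffField 𝒜 q := by
  have H'' := H.mul 𝒜 q (H'.inv 𝒜 q)
  rw [← div_eq_mul_inv, add_neg_cancel] at H''
  obtain ⟨a, b, x, hx, y, hy, hxq, hyq, hab, e⟩ := H''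
  rw [sub_eq_zero] at hab
  exact ⟨a, x, hx, y, hab ▸ hy, hyq, e⟩

theorem Deg.prod {κ : Type*} (s : Finset κ) (h : κ → ι) (z : κ → 𝕜) (H : ∀ j ∈ s, Deg 𝒜 q (h j) (z j)) :
    Deg 𝒜 q (∑ j ∈ s, h j) (∏ j ∈ s, z j) := by
  classical
  induction s using Finset.induction_on with
  | empty => simpa using deg_one 𝒜 q
  | insert j s hj ih =>
    rw [Finset.sum_insert hj, Finset.prod_insert hj]
    exact (H j (Finset.mem_insert_self j s)).mul 𝒜 q (ih fun k hk => H k (Finset.mem_insert_of_mem hk))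

theorem Deg.pow {h : ι} {z : 𝕜} (H : Deg 𝒜 q h z) : ∀ n : ℕ, Deg 𝒜 q (n • h) (z ^ n)
  | 0 => by simpa using deg_one 𝒜 q
  | n + 1 => by rw [succ_nsmul, pow_succ]; exact (Deg.pow H n).mul 𝒜 q H

theorem Deg.zpow {h : ι} {z : 𝕜} (H : Deg 𝒜 q h z) : ∀ n : ℤ, Deg 𝒜 q (n • h) (z ^ n)
  | .ofNat n => by simpa using H.pow 𝒜 q n
  | .negSucc n => by
    rw [negSucc_zsmul, zpow_negSucc]
    exact (H.pow 𝒜 q (n + 1)).inv 𝒜 q

/-- Units of distinct degrees have no nonzero relations. -/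
theorem eq_zero_of_sum {κ : Type*} (s : Finset κ) (h : κ → ι) (hinj : Set.InjOn h s) (z : κ → 𝕜)
    (H : ∀ j ∈ s, Deg 𝒜 q (h j) (z j)) (hq : q.IsHomogeneous 𝒜) (hs : ∑ j ∈ s, z j = 0) :
    s = ∅ := by
  classical
  by_contra hne
  obtain ⟨j0, hj0⟩ := Finset.nonempty_of_ne_empty hne
  choose! a b x hx y hy hxq hyq hab hz using H
  have hY : ∀ j ∈ s, ∏ i ∈ s.erase j, toFrac q (y i) = toFrac q (∏ i ∈ s.erase j, y i) := fun j _ =>
    (map_prod _ _ _).symm
  have hne' : ∏ i ∈ s, toFrac q (y i) ≠ 0 :=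
    Finset.prod_ne_zero_iff.2 fun i hi => mt (toFrac_eq_zero q).1 (hyq i hi)
  have h1 : ∑ j ∈ s, toFrac q (x j * ∏ i ∈ s.erase j, y i) = 0 := by
    rw [show (0 : 𝕜) = (∑ j ∈ s, z j) * ∏ i ∈ s, toFrac q (y i) by rw [hs, zero_mul], Finset.sum_mul]
    refine Finset.sum_congr rfl fun j hj => ?_
    rw [← Finset.mul_prod_erase s _ hj, ← mul_assoc, hz j hj,
      div_mul_cancel₀ _ (mt (toFrac_eq_zero q).1 (hyq j hj)), map_mul, hY j hj]
  rw [← map_sum, toFrac_eq_zero] at h1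
  have hmem : ∀ j ∈ s, x j * ∏ i ∈ s.erase j, y i ∈ 𝒜 (h j + ∑ i ∈ s, b i) := fun j hj => by
    rw [← hab j hj, ← Finset.add_sum_erase s b hj, ← add_assoc, sub_add_cancel]
    exact SetLike.mul_mem_graded (hx j hj)
      (SetLike.prod_mem_graded (A := 𝒜) b y fun i hi => hy i (Finset.mem_of_mem_erase hi))
  have h2 := hq (h j0 + ∑ i ∈ s, b i) h1
  rw [decompose_sum, DFinsupp.finset_sum_apply, AddSubmonoidClass.coe_finsetSum,
    Finset.sum_eq_single_of_mem j0 hj0, decompose_of_mem_same 𝒜 (hmem j0 hj0)] at h2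
  · rcases hqP.mem_or_mem h2 with h3 | h3
    · exact hxq j0 hj0 h3
    · obtain ⟨i, hi, h4⟩ := hqP.prod_mem_iff.1 h3
      exact hyq i (Finset.mem_of_mem_erase hi) h4
  · intro j hj hne
    exact decompose_of_mem_ne 𝒜 (hmem j hj) fun e => hne (hinj hj hj0 (add_right_cancel e))

variable [IsNoetherianRing R] [Module.Free ℤ ι] [Module.Finite ℤ ι] (p : Ideal R) [hpP : p.IsPrime]

/-- The quotient by the core, localised, is regular. -/
theorem isRegular_quot_core (hq : q.IsHomogeneous 𝒜) (hle : q ≤ p)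
    (hcore : ∀ a, ∀ x ∈ 𝒜 a, x ∈ p → x ∈ q) :
    IsRegularLocalRing (Localization.AtPrime p ⧸ q.map (algebraMap R (Localization.AtPrime p))) ∧
      ringKrullDim (Localization.AtPrime p ⧸ q.map (algebraMap R (Localization.AtPrime p))) =
        (p.map (Ideal.Quotient.mk q)).height ∧
      ringKrullDim (Localization.AtPrime p ⧸ q.map (algebraMap R (Localization.AtPrime p))) ≤
        Module.finrank ℤ ι := by
  classical
  haveI : (p.map (Ideal.Quotient.mk q)).IsPrime :=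
    Ideal.map_isPrime_of_surjective Ideal.Quotient.mk_surjective (by rwa [Ideal.mk_ker])
  have hmemP : ∀ r : R, Ideal.Quotient.mk q r ∈ p.map (Ideal.Quotient.mk q) ↔ r ∈ p := fun r => by
    rw [← Ideal.mem_comap, Ideal.comap_map_of_surjective _ Ideal.Quotient.mk_surjective,
      ← RingHom.ker_eq_comap_bot, Ideal.mk_ker, sup_eq_left.2 hle]
  let P := p.map (Ideal.Quotient.mk q)
  let L := Localization.AtPrime P
  -- the two local rings agree
  have heq : Algebra.algebraMapSubmonoid (R ⧸ q) p.primeCompl = P.primeCompl := by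
    ext d
    obtain ⟨r, rfl⟩ := Ideal.Quotient.mk_surjective d
    constructor
    · rintro ⟨t, ht, hte⟩
      show Ideal.Quotient.mk q r ∉ P
      rw [← hte]
      exact fun h => ht ((hmemP t).1 h)
    · exact fun h => ⟨r, fun h' => h ((hmemP r).2 h'), rfl⟩
  haveI : IsLocalization.AtPrime (Localization.AtPrime p ⧸ q.map (algebraMap R (Localization.AtPrime p))) P := by
    show IsLocalization P.primeCompl _
    rw [← heq]
    infer_instance
  let e : (Localization.AtPrime p ⧸ q.map (algebraMap R (Localization.AtPrime p))) ≃+* L :=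
    (IsLocalization.algEquiv P.primeCompl _ _).toRingEquiv
  suffices hL : IsRegularLocalRing L ∧ ringKrullDim L ≤ Module.finrank ℤ ι from
    haveI := hL.1
    ⟨IsRegularLocalRing.of_ringEquiv e.symm,
      (ringKrullDim_eq_of_ringEquiv e).trans (IsLocalization.AtPrime.ringKrullDim_eq_height P L),
      (ringKrullDim_eq_of_ringEquiv e).trans_le hL.2⟩
  -- embed into the fraction field
  let ψ : L →+* 𝕜 := IsLocalization.lift (M := P.primeCompl) (g := algebraMap (R ⧸ q) 𝕜)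
    (fun d => isUnit_iff_ne_zero.2 fun h => d.2 (by
      rw [FaithfulSMul.algebraMap_eq_zero_iff] at h
      rw [h]; exact zero_mem _))
  let mkL : R →+* L := (algebraMap (R ⧸ q) L).comp (Ideal.Quotient.mk q)
  have hψ : ∀ r, ψ (mkL r) = toFrac q r := fun r => IsLocalization.lift_eq _ _
  have hψi : Function.Injective ψ := (IsLocalization.lift_injective_iff _).2 fun x y =>
    ⟨fun h => congrArg _ ((IsLocalization.injective L
      (show P.primeCompl ≤ nonZeroDivisors (R ⧸ q) from P.primeCompl_le_nonZeroDivisors)) h),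
      fun h => congrArg _ (FaithfulSMul.algebraMap_injective (R ⧸ q) 𝕜 h)⟩
  have hunit : ∀ t : R, t ∉ p → IsUnit (mkL t) := fun t ht =>
    IsLocalization.map_units L (⟨Ideal.Quotient.mk q t, fun h => ht ((hmemP t).1 h)⟩ : P.primeCompl)
  have hlift : ∀ z : 𝕜, (∃ x y : R, y ∉ p ∧ z = toFrac q x / toFrac q y) → ∃ l : L, ψ l = z := by
    rintro z ⟨x, y, hy, rfl⟩
    obtain ⟨w, hw⟩ := hunit y hy
    refine ⟨mkL x * ↑w⁻¹, ?_⟩
    rw [map_mul, hψ, map_units_inv, hw, hψ, div_eq_mul_inv]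
  -- the degrees
  let H : Submodule ℤ ι := Submodule.span ℤ {a | ∃ x ∈ 𝒜 a, x ∉ q}
  have hdeg : ∀ h ∈ H, ∃ z, Deg 𝒜 q h z := fun h hh => by
    induction hh using Submodule.span_induction with
    | mem a ha => obtain ⟨x, hx, hxq⟩ := ha; exact ⟨_, deg_toFrac 𝒜 q hx hxq⟩
    | zero => exact ⟨1, deg_one 𝒜 q⟩
    | add h h' _ _ H1 H2 =>
      obtain ⟨z, hz⟩ := H1
      obtain ⟨z', hz'⟩ := H2
      exact ⟨_, hz.mul 𝒜 q hz'⟩
    | smul c h _ H1 => obtain ⟨z, hz⟩ := H1; exact ⟨_, hz.zpow 𝒜 q c⟩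
  let bas := Module.finBasis ℤ H
  choose u hu using fun i => hdeg (bas i : ι) (bas i).2
  have hu' : ∀ i, ∃ l : L, ψ l = u i := fun i => by
    obtain ⟨a, b, x, hx, y, hy, hxq, hyq, -, e⟩ := hu i
    exact hlift _ ⟨x, y, fun h => hyq (hcore b y hy h), e⟩
  choose uL huL using hu'
  have huLu : ∀ i, IsUnit (uL i) := fun i => by
    obtain ⟨a, b, x, hx, y, hy, hxq, hyq, -, e⟩ := hu i
    obtain ⟨l, hl⟩ := hlift (u i)⁻¹ ⟨y, x, fun h => hxq (hcore a x hx h), by rw [e, inv_div]⟩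
    refine IsUnit.of_mul_eq_one l (hψi ?_)
    rw [map_mul, huL, hl, map_one, mul_inv_cancel₀ ((hu i).ne_zero 𝒜 q)]
  have hk : ∀ c : coeffField 𝒜 q, ∃ l : L, ψ l = c := by
    rintro ⟨z, a, x, hx, y, hy, hyq, rfl⟩
    exact hlift _ ⟨x, y, fun h => hyq (hcore a y hy h), rfl⟩
  choose cL hcL using hk
  let c : coeffField 𝒜 q →+* L :=
    { toFun := cL
      map_one' := hψi (by rw [hcL, map_one]; rfl)
      map_zero' := hψi (by rw [hcL, map_zero]; rfl)
      map_mul' := fun x y => hψi (by rw [hcL, map_mul, hcL, hcL]; rfl)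
      map_add' := fun x y => hψi (by rw [hcL, map_add, hcL, hcL]; rfl) }
  let n := Module.finrank ℤ H
  let W := MvPolynomial (Fin n) (coeffField 𝒜 q)
  let g : W →+* L := MvPolynomial.eval₂Hom c uL
  have hsum : ∀ m : Fin n → ℤ, (∑ i, m i • (bas i : ι)) = ((∑ i, m i • bas i : H) : ι) := fun m => by
    simp
  have hdegm : ∀ m : Fin n → ℤ, Deg 𝒜 q (∑ i, m i • (bas i : ι)) (∏ i, u i ^ m i) := fun m =>
    Deg.prod 𝒜 q _ _ _ fun i _ => (hu i).zpow 𝒜 q (m i)
  have hψg : ∀ w : W, ψ (g w) = ∑ d ∈ w.support, ((w.coeff d : coeffField 𝒜 q) : 𝕜) * ∏ i, u i ^ (d i) := fun w => by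
    show ψ (MvPolynomial.eval₂ c uL w) = _
    rw [MvPolynomial.eval₂_eq', map_sum]
    refine Finset.sum_congr rfl fun d _ => ?_
    rw [map_mul, map_prod, show ψ (c (w.coeff d)) = _ from hcL _]
    refine congrArg _ (Finset.prod_congr rfl fun i _ => ?_)
    rw [map_pow, huL]
  have hginj : Function.Injective g := by
    refine (injective_iff_map_eq_zero g).2 fun w hw => MvPolynomial.support_eq_empty.1 ?_
    have h0 := (hψg w).symm.trans (by rw [hw, map_zero])
    refine eq_zero_of_sum 𝒜 q w.support (fun d => ∑ i, ((d i : ℕ) : ℤ) • (bas i : ι)) ?_ _ ?_ hq h0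
    · intro d _ d' _ e
      simp only [hsum] at e
      have e' := congrArg bas.equivFun (Subtype.ext e : (∑ i, ((d i : ℕ) : ℤ) • bas i) = ∑ i, ((d' i : ℕ) : ℤ) • bas i)
      rw [← bas.equivFun_symm_apply, ← bas.equivFun_symm_apply, LinearEquiv.apply_symm_apply,
        LinearEquiv.apply_symm_apply] at e'
      exact Finsupp.ext fun i => by exact_mod_cast congrFun e' i
    · intro d hd
      have hne : ((w.coeff d : coeffField 𝒜 q) : 𝕜) ≠ 0 := fun h =>
        MvPolynomial.mem_support_iff.1 hd (Subtype.ext h)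
      obtain ⟨a, x, hx, y, hy, hyq, e⟩ := (w.coeff d).2
      have hc : Deg 𝒜 q 0 ((w.coeff d : coeffField 𝒜 q) : 𝕜) :=
        ⟨a, a, x, hx, y, hy, fun h => hne (by rw [e, (toFrac_eq_zero q).2 h, zero_div]), hyq,
          sub_self a, e⟩
      have := hc.mul 𝒜 q (hdegm fun i => (d i : ℤ))
      simp only [zero_add, zpow_natCast] at this
      exact this
  letI : Algebra W L := g.toAlgebra
  let Q : Ideal W := (IsLocalRing.maximalIdeal L).comap g
  -- the numerators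
  let S : Subring L :=
    { carrier := {l | ∃ w, ∃ v, v ∉ Q ∧ l * g v = g w}
      one_mem' := ⟨1, 1, (Ideal.ne_top_iff_one Q).1 (Ideal.IsPrime.ne_top inferInstance), one_mul _⟩
      zero_mem' := ⟨0, 1, (Ideal.ne_top_iff_one Q).1 (Ideal.IsPrime.ne_top inferInstance), by simp⟩
      add_mem' := fun {l l'} ⟨w, v, hv, e⟩ ⟨w', v', hv', e'⟩ =>
        ⟨w * v' + w' * v, v * v', (inferInstance : Q.IsPrime).mul_notMem hv hv', by
          rw [map_mul, map_add, map_mul, map_mul, ← e, ← e']; ring⟩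
      mul_mem' := fun {l l'} ⟨w, v, hv, e⟩ ⟨w', v', hv', e'⟩ =>
        ⟨w * w', v * v', (inferInstance : Q.IsPrime).mul_notMem hv hv', by
          rw [map_mul, map_mul, ← e, ← e']; ring⟩
      neg_mem' := fun {l} ⟨w, v, hv, e⟩ => ⟨-w, v, hv, by rw [map_neg, ← e]; ring⟩ }
  have hhom : ∀ a, ∀ x ∈ 𝒜 a, mkL x ∈ S := fun a x hx => by
    by_cases hxq : x ∈ q
    · rw [show mkL x = 0 from hψi (by rw [hψ, (toFrac_eq_zero q).2 hxq, map_zero])]
      exact zero_mem S
    have ha : a ∈ H := Submodule.subset_span ⟨x, hx, hxq⟩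
    let m : Fin n → ℤ := bas.equivFun ⟨a, ha⟩
    have hm : ∑ i, m i • (bas i : ι) = a := by
      rw [hsum, bas.sum_equivFun ⟨a, ha⟩]
    have hdiv := (deg_toFrac 𝒜 q hx hxq).div_mem 𝒜 q (hm ▸ hdegm m)
    refine ⟨MvPolynomial.C ⟨_, hdiv⟩ * ∏ i, MvPolynomial.X i ^ (m i).toNat,
      ∏ i, MvPolynomial.X i ^ (-m i).toNat, fun hv => ?_, ?_⟩
    · obtain ⟨i, -, hi⟩ := (inferInstance : Q.IsPrime).prod_mem_iff.1 hv
      refine (IsLocalRing.notMem_maximalIdeal.2 ((huLu i).pow (-m i).toNat)) ?_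
      have hi' : g (MvPolynomial.X i ^ (-m i).toNat) ∈ IsLocalRing.maximalIdeal L := hi
      rwa [map_pow, show g (MvPolynomial.X i) = uL i from MvPolynomial.eval₂_X c uL i] at hi'
    · refine hψi ?_
      simp only [map_mul, map_prod, map_pow, show ∀ i, g (MvPolynomial.X i) = uL i from MvPolynomial.eval₂_X c uL,
        show ∀ k, g (MvPolynomial.C k) = c k from MvPolynomial.eval₂_C c uL, huL, hψ]
      rw [show ψ (c ⟨_, hdiv⟩) = toFrac q x / ∏ i, u i ^ m i from hcL _, div_mul_eq_mul_div,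
        eq_div_iff (Finset.prod_ne_zero_iff.2 fun i _ => zpow_ne_zero _ ((hu i).ne_zero 𝒜 q)),
        mul_assoc, ← Finset.prod_mul_distrib]
      refine congrArg _ (Finset.prod_congr rfl fun i _ => ?_)
      rw [← zpow_natCast, ← zpow_natCast, ← zpow_add₀ ((hu i).ne_zero 𝒜 q)]
      congr 1
      omega
  have hmk : ∀ r, mkL r ∈ S := fun r => by
    rw [← sum_support_decompose 𝒜 r, map_sum]
    exact sum_mem fun a _ => hhom a _ (decompose 𝒜 r a).2
  haveI : IsLocalization.AtPrime L Q := by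
    refine ⟨fun v => ?_, fun z => ?_, fun {x y} h => ⟨1, by rw [hginj h]⟩⟩
    · exact IsLocalRing.notMem_maximalIdeal.1 v.2
    · obtain ⟨⟨d, t⟩, hdt⟩ := IsLocalization.surj P.primeCompl z
      obtain ⟨r, rfl⟩ := Ideal.Quotient.mk_surjective d
      obtain ⟨s, hs⟩ := Ideal.Quotient.mk_surjective (t : R ⧸ q)
      have htu : IsUnit (mkL s) := hunit s fun h => t.2 (hs ▸ (hmemP s).2 h)
      obtain ⟨w, v, hv, e⟩ := hmk r
      obtain ⟨w', v', hv', e'⟩ := hmk s
      have hw' : w' ∉ Q := by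
        refine fun h => IsLocalRing.notMem_maximalIdeal.2
          (htu.mul (IsLocalRing.notMem_maximalIdeal.1 hv' : IsUnit (g v'))) ?_
        rw [e']; exact h
      refine ⟨⟨w * v', ⟨v * w', (inferInstance : Q.IsPrime).mul_notMem hv hw'⟩⟩, ?_⟩
      show z * g (v * w') = g (w * v')
      rw [map_mul, map_mul, ← e, ← e',
        show mkL r = z * mkL s from hdt.symm.trans (by rw [← hs]; rfl)]
      ring
  refine ⟨IsRegularLocalRing.of_ringEquiv (R := Localization.AtPrime Q)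
    (IsLocalization.algEquiv Q.primeCompl (Localization.AtPrime Q) L).toRingEquiv, ?_⟩
  rw [IsLocalization.AtPrime.ringKrullDim_eq_height Q L]
  refine Ideal.height_le_ringKrullDim_of_ne_top (Ideal.IsPrime.ne_top inferInstance) |>.trans ?_
  rw [show ringKrullDim W = ringKrullDim (coeffField 𝒜 q) + (Nat.card (Fin n) : ℕ) from MvPolynomial.ringKrullDim_of_isNoetherianRing, Nat.card_fin,
    ringKrullDim_eq_zero_of_isField (Field.toIsField _), zero_add]
  exact_mod_cast Submodule.finrank_le H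

end Groth.Agent.GrCoreLib
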