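import Mathlib
import Groth.Agent.GrInjLib.Primes

/-! Graded modules killed by a homogeneous prime are generically free, uniformly. -/

set_option autoImplicit false
set_option linter.style.haveILetI false
set_option linter.unusedSectionVars false
universe u

open DirectSum GrInjLib

namespace Groth.Agent.GrCoreLib

variable {ι : Type} [AddCommGroup ι] [DecidableEq ι] {R : Type u} [CommRing R]
  (𝒜 : ι → AddSubgroup R) [GradedRing 𝒜] (q : Ideal R) [hqP : q.IsPrime]
  {W : Type u} [AddCommGroup W] [Module R W] (𝒲 : ι → AddSubgroup W) [Decomposition 𝒲]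
  [SetLike.GradedSMul 𝒜 𝒲]

/-- A family is independent modulo `q`. -/
def IndepMod (T : Set W) : Prop :=
  ∀ l : W →₀ R, (↑l.support : Set W) ⊆ T → (l.sum fun w r => r • w) = 0 → ∀ w, l w ∈ q

include 𝒲 in
/-- A graded module killed by `q` has a homogeneous family which is a basis at every prime with core `q`. -/
theorem exists_free_family (hW : ∀ r ∈ q, ∀ w : W, r • w = 0) :
    ∃ κ : Type u, ∀ (p : Ideal R) [p.IsPrime], (∀ a, ∀ x ∈ 𝒜 a, x ∈ p → x ∈ q) →
      Nonempty ((κ →₀ (Localization.AtPrime p ⧸ q.map (algebraMap R (Localization.AtPrime p))))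
        ≃ₗ[Localization.AtPrime p] LocalizedModule p.primeCompl W) := by
  classical
  obtain ⟨T, hT⟩ : ∃ T, Maximal (· ∈ {T : Set W | (∀ w ∈ T, ∃ a, w ∈ 𝒲 a) ∧ IndepMod q T}) T := by
    refine zorn_subset _ fun C hC hchain => ⟨⋃₀ C, ⟨fun w hw => ?_, fun l hl hsum w => ?_⟩,
      fun s hs => Set.subset_sUnion_of_mem hs⟩
    · obtain ⟨s, hs, hws⟩ := hw
      exact (hC hs).1 w hws
    · rcases C.eq_empty_or_nonempty with rfl | hne
      · simp only [Set.sUnion_empty, Set.subset_empty_iff, Finset.coe_eq_empty,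
          Finsupp.support_eq_empty] at hl
        simp [hl]
      · obtain ⟨s, hs, hsub⟩ := hchain.directedOn.exists_mem_subset_of_finset_subset_biUnion hne
          (s := l.support) (f := id) (by simpa [Set.sUnion_eq_biUnion] using hl)
        exact (hC hs).2 l hsub hsum w
  obtain ⟨⟨hThom, hTind⟩, hTmax⟩ := hT
  let g : T → (R ⧸ q) →ₗ[R] W := fun t => Submodule.liftQ q (LinearMap.toSpanSingleton R W (t : W))
    fun r hr => hW r hr _
  let φ : (T →₀ R ⧸ q) →ₗ[R] W := Finsupp.lsum ℕ g
  have hφ1 : ∀ (t : T) (r : R), φ (Finsupp.single t (Ideal.Quotient.mk q r)) = r • (t : W) := fun t r => by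
    simp only [φ, Finsupp.lsum_single]
    rfl
  have hφinj : Function.Injective φ := by
    refine (injective_iff_map_eq_zero φ).2 fun a ha => Finsupp.ext fun t => ?_
    choose r hr using fun t : T => Ideal.Quotient.mk_surjective (a t)
    let l0 : T →₀ R := Finsupp.onFinset a.support (fun t => if a t = 0 then 0 else r t) fun t ht => by
      simp only [ne_eq, ite_eq_left_iff, not_forall] at ht
      exact Finsupp.mem_support_iff.2 ht.1
    let l : W →₀ R := l0.mapDomain Subtype.val
    have hl0 : ∀ t, Ideal.Quotient.mk q (l0 t) = a t := fun t => by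
      show Ideal.Quotient.mk q (if a t = 0 then 0 else r t) = a t
      by_cases h : a t = 0
      · rw [if_pos h, map_zero, h]
      · rw [if_neg h, hr]
    have ha' : a = l0.mapRange (Ideal.Quotient.mk q) (map_zero _) := Finsupp.ext fun t => (hl0 t).symm
    have h1 := hTind l (fun w hw => by
        obtain ⟨t, -, rfl⟩ := Finset.mem_image.1 (Finsupp.mapDomain_support hw)
        exact t.2)
      (by
        show ((l0.mapDomain Subtype.val).sum fun w r => r • w) = 0
        rw [Finsupp.sum_mapDomain_index (fun w => zero_smul R w) (fun w r r' => add_smul r r' w)]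
        refine Eq.trans ?_ ha
        rw [ha', Finsupp.lsum_apply, Finsupp.sum_mapRange_index (fun _ => map_zero _)]
        exact Finsupp.sum_congr fun t _ => rfl) t
    rw [Finsupp.mapDomain_apply Subtype.val_injective] at h1
    rw [← hl0 t, Ideal.Quotient.eq_zero_iff_mem.2 h1]
    rfl
  have hrange : ∀ t : T, (t : W) ∈ LinearMap.range φ := fun t =>
    ⟨Finsupp.single t (Ideal.Quotient.mk q 1), by rw [hφ1, one_smul]⟩
  have hhom : ∀ a, ∀ w ∈ 𝒲 a, ∃ b, ∃ s ∈ 𝒜 b, s ∉ q ∧ s • w ∈ LinearMap.range φ := by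
    intro a w hw
    by_cases hwT : w ∈ T
    · exact ⟨0, 1, SetLike.one_mem_graded 𝒜, fun h => hqP.ne_top ((Ideal.eq_top_iff_one q).2 h),
        by rw [one_smul]; exact hrange ⟨w, hwT⟩⟩
    obtain ⟨l, hl, hsum, v, hv⟩ : ∃ l : W →₀ R, ↑l.support ⊆ insert w T ∧
        (l.sum fun w r => r • w) = 0 ∧ ∃ v, l v ∉ q := by
      by_contra! h
      exact hwT (hTmax (y := insert w T)
        ⟨fun v hv => hv.elim (fun e => e ▸ ⟨a, hw⟩) (hThom v), fun l hl hsum v => h l hl hsum v⟩
        (Set.subset_insert w T) (Set.mem_insert w T))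
    have hlw : l w ∉ q := by
      intro h
      have hsupp : ↑(l.erase w).support ⊆ T := fun v hv' => by
        rw [Finsupp.support_erase, Finset.coe_erase] at hv'
        exact ((hl hv'.1).resolve_left hv'.2)
      have h2 : ((l.erase w).sum fun w r => r • w) = 0 := by
        have := Finsupp.add_sum_erase' l w (fun w r => r • w) (fun v => zero_smul R v)
        rwa [hW _ h, zero_add, hsum] at this
      have h3 := hTind _ hsupp h2 v
      by_cases hvw : v = w
      · exact hv (hvw ▸ h)
      · rw [Finsupp.erase_ne hvw] at h3; exact hv h3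
    obtain ⟨b, hb⟩ : ∃ b, (decompose 𝒜 (l w) b : R) ∉ q := by
      by_contra! h
      exact hlw (by rw [← sum_support_decompose 𝒜 (l w)]; exact sum_mem fun b _ => h b)
    refine ⟨b, _, (decompose 𝒜 (l w) b).2, hb, ?_⟩
    have h4 : (l.sum fun v r => proj 𝒲 (b + a) (r • v)) = 0 := by
      rw [Finsupp.sum, ← map_sum]
      exact (congrArg _ hsum).trans (map_zero _)
    rw [Finsupp.sum, ← Finset.add_sum_erase _ _ (Finsupp.mem_support_iff.2 fun h => hlw (h ▸ q.zero_mem)),
      proj_smul_hom 𝒜 𝒲 hw, add_eq_zero_iff_eq_neg] at h4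
    rw [h4]
    refine neg_mem (sum_mem fun v hv => ?_)
    obtain ⟨hvw, hvl⟩ := Finset.mem_erase.1 hv
    have hvT : v ∈ T := (hl hvl).resolve_left hvw
    obtain ⟨g', hg'⟩ := hThom v hvT
    rw [show b + a = (b + a - g') + g' by abel, proj_smul_hom 𝒜 𝒲 hg']
    exact Submodule.smul_mem _ _ (hrange ⟨v, hvT⟩)
  refine ⟨T, fun p hp hcore => ?_⟩
  let B := Localization.AtPrime p
  let Q := B ⧸ q.map (algebraMap R B)
  let f0 : (R ⧸ q) →ₗ[R] Q := (IsScalarTower.toAlgHom R (R ⧸ q) Q).toLinearMap
  haveI : IsLocalizedModule p.primeCompl f0 := inferInstance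
  let f1 : (T →₀ R ⧸ q) →ₗ[R] (T →₀ Q) := Finsupp.mapRange.linearMap (α := T) f0
  haveI : IsLocalizedModule p.primeCompl f1 := inferInstance
  let f2 := LocalizedModule.mkLinearMap p.primeCompl W
  let ψ : (T →₀ Q) →ₗ[B] LocalizedModule p.primeCompl W :=
    IsLocalizedModule.mapExtendScalars p.primeCompl f1 f2 B φ
  have hψ : ∀ z, ψ z = IsLocalizedModule.map p.primeCompl f1 f2 φ z := fun z => rfl
  refine ⟨LinearEquiv.ofBijective ψ ⟨fun x y h => ?_, fun z => ?_⟩⟩
  · exact IsLocalizedModule.map_injective p.primeCompl f1 f2 φ hφinj (by rw [← hψ, ← hψ]; exact h)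
  · obtain ⟨⟨w, t⟩, hz⟩ := IsLocalizedModule.surj p.primeCompl f2 z
    obtain ⟨s, hs, hsw⟩ : ∃ s ∉ p, s • w ∈ LinearMap.range φ := by
      clear hz
      induction w using Decomposition.inductionOn 𝒲 with
      | zero => exact ⟨1, (Ideal.ne_top_iff_one p).1 hp.ne_top, by rw [smul_zero]; exact zero_mem _⟩
      | @homogeneous a y =>
        obtain ⟨b, s, hs, hsq, h⟩ := hhom a y y.2
        exact ⟨s, fun h' => hsq (hcore b s hs h'), h⟩
      | add u v hu hv =>
        obtain ⟨s, hs, hu⟩ := hu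
        obtain ⟨s', hs', hv⟩ := hv
        refine ⟨s * s', hp.mul_notMem hs hs', ?_⟩
        rw [smul_add, mul_comm s, mul_smul, mul_comm s', mul_smul]
        exact add_mem (Submodule.smul_mem _ _ hu) (Submodule.smul_mem _ _ hv)
    obtain ⟨x, hx⟩ := hsw
    refine ⟨IsLocalizedModule.mk' f1 x (⟨s, hs⟩ * t), ?_⟩
    rw [hψ, IsLocalizedModule.map_mk', IsLocalizedModule.mk'_eq_iff, hx, map_smul]
    show (s : R) • f2 w = (s * (t : R)) • z
    rw [mul_smul]
    exact congrArg _ hz.symm

end Groth.Agent.GrCoreLib
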