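import Mathlib
import Groth.Prelude.Def_GrLC2
import Groth.Agent.RegLocal.Basic
import Groth.Agent.GrCoreLib.Field
import Groth.Agent.GrCoreLib.Free
import Groth.Agent.GrCoreLib.Ext

/-! Bass numbers at a prime in terms of those at its homogeneous core. -/

set_option autoImplicit false
set_option linter.style.haveILetI false
set_option linter.unusedSectionVars false
universe u

open DirectSum GrInjLib CategoryTheory

namespace Groth.Agent.GrCoreLib

variable {B : Type u} [CommRing B] [IsLocalRing B] [IsNoetherianRing B]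
  (N : Type u) [AddCommGroup N] [Module B N]

/-- `Ext` from the residue field, when `Ext` from a regular quotient is free. -/
theorem ext_free_descent (κ : ℕ → Type u) : ∀ (n : ℕ) (J : Ideal B) (c : ℕ),
    IsRegularLocalRing (B ⧸ J) → ringKrullDim (B ⧸ J) = n →
    (∀ i < c, Subsingleton (Abelian.Ext.{u} (ModuleCat.of B (B ⧸ J)) (ModuleCat.of B N) i)) →
    (∀ i, Nonempty (Abelian.Ext.{u} (ModuleCat.of B (B ⧸ J)) (ModuleCat.of B N) (i + c) ≃ₗ[B] (κ i →₀ B ⧸ J))) →
    (∀ i < c + n, Subsingleton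
      (Abelian.Ext.{u} (ModuleCat.of B (IsLocalRing.ResidueField B)) (ModuleCat.of B N) i)) ∧
    ∀ i, Nonempty (Abelian.Ext.{u} (ModuleCat.of B (IsLocalRing.ResidueField B)) (ModuleCat.of B N) (i + (c + n))
      ≃ₗ[B] (κ i →₀ IsLocalRing.ResidueField B)) := by
  intro n
  induction n with
  | zero =>
    intro J c hreg hdim hlow hfree
    haveI := hreg
    haveI := RegLocal.isDomain (B ⧸ J)
    have hfield : IsField (B ⧸ J) := IsLocalRing.isField_iff_maximalIdeal_eq.2 (by
      have hn := IsRegularLocalRing.spanFinrank_maximalIdeal (R := B ⧸ J)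
      rw [hdim] at hn
      exact (Submodule.spanFinrank_eq_zero_iff_eq_bot (IsLocalRing.maximalIdeal (B ⧸ J)).fg_of_isNoetherianRing).1
        (by exact_mod_cast hn))
    obtain rfl : J = IsLocalRing.maximalIdeal B :=
      IsLocalRing.eq_maximalIdeal (Ideal.Quotient.maximal_of_isField J hfield)
    exact ⟨hlow, hfree⟩
  | succ n ih =>
    intro J c hreg hdim hlow hfree
    haveI := hreg
    haveI := RegLocal.isDomain (B ⧸ J)
    obtain ⟨xb, hxb, hxb2⟩ : ∃ x ∈ IsLocalRing.maximalIdeal (B ⧸ J), x ∉ IsLocalRing.maximalIdeal (B ⧸ J) ^ 2 := by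
      by_contra! h
      have hbot : IsLocalRing.maximalIdeal (B ⧸ J) = ⊥ :=
        Submodule.eq_bot_of_le_smul_of_le_jacobson_bot _ _ (Ideal.fg_of_isNoetherianRing _)
          (fun y hy => by rw [smul_eq_mul, ← sq]; exact h y hy) (IsLocalRing.maximalIdeal_le_jacobson _)
      have hf : IsField (B ⧸ J) := IsLocalRing.isField_iff_maximalIdeal_eq.2 hbot
      rw [ringKrullDim_eq_zero_of_isField hf] at hdim
      norm_cast at hdim
    obtain ⟨x, rfl⟩ := Ideal.Quotient.mk_surjective xb
    obtain ⟨hreg', -, hdim'⟩ := RegLocal.quot_singleton (B ⧸ J) hdim hxb hxb2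
    have hx0 : Ideal.Quotient.mk J x ≠ 0 := fun h => hxb2 (by rw [h]; exact zero_mem _)
    let J' := J ⊔ Ideal.span {x}
    let e : ((B ⧸ J) ⧸ Ideal.span {Ideal.Quotient.mk J x}) ≃+* B ⧸ J' :=
      (Ideal.quotEquivOfEq (by rw [Ideal.map_span, Set.image_singleton])).trans
        (DoubleQuot.quotQuotEquivQuotSup J (Ideal.span {x}))
    let μ : (B ⧸ J) →ₗ[B] (B ⧸ J) := x • LinearMap.id
    have hμ' : ∀ z, μ z = Ideal.Quotient.mk J x * z := fun z => Algebra.smul_def x z
    have hμ : Function.Injective μ := fun a b h => by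
      rw [hμ', hμ'] at h
      exact mul_left_cancel₀ hx0 h
    let π : (B ⧸ J) →ₗ[B] (B ⧸ J') := Submodule.factor le_sup_left
    have hπs : Function.Surjective π := Submodule.factor_surjective le_sup_left
    have hex : Function.Exact μ π := fun z => by
      obtain ⟨z, rfl⟩ := Ideal.Quotient.mk_surjective z
      show (Submodule.Quotient.mk z : B ⧸ J') = 0 ↔ _
      rw [Submodule.Quotient.mk_eq_zero]
      constructor
      · intro hz
        obtain ⟨a, ha, b, hb, rfl⟩ := Submodule.mem_sup.1 hz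
        obtain ⟨b, rfl⟩ := Ideal.mem_span_singleton'.1 hb
        refine ⟨Ideal.Quotient.mk J b, ?_⟩
        rw [hμ', map_add, Ideal.Quotient.eq_zero_iff_mem.2 ha, zero_add, map_mul, mul_comm]
      · rintro ⟨w, hw⟩
        obtain ⟨w, rfl⟩ := Ideal.Quotient.mk_surjective w
        rw [hμ', ← map_mul] at hw
        have := Submodule.add_mem_sup ((Ideal.Quotient.eq).1 hw.symm)
          (Ideal.mem_span_singleton'.2 ⟨w, mul_comm w x⟩ : x * w ∈ Ideal.span {x})
        rwa [sub_add_cancel] at this
    let T : ShortComplex (ModuleCat.{u} B) := ShortComplex.mk (X₁ := ModuleCat.of B (B ⧸ J))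
      (X₂ := ModuleCat.of B (B ⧸ J)) (X₃ := ModuleCat.of B (B ⧸ J'))
      (ModuleCat.ofHom μ) (ModuleCat.ofHom π)
      (by apply ModuleCat.hom_ext; exact LinearMap.ext fun z => hex.apply_apply_eq_zero z)
    have hT : T.ShortExact :=
      { exact := (ShortComplex.ShortExact.moduleCat_exact_iff_function_exact _).2 hex
        mono_f := (ModuleCat.mono_iff_injective _).2 hμ
        epi_g := (ModuleCat.epi_iff_surjective _).2 hπs }
    let NB := ModuleCat.of B N
    have hfmul : ∀ (k : ℕ) (z : Abelian.Ext.{u} T.X₂ NB k),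
        (Abelian.Ext.mk₀ T.f).comp z (zero_add k) = x • z := fun k z => by
      rw [show T.f = x • 𝟙 (ModuleCat.of B (B ⧸ J)) from ModuleCat.hom_ext rfl, Abelian.Ext.mk₀_smul,
        Abelian.Ext.smul_comp]
      exact congrArg _ (Abelian.Ext.mk₀_id_comp z)
    have hinj : ∀ (k : ℕ) (z : Abelian.Ext.{u} T.X₂ NB k), x • z = 0 → z = 0 := fun k z hz => by
      rcases lt_or_ge k c with hk | hk
      · haveI := hlow k hk
        exact Subsingleton.elim (α := Abelian.Ext.{u} (ModuleCat.of B (B ⧸ J)) NB k) z 0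
      · obtain ⟨j, rfl⟩ := Nat.exists_eq_add_of_le' hk
        obtain ⟨φ⟩ := hfree j
        refine φ.injective (Finsupp.ext fun t => ?_)
        have h1 := congrArg (fun v => φ v t) hz
        rw [map_smul, map_zero, Finsupp.smul_apply, Finsupp.zero_apply, Algebra.smul_def] at h1
        rw [map_zero, Finsupp.zero_apply]
        exact (mul_eq_zero.1 h1).resolve_left hx0
    have hg0 : ∀ (k : ℕ) (z : Abelian.Ext.{u} T.X₃ NB k),
        (Abelian.Ext.mk₀ T.g).comp z (zero_add k) = 0 := fun k z => hinj k _ (by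
      rw [← hfmul, Abelian.Ext.mk₀_comp_mk₀_assoc, T.zero, Abelian.Ext.mk₀_zero, Abelian.Ext.zero_comp])
    have hlow' : ∀ i < c + 1, Subsingleton (Abelian.Ext.{u} (ModuleCat.of B (B ⧸ J')) NB i) := by
      intro i hi
      refine subsingleton_of_forall_eq 0 fun z => ?_
      cases i with
      | zero =>
        obtain ⟨φ, rfl⟩ := (Abelian.Ext.mk₀_bijective _ _).2 z
        have h := hg0 0 (Abelian.Ext.mk₀ φ)
        rw [Abelian.Ext.mk₀_comp_mk₀, ← Abelian.Ext.mk₀_zero] at h
        haveI := hT.epi_g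
        have h2 : T.g ≫ φ = T.g ≫ 0 := by rw [Limits.comp_zero]; exact (Abelian.Ext.mk₀_bijective _ _).1 h
        rw [(cancel_epi T.g).1 h2, Abelian.Ext.mk₀_zero]
      | succ i =>
        obtain ⟨w, hw⟩ := Abelian.Ext.contravariant_sequence_exact₃ hT NB z (hg0 _ z) (show 1 + i = i + 1 by omega)
        haveI := hlow i (by omega)
        rw [← hw, Subsingleton.elim (α := Abelian.Ext.{u} (ModuleCat.of B (B ⧸ J)) NB i) w 0,
          Abelian.Ext.comp_zero]
    have hfree' : ∀ i, Nonempty (Abelian.Ext.{u} (ModuleCat.of B (B ⧸ J')) NB (i + (c + 1)) ≃ₗ[B]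
        (κ i →₀ B ⧸ J')) := by
      intro i
      obtain ⟨φ⟩ := hfree i
      let D : Abelian.Ext.{u} T.X₁ NB (i + c) →ₗ[B] Abelian.Ext.{u} T.X₃ NB (i + (c + 1)) :=
        hT.extClass.precompOfLinear B NB (show 1 + (i + c) = i + (c + 1) by omega)
      have hDs : Function.Surjective D := fun z =>
        Abelian.Ext.contravariant_sequence_exact₃ hT NB z (hg0 _ z) (by omega)
      let Pr : (κ i →₀ B ⧸ J) →ₗ[B] (κ i →₀ B ⧸ J') := Finsupp.mapRange.linearMap π
      have hPrs : Function.Surjective Pr := Finsupp.mapRange_surjective π (map_zero π) hπs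
      have hPrk : ∀ v, Pr v = 0 ↔ ∃ w, x • w = v := by
        intro v
        constructor
        · intro h
          have hex' : ∀ t, ∃ w, μ w = v t := fun t => (hex (v t)).1 (by
            have := congrArg (fun w => w t) h
            simpa [Pr] using this)
          choose w hw using hex'
          classical
          refine ⟨Finsupp.onFinset v.support (fun t => if v t = 0 then 0 else w t) fun t ht => by
            simp only [ne_eq, ite_eq_left_iff, not_forall] at ht
            exact Finsupp.mem_support_iff.2 ht.1, Finsupp.ext fun t => ?_⟩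
          rw [Finsupp.smul_apply, Finsupp.onFinset_apply]
          by_cases h0 : v t = 0
          · rw [if_pos h0, smul_zero, h0]
          · rw [if_neg h0]; exact hw t
        · rintro ⟨w, rfl⟩
          refine Finsupp.ext fun t => ?_
          simp only [Pr, Finsupp.mapRange.linearMap_apply, Finsupp.mapRange_apply, Finsupp.smul_apply,
            Finsupp.zero_apply]
          exact hex.apply_apply_eq_zero (w t)
      have hDk : LinearMap.ker D = LinearMap.ker (Pr ∘ₗ φ.toLinearMap) := by
        ext z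
        rw [LinearMap.mem_ker, LinearMap.mem_ker, LinearMap.comp_apply, hPrk]
        constructor
        · intro h
          obtain ⟨y, hy⟩ := Abelian.Ext.contravariant_sequence_exact₁ hT NB z
            (show 1 + (i + c) = i + (c + 1) by omega) h
          exact ⟨φ y, by rw [← map_smul, ← hy]; exact congrArg φ (hfmul _ y).symm⟩
        · rintro ⟨w, hw⟩
          have hz : z = x • φ.symm w := φ.injective (by rw [map_smul, φ.apply_symm_apply]; exact hw.symm)
          rw [hz]
          show hT.extClass.comp (x • φ.symm w : Abelian.Ext.{u} T.X₁ NB (i + c)) (show 1 + (i + c) = i + (c + 1) by omega) = 0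
          rw [show (x • φ.symm w : Abelian.Ext.{u} T.X₁ NB (i + c)) =
            (Abelian.Ext.mk₀ T.f).comp (φ.symm w : Abelian.Ext.{u} T.X₂ NB (i + c)) (zero_add _) from
              (hfmul _ _).symm]
          exact hT.extClass_comp_assoc _ (h := by omega)
      exact ⟨(D.quotKerEquivOfSurjective hDs).symm.trans ((Submodule.quotEquivOfEq _ _ hDk).trans
        ((Pr ∘ₗ φ.toLinearMap).quotKerEquivOfSurjective (hPrs.comp φ.surjective)))⟩
    obtain ⟨h1, h2⟩ := ih J' (c + 1) (by haveI := hreg'; exact IsRegularLocalRing.of_ringEquiv e)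
      (by rw [← ringKrullDim_eq_of_ringEquiv e, hdim']; simp) hlow' hfree'
    rw [show c + 1 + n = c + (n + 1) by omega] at h1 h2
    exact ⟨h1, h2⟩

variable {ι : Type} [AddCommGroup ι] [DecidableEq ι] [Module.Free ℤ ι] [Module.Finite ℤ ι]
  {R : Type u} [CommRing R] [IsNoetherianRing R] {𝒜 : ι → AddSubgroup R} [GradedRing 𝒜]

/-- Bass numbers at all primes with a given core, from one family of ranks. -/
theorem exists_bass_rank (q : Ideal R) [q.IsPrime] (hq : q.IsHomogeneous 𝒜) (M : GrLC.GMod.{u} 𝒜) :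
    ∃ κ : ℕ → Type u, ∀ (p : Ideal R) [p.IsPrime], q ≤ p → (∀ a, ∀ x ∈ 𝒜 a, x ∈ p → x ∈ q) →
      ∀ d : ℕ, (p.map (Ideal.Quotient.mk q)).height = d →
        (∀ i < d, GrLC.bassNum p M.carrier i = 0) ∧
          ∀ i, GrLC.bassNum p M.carrier (i + d) = ENat.card (κ i) := by
  choose W hW hW' using fun i => exists_graded_rep q 𝒜 hq i M
  choose κ hκ using fun i => exists_free_family 𝒜 q (W i).gr (hW i)
  refine ⟨κ, fun p _ hle hcore d hd => ?_⟩
  obtain ⟨hreg, hdim, -⟩ := isRegular_quot_core 𝒜 q p hq hle hcore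
  rw [hd] at hdim
  have hfree : ∀ i, Nonempty (Abelian.Ext.{u} (ModuleCat.of (Localization.AtPrime p) (Quo q p))
      (ModuleCat.of (Localization.AtPrime p) (LocalizedModule p.primeCompl M.carrier)) (i + 0)
      ≃ₗ[Localization.AtPrime p] (κ i →₀ Quo q p)) := fun i =>
    ⟨(hW' i p).some.trans (hκ i p hcore).some.symm⟩
  obtain ⟨h1, h2⟩ := ext_free_descent (LocalizedModule p.primeCompl M.carrier) κ d _ 0 hreg hdim
    (fun i hi => absurd hi (Nat.not_lt_zero i)) hfree
  rw [zero_add] at h1 h2
  refine ⟨fun i hi => ?_, fun i => ?_⟩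
  · haveI := h1 i hi
    exact Module.length_eq_zero
  · haveI : IsSimpleModule (Localization.AtPrime p) (IsLocalRing.ResidueField (Localization.AtPrime p)) :=
      isSimpleModule_iff_quot_maximal.mpr ⟨_, inferInstance, ⟨LinearEquiv.refl _ _⟩⟩
    show Module.length _ _ = _
    rw [(h2 i).some.length_eq, Module.length_finsupp, Module.length_eq_one, mul_one]

/-- The Bass numbers of a graded module shift from the core. -/
theorem bassNum_shift (q p : Ideal R) [q.IsPrime] [p.IsPrime] (hq : q.IsHomogeneous 𝒜) (hle : q ≤ p)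
    (hcore : ∀ a, ∀ x ∈ 𝒜 a, x ∈ p → x ∈ q) (M : GrLC.GMod.{u} 𝒜) {d : ℕ}
    (hd : (p.map (Ideal.Quotient.mk q)).height = d) :
    (∀ i < d, GrLC.bassNum p M.carrier i = 0) ∧
      ∀ i, GrLC.bassNum p M.carrier (i + d) = GrLC.bassNum q M.carrier i := by
  obtain ⟨κ, hκ⟩ := exists_bass_rank q hq M
  obtain ⟨h1, h2⟩ := hκ p hle hcore d hd
  obtain ⟨-, h3⟩ := hκ q le_rfl (fun _ _ _ h => h) 0 (by
    rw [Ideal.map_quotient_self, Ideal.height_bot]; rfl)
  exact ⟨h1, fun i => (h2 i).trans (h3 i).symm⟩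

end Groth.Agent.GrCoreLib
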