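import Mathlib
import Groth.Agent.GrCoreLib.Bass

/-! The homogeneous core of a prime. -/

set_option autoImplicit false
universe u

open DirectSum

namespace Groth.Agent.GrCoreLib

variable {ι : Type} [AddCommGroup ι] [DecidableEq ι] {R : Type u} [CommRing R]
  (𝒜 : ι → AddSubgroup R) [GradedRing 𝒜] (p : Ideal R)

theorem core_le : (Ideal.homogeneousCore 𝒜 p).toIdeal ≤ p := Ideal.toIdeal_homogeneousCore_le 𝒜 p

theorem core_homogeneous : (Ideal.homogeneousCore 𝒜 p).toIdeal.IsHomogeneous 𝒜 :=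
  (Ideal.homogeneousCore 𝒜 p).isHomogeneous

theorem mem_core {a : ι} {x : R} (hx : x ∈ 𝒜 a) (hxp : x ∈ p) :
    x ∈ (Ideal.homogeneousCore 𝒜 p).toIdeal := by
  have hh : (Ideal.span {x}).IsHomogeneous 𝒜 :=
    Ideal.homogeneous_span 𝒜 _ fun y hy => ⟨a, by rw [Set.mem_singleton_iff.1 hy]; exact hx⟩
  have h := Ideal.homogeneousCore_mono 𝒜 ((Ideal.span_singleton_le_iff_mem p).2 hxp)
  exact h (hh.toIdeal_homogeneousCore_eq_self.ge (Ideal.mem_span_singleton_self x))

end Groth.Agent.GrCoreLib
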