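import Mathlib
import Groth.Prelude.Def_GrLC2
import Groth.Agent.GorLib.Bass
import Groth.Agent.GorLib.ExtLoc
import Groth.Agent.GorLib.LocInjDim
import Groth.Agent.GrCoreLib.Ext

/-! Bass numbers bound the injective dimension of an arbitrary module. -/

set_option autoImplicit false
set_option linter.style.haveILetI false
universe u

open CategoryTheory

namespace Groth.Agent.GrCoreLib

variable {R : Type u} [CommRing R] [IsNoetherianRing R] (M : Type u) [AddCommGroup M] [Module R M]

/-- Vanishing Bass numbers in degree `i` kill `Ext^i` out of every prime quotient. -/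
theorem subsingleton_ext_of_bass (i : ℕ) (h : ∀ (P : Ideal R) [P.IsPrime], GrLC.bassNum P M i = 0)
    (P : Ideal R) [hP : P.IsPrime] :
    Subsingleton (Abelian.Ext.{u} (ModuleCat.of R (R ⧸ P)) (ModuleCat.of R M) i) := by
  suffices H : ∀ (P : Ideal R), P.IsPrime →
      Subsingleton (Abelian.Ext.{u} (ModuleCat.of R (R ⧸ P)) (ModuleCat.of R M) i) from H P hP
  intro P
  induction P using (wellFounded_gt (α := Ideal R)).induction with
  | _ P ih =>
    intro hP
    refine subsingleton_of_forall_eq 0 fun x => ?_
    haveI : Subsingleton (Abelian.Ext.{u} (ModuleCat.of (Localization.AtPrime P) (IsLocalRing.ResidueField (Localization.AtPrime P)))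
        (ModuleCat.of (Localization.AtPrime P) (LocalizedModule P.primeCompl M)) i) :=
      Module.length_eq_zero_iff.1 (h P)
    let f0 : (R ⧸ P) →ₗ[R] Quo P P := (IsScalarTower.toAlgHom R (R ⧸ P) (Quo P P)).toLinearMap
    haveI : IsLocalizedModule P.primeCompl f0 := inferInstance
    obtain ⟨e⟩ := nonempty_equiv_localized P.primeCompl f0
    have e' : IsLocalRing.ResidueField (Localization.AtPrime P) ≃ₗ[Localization.AtPrime P] Quo P P :=
      Submodule.quotEquivOfEq _ _ Localization.AtPrime.map_eq_maximalIdeal.symm
    haveI := GorLib.ext_subsingleton_of_iso (e'.trans e).toModuleIso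
      (ModuleCat.of (Localization.AtPrime P) (LocalizedModule P.primeCompl M)) i
    have hloc := (GorLib.subsingleton_ext_localized_iff P.primeCompl i (R ⧸ P) M).2 ‹_›
    obtain ⟨s, hs, hsx⟩ := LocalizedModule.subsingleton_iff.1 hloc x
    let μ : (R ⧸ P) →ₗ[R] (R ⧸ P) := s • LinearMap.id
    have hμ : Function.Injective μ := by
      rw [injective_iff_map_eq_zero]
      intro z hz
      induction z using Submodule.Quotient.induction_on with
      | H r =>
        have : s * r ∈ P := (Submodule.Quotient.mk_eq_zero P).mp hz
        exact (Submodule.Quotient.mk_eq_zero P).mpr ((hP.mem_or_mem this).resolve_left hs)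
    let T : ShortComplex (ModuleCat.{u} R) :=
      ShortComplex.mk (ModuleCat.ofHom μ) (ModuleCat.ofHom (LinearMap.range μ).mkQ)
        (ModuleCat.hom_ext (LinearMap.exact_map_mkQ_range μ).linearMap_comp_eq_zero)
    have hT : T.ShortExact :=
      { exact := (ShortComplex.ShortExact.moduleCat_exact_iff_function_exact _).2 (LinearMap.exact_map_mkQ_range μ)
        mono_f := (ModuleCat.mono_iff_injective _).2 hμ
        epi_g := (ModuleCat.epi_iff_surjective _).2 (Submodule.mkQ_surjective _) }
    haveI : Subsingleton (Abelian.Ext.{u} T.X₃ (ModuleCat.of R M) i) := by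
      refine GorLib.ext_subsingleton_of_primes (ModuleCat.of R M) i {q | P < q.asIdeal}
        (fun q hq => ih q.asIdeal hq q.isPrime) ((R ⧸ P) ⧸ LinearMap.range μ) ?_
      intro q hq
      rw [Module.support_eq_zeroLocus, PrimeSpectrum.mem_zeroLocus] at hq
      have hI' : P ≤ q.asIdeal := fun r hr => hq (Module.mem_annihilator.mpr fun z => by
        induction z using Submodule.Quotient.induction_on with
        | H w =>
          induction w using Submodule.Quotient.induction_on with
          | H t =>
            rw [← Submodule.Quotient.mk_smul, ← Submodule.Quotient.mk_smul,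
              (Submodule.Quotient.mk_eq_zero P).mpr (show r • t ∈ P from Ideal.mul_mem_right t P hr)]
            rfl)
      have hx : s ∈ q.asIdeal := hq (Module.mem_annihilator.mpr fun z => by
        induction z using Submodule.Quotient.induction_on with
        | H w =>
          rw [← Submodule.Quotient.mk_smul, Submodule.Quotient.mk_eq_zero]
          exact ⟨w, rfl⟩)
      exact lt_of_le_of_ne hI' fun e => hs (e ▸ hx)
    have hfx : (Abelian.Ext.mk₀ T.f).comp x (zero_add i) = 0 := by
      rw [show T.f = s • 𝟙 (ModuleCat.of R (R ⧸ P)) from ModuleCat.hom_ext rfl, Abelian.Ext.mk₀_smul,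
        Abelian.Ext.smul_comp,
        show (Abelian.Ext.mk₀ (𝟙 (ModuleCat.of R (R ⧸ P)))).comp x (zero_add i) = x from Abelian.Ext.mk₀_id_comp x]
      exact hsx
    obtain ⟨y, hy⟩ := Abelian.Ext.contravariant_sequence_exact₂ hT (ModuleCat.of R M) x hfx
    rw [← hy, Subsingleton.elim y 0, Abelian.Ext.comp_zero]

/-- Vanishing Bass numbers in degree `n + 1` bound the injective dimension by `n`. -/
theorem hasInjectiveDimensionLT_of_bass (n : ℕ)
    (h : ∀ (P : Ideal R) [P.IsPrime], GrLC.bassNum P M (n + 1) = 0) :
    HasInjectiveDimensionLT (ModuleCat.of R M) (n + 1) := by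
  refine RegLocal.hasInjectiveDimensionLT_of_cyclic n _ fun I => ?_
  exact GorLib.ext_subsingleton_of_primes (ModuleCat.of R M) (n + 1) Set.univ
    (fun q _ => subsingleton_ext_of_bass M (n + 1) h q.asIdeal) _ (Set.subset_univ _)

/-- Bass numbers in positive degree of an injective module vanish. -/
theorem bassNum_succ_eq_zero_of_injective [Module.Injective R M] (P : Ideal R) [P.IsPrime] (i : ℕ) :
    GrLC.bassNum P M (i + 1) = 0 := by
  haveI := GorLib.injective_over_localization P.primeCompl M
  haveI : Injective (ModuleCat.of (Localization.AtPrime P) (LocalizedModule P.primeCompl M)) :=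
    Module.injective_object_of_injective_module _ _
  haveI : Subsingleton (Abelian.Ext.{u} (ModuleCat.of (Localization.AtPrime P) (IsLocalRing.ResidueField (Localization.AtPrime P)))
      (ModuleCat.of (Localization.AtPrime P) (LocalizedModule P.primeCompl M)) (i + 1)) :=
    subsingleton_of_forall_eq 0 fun z => z.eq_zero_of_injective
  exact Module.length_eq_zero

end Groth.Agent.GrCoreLib
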