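import Mathlib
import Groth.Agent.GrCoreLib.Core
import Groth.Agent.GrCoreLib.ExtPrime

/-! *injective modules over a ℤ-graded ring. -/

set_option autoImplicit false
set_option linter.style.haveILetI false
universe u

open CategoryTheory DirectSum

namespace Groth.Agent.GrCoreLib

variable {R : Type u} [CommRing R] [IsNoetherianRing R] {𝒜 : ℤ → AddSubgroup R} [GradedRing 𝒜]

/-- A prime against its core: height zero when homogeneous, one otherwise. -/
theorem height_core_int (p : Ideal R) [p.IsPrime] [(Ideal.homogeneousCore 𝒜 p).toIdeal.IsPrime]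
    (hp : ¬ p.IsHomogeneous 𝒜) :
    (p.map (Ideal.Quotient.mk (Ideal.homogeneousCore 𝒜 p).toIdeal)).height = (1 : ℕ) := by
  have hle := core_le 𝒜 p
  have hq := core_homogeneous 𝒜 p
  obtain ⟨-, h2, h3⟩ := isRegular_quot_core 𝒜 _ p hq hle (fun a x hx hxp => mem_core 𝒜 p hx hxp)
  rw [h2, Module.finrank_self] at h3
  have hne : (Ideal.homogeneousCore 𝒜 p).toIdeal ≠ p := fun h => hp (h ▸ hq)
  refine le_antisymm (by exact_mod_cast h3) ?_
  haveI : (p.map (Ideal.Quotient.mk (Ideal.homogeneousCore 𝒜 p).toIdeal)).IsPrime :=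
    Ideal.map_isPrime_of_surjective Ideal.Quotient.mk_surjective (by rwa [Ideal.mk_ker])
  rw [Nat.cast_one, ENat.one_le_iff_ne_zero, ne_eq, Ideal.height_eq_zero_iff,
    IsDomain.minimalPrimes_eq_singleton_bot, Set.mem_singleton_iff, Ideal.map_eq_bot_iff_le_ker,
    Ideal.mk_ker]
  exact fun h => hne (le_antisymm hle h)

/-- Bass numbers of a *injective module at a homogeneous prime. -/
theorem bassNum_succ_starInj {M : GrLC.GMod.{u} 𝒜} (hM : GrLC.IsStarInj 𝒜 M.gr) (q : Ideal R) [q.IsPrime]
    (hq : q.IsHomogeneous 𝒜) (i : ℕ) : GrLC.bassNum q M.carrier (i + 1) = 0 := by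
  haveI := subsingleton_ext_localized q q 𝒜 hq hM i
  have e : Quo q q ≃ₗ[Localization.AtPrime q] IsLocalRing.ResidueField (Localization.AtPrime q) :=
    Submodule.quotEquivOfEq _ _ Localization.AtPrime.map_eq_maximalIdeal
  haveI := GorLib.ext_subsingleton_of_iso e.toModuleIso
    (ModuleCat.of (Localization.AtPrime q) (LocalizedModule q.primeCompl M.carrier)) (i + 1)
  exact Module.length_eq_zero

/-- Bass numbers of a *injective module vanish above one, and the first is the zeroth of the core. -/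
theorem bassNum_starInj {M : GrLC.GMod.{u} 𝒜} (hM : GrLC.IsStarInj 𝒜 M.gr) (p : Ideal R) [p.IsPrime] :
    (∀ i, GrLC.bassNum p M.carrier (i + 2) = 0) ∧
      (p.IsHomogeneous 𝒜 → GrLC.bassNum p M.carrier 1 = 0) ∧
      (¬ p.IsHomogeneous 𝒜 → ∀ [(Ideal.homogeneousCore 𝒜 p).toIdeal.IsPrime],
        GrLC.bassNum p M.carrier 1 = GrLC.bassNum (Ideal.homogeneousCore 𝒜 p).toIdeal M.carrier 0) := by
  by_cases hp : p.IsHomogeneous 𝒜
  · exact ⟨fun i => bassNum_succ_starInj hM p hp (i + 1), fun _ => bassNum_succ_starInj hM p hp 0,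
      fun h => absurd hp h⟩
  haveI := Ideal.IsPrime.homogeneousCore (𝒜 := 𝒜) (I := p) inferInstance
  obtain ⟨-, h2⟩ := bassNum_shift (Ideal.homogeneousCore 𝒜 p).toIdeal p (core_homogeneous 𝒜 p) (core_le 𝒜 p)
    (fun a x hx hxp => mem_core 𝒜 p hx hxp) M (height_core_int p hp)
  exact ⟨fun i => (h2 (i + 1)).trans (bassNum_succ_starInj hM _ (core_homogeneous 𝒜 p) i),
    fun h => absurd h hp, fun _ => fun {_} => h2 0⟩

/-- The zeroth Bass number detects associated primes. -/
theorem bassNum_zero_ne_zero_iff (M : Type u) [AddCommGroup M] [Module R M] (q : Ideal R) [hq : q.IsPrime] :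
    GrLC.bassNum q M 0 ≠ 0 ↔ ∃ x : M, q = LinearMap.ker (LinearMap.toSpanSingleton R M x) := by
  have e : Quo q q ≃ₗ[Localization.AtPrime q] IsLocalRing.ResidueField (Localization.AtPrime q) :=
    Submodule.quotEquivOfEq _ _ Localization.AtPrime.map_eq_maximalIdeal
  show Module.length _ _ ≠ 0 ↔ _
  rw [((Abelian.Ext.linearEquiv₀ (R := Localization.AtPrime q)).trans
      ((ModuleCat.homLinearEquiv (S := Localization.AtPrime q)).trans (LinearEquiv.congrLeft
        (LocalizedModule q.primeCompl M) (Localization.AtPrime q) e.symm))).length_eq,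
    ← pos_iff_ne_zero, Module.length_pos_iff]
  constructor
  · intro hnt
    obtain ⟨h, hh⟩ := exists_ne (0 : Quo q q →ₗ[Localization.AtPrime q] LocalizedModule q.primeCompl M)
    obtain ⟨⟨k, s⟩, hks⟩ := IsLocalizedModule.surj q.primeCompl (killedHom q q M) h
    refine ⟨k, le_antisymm (fun r hr => (mem_killed q).1 k.2 r hr) fun r hr => ?_⟩
    by_contra hrq
    refine hh ?_
    obtain ⟨w, hw⟩ := IsLocalization.map_units (Localization.AtPrime q) (⟨r * s, hq.mul_notMem hrq s.2⟩ : q.primeCompl)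
    have h1 : (w : Localization.AtPrime q) • h = 0 := by
      rw [hw, algebraMap_smul, mul_smul]
      show r • ((s : R) • h) = 0
      rw [show (s : R) • h = killedHom q q M k from hks, ← map_smul]
      rw [show r • k = 0 from Subtype.ext hr, map_zero]
    simpa [smul_smul] using congrArg ((↑w⁻¹ : Localization.AtPrime q) • ·) h1
  · rintro ⟨x, hx⟩
    have hk : x ∈ killed q M := (mem_killed q).2 fun r hr => hx.le hr
    refine ⟨⟨killedHom q q M ⟨x, hk⟩, 0, fun h0 => ?_⟩⟩
    obtain ⟨c, hc⟩ := IsLocalizedModule.exists_of_eq (S := q.primeCompl) (f := killedHom q q M)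
      (x₁ := ⟨x, hk⟩) (x₂ := 0) (by rw [map_zero]; exact h0)
    refine c.2 (hx.ge ?_)
    have := congrArg Subtype.val hc
    simpa [Submonoid.smul_def] using this

end Groth.Agent.GrCoreLib
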