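import Mathlib
import Groth.Agent.GrCoreLib.Coarse
import Groth.Agent.GrCoreLib.StarInjDim
import Groth.Agent.QGorLib.Depth

/-! Heights of primes and of their homogeneous cores. -/

set_option autoImplicit false
set_option linter.style.haveILetI false
set_option linter.unusedSectionVars false
universe u

open DirectSum GrInjLib Order

namespace Groth.Agent.GrCoreLib

variable {R : Type u} [CommRing R]

/-- The height of a prime among those containing `I`. -/
noncomputable def relHeight (I : Ideal R) (P : PrimeSpectrum R) (h : I ≤ P.asIdeal) : ℕ∞ :=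
  height (⟨P, h⟩ : {Q : PrimeSpectrum R // I ≤ Q.asIdeal})

theorem relHeight_eq_height_quot (I : Ideal R) (P : PrimeSpectrum R) (h : I ≤ P.asIdeal) :
    relHeight I P h = (P.asIdeal.map (Ideal.Quotient.mk I)).height := by
  let e := I.primeSpectrumQuotientOrderIsoZeroLocus
  have h1 : relHeight I P h = height (e.symm ⟨P, h⟩) := by rw [height_orderIso]; rfl
  rw [h1, ← PrimeSpectrum.height_eq_orderHeight]
  rfl

theorem relHeight_bot (P : PrimeSpectrum R) : relHeight ⊥ P bot_le = P.asIdeal.height := by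
  rw [PrimeSpectrum.height_eq_orderHeight]
  exact height_eq_of_strictMono Subtype.val (Subtype.strictMono_coe _)
    (fun a b hb => ⟨⟨b, bot_le⟩, hb, rfl⟩) _

theorem relHeight_self (P : PrimeSpectrum R) : relHeight P.asIdeal P le_rfl = 0 := by
  rw [relHeight, height_eq_zero]
  intro Q _
  exact Q.2

theorem relHeight_mono (I : Ideal R) {P Q : PrimeSpectrum R} (hP : I ≤ P.asIdeal) (h : P ≤ Q) :
    relHeight I P hP ≤ relHeight I Q (hP.trans h) :=
  height_mono (show (⟨P, hP⟩ : {Q : PrimeSpectrum R // I ≤ Q.asIdeal}) ≤ ⟨Q, hP.trans h⟩ from h)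

theorem relHeight_add_one_le (I : Ideal R) {P Q : PrimeSpectrum R} (hP : I ≤ P.asIdeal) (h : P < Q) :
    relHeight I P hP + 1 ≤ relHeight I Q (hP.trans h.le) :=
  height_add_one_le (show (⟨P, hP⟩ : {Q : PrimeSpectrum R // I ≤ Q.asIdeal}) < ⟨Q, hP.trans h.le⟩ from h)

variable [IsNoetherianRing R]

theorem relHeight_ne_top (I : Ideal R) (P : PrimeSpectrum R) (h : I ≤ P.asIdeal) : relHeight I P h ≠ ⊤ := by
  refine ne_top_of_le_ne_top (Ideal.height_ne_top P.isPrime.ne_top) ?_
  rw [PrimeSpectrum.height_eq_orderHeight]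
  exact height_le_height_apply_of_strictMono Subtype.val (Subtype.strictMono_coe _) _

/-- Chains concatenate. -/
theorem relHeight_add_le (I : Ideal R) {q P : PrimeSpectrum R} (hq : I ≤ q.asIdeal) (h : q ≤ P) :
    relHeight I q hq + relHeight q.asIdeal P h ≤ relHeight I P (hq.trans h) := by
  obtain ⟨n, hn⟩ := ENat.ne_top_iff_exists.1 (relHeight_ne_top q.asIdeal P h)
  induction n generalizing P with
  | zero => rw [← hn, Nat.cast_zero, add_zero]; exact relHeight_mono I hq h
  | succ n ih =>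
    obtain ⟨-, ⟨⟨y, hy⟩, hlt, hyn⟩, -⟩ := height_eq_coe_add_one_iff.1 (show
      height (⟨P, h⟩ : {Q : PrimeSpectrum R // q.asIdeal ≤ Q.asIdeal}) = (n : ℕ∞) + 1 from hn.symm.trans (Nat.cast_succ n))
    have h1 := ih (P := y) hy hyn.symm
    have h2 := relHeight_add_one_le I (hq.trans hy) (show y < P from hlt)
    have hyn' : relHeight q.asIdeal y hy = n := hyn
    rw [hyn'] at h1
    rw [← hn, Nat.cast_succ, ← add_assoc]
    exact le_trans (add_le_add h1 le_rfl) h2

section Int

variable (𝒜 : ℤ → AddSubgroup R) [GradedRing 𝒜]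

/-- The core as a point. -/
noncomputable def corePt (P : PrimeSpectrum R) : PrimeSpectrum R :=
  ⟨(Ideal.homogeneousCore 𝒜 P.asIdeal).toIdeal, Ideal.IsPrime.homogeneousCore P.isPrime⟩

theorem le_corePt {I : Ideal R} (hI : I.IsHomogeneous 𝒜) {P : PrimeSpectrum R} (h : I ≤ P.asIdeal) :
    I ≤ (corePt 𝒜 P).asIdeal :=
  hI.toIdeal_homogeneousCore_eq_self.ge.trans (Ideal.homogeneousCore_mono 𝒜 h)

theorem corePt_le (P : PrimeSpectrum R) : corePt 𝒜 P ≤ P := core_le 𝒜 P.asIdeal

/-- For a `ℤ`-grading the core drops the height by at most one. -/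
theorem relHeight_le_core_add_one (I : Ideal R) (hI : I.IsHomogeneous 𝒜) (P : PrimeSpectrum R)
    (hP : I ≤ P.asIdeal) : relHeight I P hP ≤ relHeight I (corePt 𝒜 P) (le_corePt 𝒜 hI hP) + 1 := by
  obtain ⟨n, hn⟩ := ENat.ne_top_iff_exists.1 (relHeight_ne_top I P hP)
  induction n using Nat.strong_induction_on generalizing P with
  | _ n ih =>
    obtain ⟨c, hc⟩ := ENat.ne_top_iff_exists.1 (relHeight_ne_top I (corePt 𝒜 P) (le_corePt 𝒜 hI hP))
    rw [← hc, ← Nat.cast_one, ← Nat.cast_add, relHeight, height_le_coe_iff]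
    rintro ⟨Q, hQ⟩ hlt
    have hQP : Q < P := hlt
    show relHeight I Q hQ < ((c + 1 : ℕ) : ℕ∞)
    rw [Nat.cast_add, Nat.cast_one, ENat.lt_add_one_iff (ENat.natCast_ne_top c), hc]
    have hcore : corePt 𝒜 Q ≤ corePt 𝒜 P := Ideal.homogeneousCore_mono 𝒜 (le_of_lt hQP)
    rcases eq_or_lt_of_le hcore with heq | hlt'
    · rcases eq_or_lt_of_le (heq ▸ corePt_le 𝒜 Q : corePt 𝒜 P ≤ Q) with e | hlt2
      · subst e; exact le_rfl
      exfalso
      have hne : ¬ P.asIdeal.IsHomogeneous 𝒜 := fun hh => by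
        have : corePt 𝒜 P = P := PrimeSpectrum.ext hh.toIdeal_homogeneousCore_eq_self
        exact (lt_irrefl P) (lt_of_le_of_lt (this.ge.trans hlt2.le) hQP)
      haveI : (Ideal.homogeneousCore 𝒜 P.asIdeal).toIdeal.IsPrime := (corePt 𝒜 P).isPrime
      have h1 := height_core_int (𝒜 := 𝒜) P.asIdeal hne
      have h2 := relHeight_add_one_le (corePt 𝒜 P).asIdeal le_rfl hlt2
      have h3 := relHeight_add_one_le (corePt 𝒜 P).asIdeal (show (corePt 𝒜 P).asIdeal ≤ Q.asIdeal from hlt2.le) hQP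
      have h4 : relHeight (corePt 𝒜 P).asIdeal P (corePt_le 𝒜 P) = (1 : ℕ) :=
        (relHeight_eq_height_quot _ _ _).trans h1
      have h5 := le_trans (add_le_add h2 le_rfl) h3
      rw [relHeight_self, h4] at h5
      norm_num at h5
    · obtain ⟨m, hm⟩ := ENat.ne_top_iff_exists.1 (relHeight_ne_top I Q hQ)
      have hmn : m < n := by
        have := relHeight_add_one_le I hQ hQP
        rw [← hm, ← hn] at this
        norm_cast at this
      exact (ih m hmn Q hQ hm).trans (relHeight_add_one_le I (le_corePt 𝒜 hI hQ) hlt')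

end Int

variable {ι : Type} [AddCommGroup ι] [DecidableEq ι] [Module.Free ℤ ι] [Module.Finite ℤ ι]
  {𝒜 : ι → AddSubgroup R} [GradedRing 𝒜]

/-- Relative heights: `ht(P/I) = ht(P*/I) + ht(P/P*)`. -/
theorem relHeight_eq_core_add (I : Ideal R) (hI : I.IsHomogeneous 𝒜) (P q : PrimeSpectrum R)
    (hP : I ≤ P.asIdeal) (hqeq : q.asIdeal = (Ideal.homogeneousCore 𝒜 P.asIdeal).toIdeal)
    (hq : I ≤ q.asIdeal) (hqP : q ≤ P) :
    relHeight I P hP = relHeight I q hq + relHeight q.asIdeal P hqP := by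
  classical
  refine le_antisymm ?_ (relHeight_add_le I hq hqP)
  have hqh : q.asIdeal.IsHomogeneous 𝒜 := hqeq ▸ core_homogeneous 𝒜 P.asIdeal
  let b := Module.finBasis ℤ ι
  let φ : Fin (Module.finrank ℤ ι) → (ι →+ ℤ) := fun i => (b.coord i).toAddMonoidHom
  -- homogeneous ideals are coarsely homogeneous
  have hcoarse : ∀ {J : Ideal R}, J.IsHomogeneous 𝒜 → ∀ (Pr : ι → Prop), ∀ x ∈ J, sel 𝒜 Pr x ∈ J := by
    intro J hJ Pr x hx
    rw [← sum_support_decompose 𝒜 (sel 𝒜 Pr x)]
    refine sum_mem fun g _ => ?_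
    show proj 𝒜 g (sel 𝒜 Pr x) ∈ J
    by_cases h : Pr g
    · rw [proj_sel_pos 𝒜 x h]; exact hJ g hx
    · rw [proj_sel_neg 𝒜 x h]; exact zero_mem _
  suffices H : ∀ j ≤ Module.finrank ℤ ι, ∃ (Q : PrimeSpectrum R) (hQI : I ≤ Q.asIdeal) (hQq : q ≤ Q),
      Q ≤ P ∧ (∀ i : Fin (Module.finrank ℤ ι), (i : ℕ) < j → ∀ k, ∀ x ∈ Q.asIdeal, sel 𝒜 (fun g => φ i g = k) x ∈ Q.asIdeal) ∧
      relHeight I P hP + relHeight q.asIdeal Q hQq ≤ relHeight I Q hQI + relHeight q.asIdeal P hqP by
    obtain ⟨Q, hQI, hQq, hQP, hsel, hle⟩ := H _ le_rfl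
    have hQh : Q.asIdeal.IsHomogeneous 𝒜 := by
      intro g x hx
      show proj 𝒜 g x ∈ Q.asIdeal
      have : ∀ j ≤ Module.finrank ℤ ι,
          sel 𝒜 (fun a => ∀ i : Fin (Module.finrank ℤ ι), (i : ℕ) < j → φ i a = φ i g) x ∈ Q.asIdeal := by
        intro j
        induction j with
        | zero =>
          intro _
          rw [show sel 𝒜 (fun a => ∀ i : Fin (Module.finrank ℤ ι), (i : ℕ) < 0 → φ i a = φ i g) x = x from
            ext_proj 𝒜 fun a => proj_sel_pos 𝒜 x fun i hi => absurd hi (Nat.not_lt_zero _)]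
          exact hx
        | succ j ih =>
          intro hj
          have h1 := hsel ⟨j, hj⟩ hj (φ ⟨j, hj⟩ g) _ (ih (Nat.le_of_succ_le hj))
          rw [sel_sel] at h1
          rw [sel_congr 𝒜 (Q := fun a => φ ⟨j, hj⟩ a = φ ⟨j, hj⟩ g ∧
            ∀ i : Fin (Module.finrank ℤ ι), (i : ℕ) < j → φ i a = φ i g) fun a => ?_]
          · exact h1
          exact ⟨fun h => ⟨h _ (Nat.lt_succ_self j), fun i hi => h i (Nat.lt_succ_of_lt hi)⟩,
            fun h i hi => (Nat.lt_succ_iff_lt_or_eq.1 hi).elim (h.2 i)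
              fun e => (Fin.ext e : i = ⟨j, hj⟩) ▸ h.1⟩
      have h2 := this _ le_rfl
      rw [sel_congr 𝒜 (Q := fun a => a = g) fun a => ?_, sel_eq] at h2
      · exact h2
      exact ⟨fun h => b.ext_elem fun i => h i i.2, fun h i _ => by rw [h]⟩
    have hQq' : Q = q := le_antisymm (by
      show Q.asIdeal ≤ q.asIdeal
      rw [hqeq]
      exact hQh.toIdeal_homogeneousCore_eq_self.ge.trans (Ideal.homogeneousCore_mono 𝒜 hQP)) hQq
    subst hQq'
    rwa [relHeight_self, add_zero] at hle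
  intro j
  induction j with
  | zero => exact fun _ => ⟨P, hP, hqP, le_rfl, fun i hi => absurd hi (Nat.not_lt_zero _), le_rfl⟩
  | succ j ih =>
    intro hj
    obtain ⟨Q, hQI, hQq, hQP, hsel, hle⟩ := ih (Nat.le_of_succ_le hj)
    let f := φ ⟨j, hj⟩
    let Q' := corePt (coarse 𝒜 f) Q
    have hIc : I.IsHomogeneous (coarse 𝒜 f) := (isHomogeneous_coarse_iff f 𝒜 I).2 fun k x hx => hcoarse hI _ x hx
    have hqc : q.asIdeal.IsHomogeneous (coarse 𝒜 f) :=
      (isHomogeneous_coarse_iff f 𝒜 q.asIdeal).2 fun k x hx => hcoarse hqh _ x hx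
    have hI' : I ≤ Q'.asIdeal := le_corePt _ hIc hQI
    have hq' : q ≤ Q' := le_corePt _ hqc hQq
    have hQ'Q : Q' ≤ Q := corePt_le _ Q
    refine ⟨Q', hI', hq', hQ'Q.trans hQP, fun i hi k x hx => ?_, ?_⟩
    · rcases Nat.lt_succ_iff_lt_or_eq.1 hi with hlt | heq
      · have hmem : ∀ l, sel 𝒜 (fun g => f g = l) (sel 𝒜 (fun g => φ i g = k) x) ∈ Q.asIdeal := fun l => by
          rw [sel_sel, sel_congr 𝒜 (Q := fun g => φ i g = k ∧ f g = l) fun g => and_comm, ← sel_sel]
          exact hsel i hlt k _ (hQ'Q ((isHomogeneous_coarse_iff f 𝒜 Q'.asIdeal).1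
            (core_homogeneous (coarse 𝒜 f) Q.asIdeal) l x hx))
        rw [← sum_support_decompose (coarse 𝒜 f) (sel 𝒜 (fun g => φ i g = k) x)]
        refine sum_mem fun l _ => mem_core (coarse 𝒜 f) Q.asIdeal (SetLike.coe_mem _) ?_
        show proj (coarse 𝒜 f) l _ ∈ _
        rw [proj_coarse]
        exact hmem l
      · obtain rfl : i = ⟨j, hj⟩ := Fin.ext heq
        exact (isHomogeneous_coarse_iff f 𝒜 Q'.asIdeal).1 (core_homogeneous (coarse 𝒜 f) Q.asIdeal) k x hx
    · rcases eq_or_lt_of_le hQ'Q with e | hlt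
      · have key : ∀ (Z : PrimeSpectrum R) (h1 : I ≤ Z.asIdeal) (h2 : q ≤ Z), Z = Q →
            relHeight I P hP + relHeight q.asIdeal Z h2 ≤ relHeight I Z h1 + relHeight q.asIdeal P hqP := by
          rintro Z h1 h2 rfl; exact hle
        exact key Q' hI' hq' e
      · have h1 : relHeight I Q hQI ≤ relHeight I Q' hI' + 1 := relHeight_le_core_add_one _ I hIc Q hQI
        have h2 : relHeight q.asIdeal Q' hq' + 1 ≤ relHeight q.asIdeal Q hQq := relHeight_add_one_le _ hq' hlt
        refine (ENat.add_le_add_iff_right ENat.one_ne_top).1 ?_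
        calc relHeight I P hP + relHeight q.asIdeal Q' hq' + 1
            = relHeight I P hP + (relHeight q.asIdeal Q' hq' + 1) := add_assoc _ _ _
          _ ≤ relHeight I P hP + relHeight q.asIdeal Q hQq := add_le_add le_rfl h2
          _ ≤ relHeight I Q hQI + relHeight q.asIdeal P hqP := hle
          _ ≤ relHeight I Q' hI' + 1 + relHeight q.asIdeal P hqP := add_le_add h1 le_rfl
          _ = _ := add_right_comm _ _ _

/-- The dimension of a localised finite module as a relative height. -/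
theorem supportDim_localized_eq (M : Type u) [AddCommGroup M] [Module R M] [Module.Finite R M]
    (P : PrimeSpectrum R) (hP : Module.annihilator R M ≤ P.asIdeal) :
    Module.supportDim (Localization.AtPrime P.asIdeal) (LocalizedModule P.asIdeal.primeCompl M) =
      (relHeight (Module.annihilator R M) P hP : WithBot ℕ∞) := by
  let B := Localization.AtPrime P.asIdeal
  let T := {Q : PrimeSpectrum R // Module.annihilator R M ≤ Q.asIdeal}
  let S := Module.support B (LocalizedModule P.asIdeal.primeCompl M)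
  let e := IsLocalization.AtPrime.primeSpectrumOrderIso B P.asIdeal
  have hmem : ∀ x : Set.Iic (⟨P.asIdeal, P.isPrime⟩ : PrimeSpectrum R),
      e.symm x ∈ S ↔ Module.annihilator R M ≤ x.1.asIdeal := fun x => by
    rw [QGorLib.mem_support_localized_iff,
      show PrimeSpectrum.comap (algebraMap R B) (e.symm x) = x.1 from congrArg Subtype.val (e.apply_symm_apply x),
      Module.mem_support_iff_of_finite]
  let Φ : S ≃o Set.Iic (⟨P, hP⟩ : T) :=
    { toFun := fun Q => ⟨⟨(e Q.1).1, (hmem _).1 (by rw [e.symm_apply_apply]; exact Q.2)⟩, (e Q.1).2⟩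
      invFun := fun Q => ⟨e.symm ⟨Q.1.1, Q.2⟩, (hmem _).2 Q.1.2⟩
      left_inv := fun Q => Subtype.ext (e.symm_apply_apply Q.1)
      right_inv := fun Q => by
        apply Subtype.ext
        apply Subtype.ext
        exact congrArg (fun z : Set.Iic (⟨P.asIdeal, P.isPrime⟩ : PrimeSpectrum R) => z.1) (e.apply_symm_apply ⟨Q.1.1, Q.2⟩)
      map_rel_iff' := fun {a b} => e.le_iff_le }
  rw [relHeight, height_eq_krullDim_Iic, Module.supportDim]
  exact krullDim_eq_of_orderIso Φ

end Groth.Agent.GrCoreLib
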