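import Mathlib
import Groth.Agent.GrInjLib.Hull
import Groth.Agent.GrInjLib.Primes
import Groth.Agent.InjHullLib.Basic
import Groth.Agent.LocCohLib.BaseChange
import Groth.Agent.GrInjLib.Ext
import Groth.Agent.GrCoreLib.Ext

/-! Localising a *canonical module at the *maximal ideal. -/

set_option autoImplicit false
set_option linter.style.haveILetI false
set_option linter.unusedSectionVars false
universe u

open DirectSum GrInjLib CategoryTheory TensorProduct

namespace Groth.Agent.GrCoreLib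

/-- An essential extension of a torsion module is torsion. -/
theorem torsion_of_essential {B : Type u} [CommRing B] [IsNoetherianRing B] {N F : Type u}
    [AddCommGroup N] [Module B N] [AddCommGroup F] [Module B F] (j : N →ₗ[B] F)
    (hj : InjHull.IsEssentialInj j) {I : Ideal B}
    (h : ∀ x : N, ∃ k : ℕ, ∀ b ∈ I ^ k, b • x = 0) (z : F) : ∃ k : ℕ, ∀ b ∈ I ^ k, b • z = 0 := by
  suffices hrad : I ≤ Ideal.radical (LinearMap.ker (LinearMap.toSpanSingleton B F z)) by
    obtain ⟨k, hk⟩ := Ideal.exists_pow_le_of_le_radical_of_fg hrad (IsNoetherian.noetherian I)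
    exact ⟨k, fun b hb => hk hb⟩
  intro r hr
  obtain ⟨n, hn⟩ := monotone_stabilizes_iff_noetherian.2 (inferInstance : IsNoetherianRing B)
    ⟨fun n => LinearMap.ker (LinearMap.toSpanSingleton B F (r ^ n • z)), monotone_nat_of_le_succ fun n b hb => by
      rw [LinearMap.mem_ker, LinearMap.toSpanSingleton_apply] at hb ⊢
      rw [pow_succ', mul_smul, smul_comm, hb, smul_zero]⟩
  refine ⟨n, ?_⟩
  show r ^ n • z = 0
  by_contra hne
  obtain ⟨b, x, hx, hbne⟩ := InjHullLib.exists_smul_mem_range hj hne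
  obtain ⟨k, hk⟩ := h x
  refine hbne ((hn (n + k) (Nat.le_add_right n k)).ge ?_ : b ∈ _)
  show b • r ^ (n + k) • z = 0
  rw [add_comm, pow_add, mul_smul, smul_comm, ← hx, ← map_smul, hk _ (Ideal.pow_mem_pow hr k), map_zero]

variable {ι : Type} [AddCommGroup ι] [DecidableEq ι] {R : Type u} [CommRing R] [IsNoetherianRing R]
  {𝒜 : ι → AddSubgroup R} [GradedRing 𝒜] {m : HomogeneousIdeal 𝒜}

/-- A homogeneous element outside the *maximal ideal is a unit. -/
theorem isUnit_of_notMem (hm : GrLC.IsStarLocal 𝒜 m) {a : ι} {r : R} (hr : r ∈ 𝒜 a)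
    (hrm : r ∉ m.toIdeal) : IsUnit r := by
  by_contra hu
  have hh : (Ideal.span {r}).IsHomogeneous 𝒜 :=
    Ideal.homogeneous_span 𝒜 _ fun y hy => ⟨a, by rw [Set.mem_singleton_iff.1 hy]; exact hr⟩
  obtain ⟨J, ⟨hJh, hJle, hJne⟩, hmax⟩ := set_has_maximal_iff_noetherian.2 (inferInstance : IsNoetherianRing R)
    {J : Ideal R | J.IsHomogeneous 𝒜 ∧ Ideal.span {r} ≤ J ∧ J ≠ ⊤}
    ⟨_, hh, le_rfl, fun h => hu (Ideal.span_singleton_eq_top.1 h)⟩
  let J' : HomogeneousIdeal 𝒜 := ⟨J, hJh⟩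
  have hco : IsCoatom J' := by
    refine ⟨fun h => hJne (by have := congrArg HomogeneousIdeal.toIdeal h; simpa [J'] using this), fun K hK => ?_⟩
    by_contra hKne
    refine hmax K.toIdeal ⟨K.isHomogeneous, hJle.trans hK.le, fun h => hKne ?_⟩ ?_
    · exact HomogeneousIdeal.toIdeal_injective (by simpa using h)
    · exact lt_of_le_of_ne hK.le fun h => hK.ne (HomogeneousIdeal.toIdeal_injective h)
  refine hrm ?_
  rw [← hm.2 J' hco]
  exact hJle (Ideal.mem_span_singleton_self r)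

/-- The localised *hull of `R ⧸ m` is a hull of the residue field. -/
theorem exists_hull_localized (hm : GrLC.IsStarLocal 𝒜 m) [m.toIdeal.IsPrime]
    {E' : Type u} [AddCommGroup E'] [Module R E'] {𝓔 : ι → AddSubgroup E'} [Decomposition 𝓔]
    [SetLike.GradedSMul 𝒜 𝓔] {e : (R ⧸ m.toIdeal) →ₗ[R] E'}
    (he : GrLC.IsStarInjHull 𝒜 (GrLC.quotGr 𝒜 m) 𝓔 e) :
    ∃ f : IsLocalRing.ResidueField (Localization.AtPrime m.toIdeal) →ₗ[Localization.AtPrime m.toIdeal]
      LocalizedModule m.toIdeal.primeCompl E', InjHull.IsInjectiveHull f := by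
  let S := m.toIdeal.primeCompl
  let B := Localization.AtPrime m.toIdeal
  let NB := LocalizedModule S E'
  let L := LocalizedModule.mkLinearMap S E'
  let X := GrLC.GMod.of 𝒜 E' 𝓔
  have hmap : m.toIdeal.map (algebraMap R B) = IsLocalRing.maximalIdeal B :=
    Localization.AtPrime.map_eq_maximalIdeal
  have htor : GrLC.gam m.toIdeal E' = ⊤ := GrInjLib.gam_eq_top 𝒜 m 𝓔 he.toIsStarEss
  have hzero : ∀ r : R, r ∈ m.toIdeal → r • e (Ideal.Quotient.mk m.toIdeal 1) = 0 := fun r hr => by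
    rw [← map_smul, Algebra.smul_def, Ideal.Quotient.algebraMap_eq, ← map_mul, mul_one,
      Ideal.Quotient.eq_zero_iff_mem.2 hr, map_zero]
  let k1 : killed m.toIdeal E' := ⟨e (Ideal.Quotient.mk m.toIdeal 1), (mem_killed _).2 hzero⟩
  let f' : Quo m.toIdeal m.toIdeal →ₗ[B] NB := killedHom m.toIdeal m.toIdeal E' k1
  -- the socle
  have hsoc : ∀ x : E', (∀ r ∈ m.toIdeal, r • x = 0) → ∃ c : R, x = c • (k1 : E') := by
    intro x hx
    suffices h : x ∈ R ∙ (k1 : E') by
      obtain ⟨c, hc⟩ := Submodule.mem_span_singleton.1 h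
      exact ⟨c, hc.symm⟩
    have hK := killed_homogeneous m.toIdeal 𝒜 m.isHomogeneous X
    have hx' : x ∈ killed m.toIdeal E' := (mem_killed _).2 hx
    refine mem_of_proj_mem 𝓔 fun g => ?_
    by_cases hy0 : proj 𝓔 g x = 0
    · rw [hy0]; exact zero_mem _
    have hy : proj 𝓔 g x ∈ killed m.toIdeal E' := hK g hx'
    obtain ⟨a, r, hra, hr1, hr2⟩ := GrInjLib.exists_smul_mem_range 𝒜 𝓔 he.essential
      (GrInjLib.range_hull_homogeneous 𝒜 m 𝓔 he.grHom) (proj_mem 𝓔 g x) hy0
    have hrm : r ∉ m.toIdeal := fun h => hr2 ((mem_killed _).1 hy r h)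
    obtain ⟨w, rfl⟩ := isUnit_of_notMem hm hra hrm
    obtain ⟨z, hz⟩ := hr1
    obtain ⟨z, rfl⟩ := Ideal.Quotient.mk_surjective z
    refine Submodule.mem_span_singleton.2 ⟨(↑w⁻¹ : R) * z, ?_⟩
    show ((↑w⁻¹ : R) * z) • e (Ideal.Quotient.mk m.toIdeal 1) = _
    rw [mul_smul, ← map_smul e z, Algebra.smul_def, Ideal.Quotient.algebraMap_eq, ← map_mul, mul_one, hz,
      smul_smul, Units.inv_mul, one_smul]
  have hquo : ∀ h : Quo m.toIdeal m.toIdeal →ₗ[B] NB, ∃ b : B, h = b • f' := fun h => by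
    obtain ⟨⟨⟨x, hx⟩, s⟩, hs⟩ := IsLocalizedModule.surj S (killedHom m.toIdeal m.toIdeal E') h
    obtain ⟨c, hc⟩ := hsoc x ((mem_killed _).1 hx)
    refine ⟨IsLocalization.mk' B c s, ?_⟩
    obtain ⟨w, hw⟩ := IsLocalization.map_units B s
    have h1 : (w : B) • h = algebraMap R B c • f' := by
      rw [hw, algebraMap_smul, algebraMap_smul]
      refine hs.trans ?_
      rw [← map_smul]
      exact congrArg _ (Subtype.ext hc)
    calc h = (↑w⁻¹ * w : B) • h := by rw [Units.inv_mul, one_smul]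
      _ = (↑w⁻¹ * algebraMap R B c) • f' := by rw [mul_smul, h1, ← mul_smul]
      _ = _ := by
        congr 1
        rw [Units.inv_mul_eq_iff_eq_mul, hw, mul_comm, IsLocalization.mk'_spec]
  -- torsion
  have htorB : ∀ x : NB, ∃ N : ℕ, ∀ b ∈ IsLocalRing.maximalIdeal B ^ N, b • x = 0 := by
    intro x
    obtain ⟨⟨y, s⟩, hys⟩ := IsLocalizedModule.surj S L x
    obtain ⟨N, hN⟩ : y ∈ GrLC.gam m.toIdeal E' := by rw [htor]; trivial
    refine ⟨N, fun b hb => ?_⟩
    obtain ⟨w, hw⟩ := IsLocalization.map_units B s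
    have hx : x = (↑w⁻¹ : B) • L y := by
      rw [← show (s : R) • x = L y from hys, ← algebraMap_smul B (s : R), ← hw, smul_smul, Units.inv_mul, one_smul]
    rw [hx, smul_comm]
    suffices hb0 : b • L y = 0 by rw [hb0, smul_zero]
    rw [← hmap, ← Ideal.map_pow] at hb
    induction hb using Submodule.span_induction with
    | mem b hb =>
      obtain ⟨r, hr, rfl⟩ := hb
      rw [algebraMap_smul, ← map_smul, hN r hr, map_zero]
    | zero => exact zero_smul B _
    | add a b _ _ ha hb => rw [add_smul, ha, hb, add_zero]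
    | smul c a _ ha => rw [smul_assoc, ha, smul_zero]
  -- the map on the residue field
  let J : Ideal B := m.toIdeal.map (algebraMap R B)
  have hJ : J = IsLocalRing.maximalIdeal B := hmap
  let eq : IsLocalRing.ResidueField B ≃ₗ[B] Quo m.toIdeal m.toIdeal := Submodule.quotEquivOfEq _ _ hJ.symm
  let f : IsLocalRing.ResidueField B →ₗ[B] NB := f' ∘ₗ eq.toLinearMap
  have hf'ne : f' ≠ 0 := fun h0 => by
    obtain ⟨c, hc⟩ := IsLocalizedModule.exists_of_eq (S := S)
      (f := killedHom m.toIdeal m.toIdeal E') (x₁ := k1) (x₂ := 0) (by rw [map_zero]; exact h0)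
    have h1 : e (Ideal.Quotient.mk m.toIdeal (c : R)) = 0 := by
      have h2 : (c : R) • (k1 : E') = 0 := by
        have := congrArg Subtype.val hc
        simpa [Submonoid.smul_def] using this
      rw [← h2, ← map_smul e (c : R), Algebra.smul_def, Ideal.Quotient.algebraMap_eq, ← map_mul, mul_one]
    rw [← map_zero e] at h1
    exact c.2 (Ideal.Quotient.eq_zero_iff_mem.1 (he.injective h1))
  haveI : IsSimpleModule B (IsLocalRing.ResidueField B) :=
    isSimpleModule_iff_quot_maximal.mpr ⟨_, inferInstance, ⟨LinearEquiv.refl B _⟩⟩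
  have hfne : f ≠ 0 := fun h0 => hf'ne (LinearMap.ext fun z => by
    have := LinearMap.congr_fun h0 (eq.symm z)
    simpa [f] using this)
  have hfinj : Function.Injective f := (LinearMap.injective_or_eq_zero f).resolve_right hfne
  -- every submodule meets the socle
  have hess : InjHull.IsEssentialInj f := by
    refine InjHullLib.isEssentialInj_of_forall hfinj fun x hx => ?_
    classical
    have hex := htorB x
    let N := Nat.find hex
    have hN : ∀ b ∈ IsLocalRing.maximalIdeal B ^ N, b • x = 0 := Nat.find_spec hex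
    obtain ⟨N', hN'⟩ : ∃ N', N = N' + 1 := Nat.exists_eq_add_of_le' (Nat.pos_of_ne_zero fun h0 => hx (by
      have := hN 1 (by rw [h0, pow_zero]; simp)
      rwa [one_smul] at this))
    obtain ⟨b, hb, hbx⟩ : ∃ b ∈ IsLocalRing.maximalIdeal B ^ N', b • x ≠ 0 := by
      by_contra! h
      have := Nat.find_min' hex (m := N') h
      omega
    refine ⟨b, ?_, hbx⟩
    let h : Quo m.toIdeal m.toIdeal →ₗ[B] NB := Submodule.liftQ _ (LinearMap.toSpanSingleton B NB (b • x))
      fun c hc => by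
        rw [LinearMap.mem_ker, LinearMap.toSpanSingleton_apply, smul_smul]
        refine hN _ ?_
        rw [hN', pow_succ']
        exact Ideal.mul_mem_mul (hmap ▸ hc) hb
    obtain ⟨t, ht⟩ := hquo h
    refine ⟨eq.symm (t • Submodule.Quotient.mk 1), ?_⟩
    show f' (eq (eq.symm (t • Submodule.Quotient.mk 1))) = b • x
    rw [LinearEquiv.apply_symm_apply, map_smul, ← LinearMap.smul_apply, ← ht]
    exact one_smul B (b • x)
  -- injectivity
  refine ⟨f, ⟨hess, ?_⟩⟩
  obtain ⟨F, _, _, j, hj⟩ := InjHullLib.exists_injectiveHull (R := B) NB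
  haveI := hj.isInjective
  by_contra hninj
  have hsurj : ¬ Function.Surjective j := fun hs => hninj <| by
    let ej := LinearEquiv.ofBijective j ⟨hj.injective, hs⟩
    exact InjHullLib.injective_of_retract j ej.symm.toLinearMap (LinearMap.ext fun z => ej.symm_apply_apply z)
  obtain ⟨y, hy⟩ := not_forall.1 hsurj
  let T := LinearMap.range j
  have hessj : ∀ z : F, z ≠ 0 → ∃ b : B, b • z ∈ T ∧ b • z ≠ 0 := fun z hz => by
    obtain ⟨b, w, hw, hne⟩ := InjHullLib.exists_smul_mem_range hj.toIsEssentialInj hz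
    exact ⟨b, ⟨w, hw⟩, hne⟩
  have hFtor : ∀ z : F, ∃ N : ℕ, ∀ b ∈ IsLocalRing.maximalIdeal B ^ N, b • z = 0 :=
    Groth.Agent.GrCoreLib.torsion_of_essential j hj.toIsEssentialInj htorB
  -- a socle element of the quotient
  obtain ⟨z, hzT, hzm⟩ : ∃ z : F, z ∉ T ∧ ∀ b ∈ IsLocalRing.maximalIdeal B, b • z ∈ T := by
    classical
    obtain ⟨N, hN⟩ := hFtor y
    have hyT : y ∉ T := fun ⟨w, hw⟩ => hy ⟨w, hw⟩
    have hex : ∃ N, ∀ b ∈ IsLocalRing.maximalIdeal B ^ N, b • y ∈ T :=
      ⟨N, fun b hb => by rw [hN b hb]; exact zero_mem T⟩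
    let N0 := Nat.find hex
    have hN0 : ∀ b ∈ IsLocalRing.maximalIdeal B ^ N0, b • y ∈ T := Nat.find_spec hex
    obtain ⟨N', hN'⟩ : ∃ N', N0 = N' + 1 := Nat.exists_eq_add_of_le' (Nat.pos_of_ne_zero fun h0 => hyT (by
      have := hN0 1 (by rw [h0, pow_zero]; simp)
      rwa [one_smul] at this))
    obtain ⟨b, hb, hby⟩ : ∃ b ∈ IsLocalRing.maximalIdeal B ^ N', b • y ∉ T := by
      by_contra! h
      have := Nat.find_min' hex (m := N') h
      omega
    refine ⟨b • y, hby, fun c hc => ?_⟩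
    rw [smul_smul]
    exact hN0 _ (by rw [hN', pow_succ']; exact Ideal.mul_mem_mul hc hb)
  -- the extension class
  let S3 : ShortComplex (ModuleCat.{u} B) := ShortComplex.mk (X₁ := ModuleCat.of B NB) (X₂ := ModuleCat.of B F)
    (X₃ := ModuleCat.of B (F ⧸ T)) (ModuleCat.ofHom j) (ModuleCat.ofHom T.mkQ)
    (by apply ModuleCat.hom_ext; exact LinearMap.ext fun w => (Submodule.Quotient.mk_eq_zero T).2 ⟨w, rfl⟩)
  have hS3 : S3.ShortExact :=
    { exact := (ShortComplex.ShortExact.moduleCat_exact_iff_function_exact _).2 (LinearMap.exact_map_mkQ_range j)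
      mono_f := (ModuleCat.mono_iff_injective _).2 hj.injective
      epi_g := (ModuleCat.epi_iff_surjective _).2 T.mkQ_surjective }
  haveI : Subsingleton (Abelian.Ext.{u} (ModuleCat.of B (Quo m.toIdeal m.toIdeal)) (ModuleCat.of B NB) 1) :=
    subsingleton_ext_localized m.toIdeal m.toIdeal 𝒜 m.isHomogeneous (X := X) he.starInj 0
  let φ : Quo m.toIdeal m.toIdeal →ₗ[B] F ⧸ T := Submodule.liftQ _
    (LinearMap.toSpanSingleton B (F ⧸ T) (T.mkQ z)) fun c hc => by
      rw [LinearMap.mem_ker, LinearMap.toSpanSingleton_apply, ← map_smul]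
      exact (Submodule.Quotient.mk_eq_zero T).2 (hzm c (hmap ▸ hc))
  obtain ⟨η, hη⟩ := Abelian.Ext.covariant_sequence_exact₃ (ModuleCat.of B (Quo m.toIdeal m.toIdeal)) hS3
    (Abelian.Ext.mk₀ (ModuleCat.ofHom φ)) (zero_add 1)
    (Subsingleton.elim (α := Abelian.Ext.{u} (ModuleCat.of B (Quo m.toIdeal m.toIdeal)) (ModuleCat.of B NB) 1) _ _)
  obtain ⟨ψ, rfl⟩ := (Abelian.Ext.mk₀_bijective _ _).2 η
  rw [Abelian.Ext.mk₀_comp_mk₀] at hη
  have hψ : ∀ w, T.mkQ (ψ.hom w) = φ w :=
    LinearMap.congr_fun (congrArg ModuleCat.Hom.hom ((Abelian.Ext.mk₀_bijective _ _).1 hη))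
  let w1 : F := ψ.hom (Submodule.Quotient.mk 1)
  have hw1T : w1 ∉ T := fun h => hzT <| by
    have := (hψ (Submodule.Quotient.mk 1)).symm.trans ((Submodule.Quotient.mk_eq_zero T).2 h)
    rwa [show φ (Submodule.Quotient.mk 1) = T.mkQ z from (one_smul B (T.mkQ z) :), Submodule.mkQ_apply,
      Submodule.Quotient.mk_eq_zero] at this
  have hw1 : ∀ c ∈ IsLocalRing.maximalIdeal B, c • w1 = 0 := fun c hc => by
    rw [← map_smul, ← Submodule.Quotient.mk_smul, (Submodule.Quotient.mk_eq_zero _).2 (by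
      rw [smul_eq_mul, mul_one]; exact hmap.ge hc), map_zero]
  obtain ⟨b, hbT, hb0⟩ := hessj w1 fun h => hw1T (h ▸ zero_mem T)
  obtain ⟨u, rfl⟩ : IsUnit b := IsLocalRing.notMem_maximalIdeal.1 fun hb => hb0 (hw1 b hb)
  refine hw1T ?_
  have := T.smul_mem (↑u⁻¹ : B) hbT
  rwa [smul_smul, Units.inv_mul, one_smul] at this

/-- Localised graded local cohomology is local cohomology of the local ring. -/
theorem exists_topH_equiv [m.toIdeal.IsPrime] (I : GrLC.StarInjRes 𝒜 𝒜) (n : ℕ) :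
    Nonempty (LocalizedModule m.toIdeal.primeCompl (I.H m n) ≃ₗ[Localization.AtPrime m.toIdeal]
      ((localCohomology (IsLocalRing.maximalIdeal (Localization.AtPrime m.toIdeal)) n).obj
        (ModuleCat.of (Localization.AtPrime m.toIdeal) (Localization.AtPrime m.toIdeal)) : Type u)) := by
  let B := Localization.AtPrime m.toIdeal
  haveI : Module.Flat R B := IsLocalization.flat B m.toIdeal.primeCompl
  obtain ⟨e1⟩ := LocCohLib.exists_baseChange (B := B) m.toIdeal R n
  obtain ⟨e2⟩ := GrInjLib.exists_H_equiv_locCoh I m n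
  let e3 : B ⊗[R] R ≃ₗ[B] B := AlgebraTensorModule.rid R B B
  rw [← show m.toIdeal.map (algebraMap R B) = IsLocalRing.maximalIdeal B from Localization.AtPrime.map_eq_maximalIdeal]
  exact ⟨(LocalizedModule.equivTensorProduct m.toIdeal.primeCompl (I.H m n)).trans
    ((AlgebraTensorModule.congr (LinearEquiv.refl B B) e2).trans
      (e1.trans ((localCohomology (m.toIdeal.map (algebraMap R B)) n).mapIso e3.toModuleIso).toLinearEquiv))⟩

/-- The localisation of a *canonical module is a canonical module of the local ring. -/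
theorem exists_dual_localized (hm : GrLC.IsStarLocal 𝒜 m) [m.toIdeal.IsPrime] {n : ℕ}
    {I : GrLC.StarInjRes 𝒜 𝒜} {E' : Type u} [AddCommGroup E'] [Module R E'] {𝓔 : ι → AddSubgroup E'}
    [Decomposition 𝓔] [SetLike.GradedSMul 𝒜 𝓔] {e : (R ⧸ m.toIdeal) →ₗ[R] E'}
    (he : GrLC.IsStarInjHull 𝒜 (GrLC.quotGr 𝒜 m) 𝓔 e) {C : Type u} [AddCommGroup C] [Module R C]
    {𝒞 : ι → AddSubgroup C} [Decomposition 𝒞] [SetLike.GradedSMul 𝒜 𝒞]
    (hC : GrLC.IsStarCanonical 𝒜 𝒞 𝓔 m n I) {E₀ : Type u} [AddCommGroup E₀]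
    [Module (Localization.AtPrime m.toIdeal) E₀]
    {f₀ : IsLocalRing.ResidueField (Localization.AtPrime m.toIdeal) →ₗ[Localization.AtPrime m.toIdeal] E₀}
    (hf₀ : InjHull.IsInjectiveHull f₀) :
    Nonempty ((LocalizedModule m.toIdeal.primeCompl C →ₗ[Localization.AtPrime m.toIdeal] E₀)
      ≃ₗ[Localization.AtPrime m.toIdeal]
      ((localCohomology (IsLocalRing.maximalIdeal (Localization.AtPrime m.toIdeal)) n).obj
        (ModuleCat.of (Localization.AtPrime m.toIdeal) (Localization.AtPrime m.toIdeal)) : Type u)) := by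
  obtain ⟨hfin, φ, -⟩ := hC
  haveI := hfin
  haveI : Module.FinitePresentation R C := Module.finitePresentation_of_finite R C
  obtain ⟨f, hf⟩ := exists_hull_localized hm he
  obtain ⟨eh, -⟩ := InjHullLib.exists_linearEquiv hf₀ hf
  obtain ⟨eH⟩ := exists_topH_equiv (m := m) I n
  obtain ⟨eL⟩ := nonempty_equiv_localized m.toIdeal.primeCompl
    (IsLocalizedModule.mapExtendScalars m.toIdeal.primeCompl (LocalizedModule.mkLinearMap m.toIdeal.primeCompl C)
      (LocalizedModule.mkLinearMap m.toIdeal.primeCompl E') (Localization.AtPrime m.toIdeal))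
  exact ⟨((LinearEquiv.congrRight eh).trans eL).trans
    ((IsLocalizedModule.mapEquiv m.toIdeal.primeCompl
      (LocalizedModule.mkLinearMap m.toIdeal.primeCompl (C →ₗ[R] E'))
      (LocalizedModule.mkLinearMap m.toIdeal.primeCompl (I.H m n)) (Localization.AtPrime m.toIdeal) φ).trans eH)⟩

end Groth.Agent.GrCoreLib
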