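import Mathlib
import Groth.Agent.GorLib.LocInjDim
import Groth.Agent.GrCoreLib.Core
import Groth.Agent.GrCoreLib.Local

/-! Finite injective dimension at the *maximal ideal spreads to the whole ring. -/

set_option autoImplicit false
set_option linter.style.haveILetI false
set_option linter.unusedSectionVars false
universe u

open DirectSum GrInjLib CategoryTheory

namespace Groth.Agent.GrCoreLib

variable {ι : Type} [AddCommGroup ι] [DecidableEq ι] [Module.Free ℤ ι] [Module.Finite ℤ ι]
  {R : Type u} [CommRing R] [IsNoetherianRing R] {𝒜 : ι → AddSubgroup R} [GradedRing 𝒜]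
  {m : HomogeneousIdeal 𝒜}

/-- A graded module vanishing at the *maximal ideal vanishes. -/
theorem subsingleton_of_localized (hm : GrLC.IsStarLocal 𝒜 m) [m.toIdeal.IsPrime] (W : GrLC.GMod.{u} 𝒜)
    (h : Subsingleton (LocalizedModule m.toIdeal.primeCompl W.carrier)) : Subsingleton W.carrier := by
  classical
  refine subsingleton_of_forall_eq 0 fun x => eq_zero_of_proj W.gr x fun g => ?_
  rw [LocalizedModule.subsingleton_iff] at h
  obtain ⟨s, hs, hsx⟩ := h (proj W.gr g x)
  obtain ⟨a, ha⟩ : ∃ a, (decompose 𝒜 s a : R) ∉ m.toIdeal := by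
    by_contra! h
    exact hs (by rw [← sum_support_decompose 𝒜 s]; exact sum_mem fun a _ => h a)
  have h1 : (decompose 𝒜 s a : R) • proj W.gr g x = 0 :=
    (annH_homogeneous 𝒜 W.gr (proj_mem W.gr g x)) a hsx
  obtain ⟨w, hw⟩ := isUnit_of_notMem hm (decompose 𝒜 s a).2 ha
  rw [← hw] at h1
  simpa [smul_smul] using congrArg ((↑w⁻¹ : R) • ·) h1

/-- Bass numbers vanish above the injective dimension at the *maximal ideal plus the rank. -/
theorem bassNum_eq_zero_of_injDim (hm : GrLC.IsStarLocal 𝒜 m) [m.toIdeal.IsPrime] (M : GrLC.GMod.{u} 𝒜)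
    {d : ℕ} (hd : HasInjectiveDimensionLT (ModuleCat.of (Localization.AtPrime m.toIdeal)
      (LocalizedModule m.toIdeal.primeCompl M.carrier)) (d + 1))
    (p : Ideal R) [p.IsPrime] [(Ideal.homogeneousCore 𝒜 p).toIdeal.IsPrime]
    (i : ℕ) (hi : d + Module.finrank ℤ ι < i) : GrLC.bassNum p M.carrier i = 0 := by
  haveI := hd
  have hq := core_homogeneous 𝒜 p
  obtain ⟨-, hdim, hrk⟩ := isRegular_quot_core 𝒜 _ p hq (core_le 𝒜 p) (fun a x hx hxp => mem_core 𝒜 p hx hxp)
  rw [hdim] at hrk
  obtain ⟨d1, hd1⟩ : ∃ d1 : ℕ, (p.map (Ideal.Quotient.mk (Ideal.homogeneousCore 𝒜 p).toIdeal)).height = d1 := by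
    refine ⟨_, (ENat.coe_toNat fun h => ?_).symm⟩
    rw [h] at hrk
    have : (⊤ : ℕ∞) ≤ (Module.finrank ℤ ι : ℕ) := by exact_mod_cast hrk
    simp at this
  have hd1le : d1 ≤ Module.finrank ℤ ι := by rw [hd1] at hrk; exact_mod_cast hrk
  obtain ⟨-, h2⟩ := bassNum_shift _ p hq (core_le 𝒜 p) (fun a x hx hxp => mem_core 𝒜 p hx hxp) M hd1
  obtain ⟨j, rfl⟩ := Nat.exists_eq_add_of_le' (show d1 ≤ i by omega)
  rw [h2]
  let q := (Ideal.homogeneousCore 𝒜 p).toIdeal
  obtain ⟨W, -, hW'⟩ := exists_graded_rep q 𝒜 hq j M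
  haveI : Subsingleton W.carrier := subsingleton_of_localized hm W <| by
    haveI := HasInjectiveDimensionLT.subsingleton (ModuleCat.of (Localization.AtPrime m.toIdeal)
      (LocalizedModule m.toIdeal.primeCompl M.carrier)) (d + 1) j (by omega)
      (ModuleCat.of (Localization.AtPrime m.toIdeal) (Quo q m.toIdeal))
    exact (hW' m.toIdeal).some.symm.toEquiv.subsingleton
  haveI : Subsingleton (LocalizedModule q.primeCompl W.carrier) :=
    LocalizedModule.subsingleton_iff.2 fun x => ⟨1, one_mem _, by rw [one_smul]; exact Subsingleton.elim _ _⟩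
  haveI : Subsingleton (Abelian.Ext.{u} (ModuleCat.of (Localization.AtPrime q) (Quo q q))
      (ModuleCat.of (Localization.AtPrime q) (LocalizedModule q.primeCompl M.carrier)) j) :=
    (hW' q).some.toEquiv.subsingleton
  have e : Quo q q ≃ₗ[Localization.AtPrime q] IsLocalRing.ResidueField (Localization.AtPrime q) :=
    Submodule.quotEquivOfEq _ _ Localization.AtPrime.map_eq_maximalIdeal
  haveI := GorLib.ext_subsingleton_of_iso e.toModuleIso
    (ModuleCat.of (Localization.AtPrime q) (LocalizedModule q.primeCompl M.carrier)) j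
  exact Module.length_eq_zero

/-- Finite injective dimension at the *maximal ideal gives finite injective dimension. -/
theorem hasInjectiveDimensionLT_of_max (hm : GrLC.IsStarLocal 𝒜 m) [m.toIdeal.IsPrime] (M : GrLC.GMod.{u} 𝒜)
    [Module.Finite R M.carrier] {d : ℕ} (hd : HasInjectiveDimensionLT (ModuleCat.of (Localization.AtPrime m.toIdeal)
      (LocalizedModule m.toIdeal.primeCompl M.carrier)) (d + 1))
    (hcore : ∀ p : Ideal R, p.IsPrime → (Ideal.homogeneousCore 𝒜 p).toIdeal.IsPrime) :
    HasInjectiveDimensionLT (ModuleCat.of R M.carrier) (d + Module.finrank ℤ ι + 1) := by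
  rw [GorLib.hasInjectiveDimensionLT_iff_localizations]
  intro p
  haveI := hcore p.asIdeal p.isPrime
  refine GorLib.hasInjectiveDimensionLT_of_residueField _ _ fun i hi => ?_
  exact Module.length_eq_zero_iff.1 (bassNum_eq_zero_of_injDim hm M hd p.asIdeal i (by omega))

end Groth.Agent.GrCoreLib
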