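import Mathlib
import Groth.Agent.GrCoreLib.InjDim
import Groth.Agent.GrInjLib.Primes
import Groth.Agent.CanonLib.CMEnd
import Groth.Agent.LocCohLib.Vanishing
import Groth.Agent.InjHullLib.Basic

/-! Pointwise canonical modules over a *local ring. -/

set_option autoImplicit false
set_option linter.style.haveILetI false
set_option linter.unusedSectionVars false
universe u

open DirectSum GrInjLib CategoryTheory

namespace Groth.Agent.GrCoreLib

variable {R : Type u} [CommRing R] [LocCoh.IsCohenMacaulayRing R]

/-- `C` has a canonical module as localisation at `q`. -/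
def IsCanonicalAt (C : Type u) [AddCommGroup C] [Module R C] (q : Ideal R) [q.IsPrime] : Prop :=
  ∀ (nq : ℕ), ringKrullDim (Localization.AtPrime q) = nq → ∀ (E₀ : Type u) [AddCommGroup E₀]
    [Module (Localization.AtPrime q) E₀]
    (f₀ : IsLocalRing.ResidueField (Localization.AtPrime q) →ₗ[Localization.AtPrime q] E₀),
    InjHull.IsInjectiveHull f₀ →
      Nonempty ((LocalizedModule q.primeCompl C →ₗ[Localization.AtPrime q] E₀) ≃ₗ[Localization.AtPrime q]
        LocCoh.H (IsLocalRing.maximalIdeal (Localization.AtPrime q)) nq (Localization.AtPrime q))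

variable {C : Type u} [AddCommGroup C] [Module R C] [Module.Finite R C]
  {C' : Type u} [AddCommGroup C'] [Module R C'] [Module.Finite R C'] (q : Ideal R) [q.IsPrime]

/-- Local endomorphisms of a canonical module are scalars. -/
theorem bijective_smul_id_localized (hC : IsCanonicalAt C q) :
    Function.Bijective fun r : Localization.AtPrime q =>
      r • (LinearMap.id : LocalizedModule q.primeCompl C →ₗ[Localization.AtPrime q] _) := by
  haveI := LocCoh.IsCohenMacaulayRing.isCohenMacaulayLocalRing_localization (R := R) q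
  obtain ⟨d, hd⟩ : ∃ d : ℕ, ringKrullDim (Localization.AtPrime q) = d := RegLocal.exists_nat_ringKrullDim _
  obtain ⟨F, _, _, f, hf⟩ := InjHullLib.exists_injectiveHull (R := Localization.AtPrime q)
    (IsLocalRing.ResidueField (Localization.AtPrime q))
  obtain ⟨eK⟩ := hC d hd F f hf
  exact CanonLib.bijective_smul_id hd hf eK

/-- Two canonical modules agree locally. -/
theorem nonempty_equiv_localized_canonical (hC : IsCanonicalAt C q) (hC' : IsCanonicalAt C' q) :
    Nonempty (LocalizedModule q.primeCompl C ≃ₗ[Localization.AtPrime q] LocalizedModule q.primeCompl C') := by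
  obtain ⟨d, hd⟩ : ∃ d : ℕ, ringKrullDim (Localization.AtPrime q) = d := RegLocal.exists_nat_ringKrullDim _
  obtain ⟨F, _, _, f, hf⟩ := InjHullLib.exists_injectiveHull (R := Localization.AtPrime q)
    (IsLocalRing.ResidueField (Localization.AtPrime q))
  obtain ⟨eK⟩ := hC d hd F f hf
  obtain ⟨eK'⟩ := hC' d hd F f hf
  exact CanonLib.nonempty_equiv d (LocCohLib.cdLE_of_ringKrullDim _ d hd.le) hf _ eK _ eK'

/-- A module canonical at every maximal ideal has only scalar endomorphisms. -/
theorem bijective_smul_id_of_canonicalAt (hC : ∀ (P : Ideal R) [P.IsPrime], IsCanonicalAt C P) :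
    Function.Bijective (fun r : R => r • (LinearMap.id : C →ₗ[R] C)) := by
  haveI : Module.FinitePresentation R C := Module.finitePresentation_of_finite R C
  refine bijective_of_isLocalized_maximal (fun (P : Ideal R) _ => Localization.AtPrime P)
    (fun P _ => Algebra.linearMap R (Localization.AtPrime P))
    (fun (P : Ideal R) _ => LocalizedModule P.primeCompl C →ₗ[Localization.AtPrime P] LocalizedModule P.primeCompl C)
    (fun P _ => IsLocalizedModule.mapExtendScalars P.primeCompl (LocalizedModule.mkLinearMap P.primeCompl C)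
      (LocalizedModule.mkLinearMap P.primeCompl C) (Localization.AtPrime P))
    (LinearMap.toSpanSingleton R (C →ₗ[R] C) LinearMap.id) fun P _ => ?_
  haveI := Ideal.IsMaximal.isPrime' P
  let L := LocalizedModule.mkLinearMap P.primeCompl C
  let G := IsLocalizedModule.mapExtendScalars P.primeCompl L L (Localization.AtPrime P)
  let Φ : Localization.AtPrime P →ₗ[R] (LocalizedModule P.primeCompl C →ₗ[Localization.AtPrime P]
      LocalizedModule P.primeCompl C) := (LinearMap.toSpanSingleton (Localization.AtPrime P) _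
        (LinearMap.id : LocalizedModule P.primeCompl C →ₗ[Localization.AtPrime P] _)).restrictScalars R
  have hid : G LinearMap.id = LinearMap.id := LinearMap.ext fun z =>
    LinearMap.congr_fun (IsLocalizedModule.map_id P.primeCompl L) z
  have hΦ : IsLocalizedModule.map P.primeCompl (Algebra.linearMap R (Localization.AtPrime P)) G
      (LinearMap.toSpanSingleton R (C →ₗ[R] C) LinearMap.id) = Φ := by
    haveI hG : IsLocalizedModule P.primeCompl G := inferInstance
    refine IsLocalizedModule.ext P.primeCompl (Algebra.linearMap R (Localization.AtPrime P))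
      (fun x => hG.map_units x) (LinearMap.ext_ring ?_)
    rw [LinearMap.comp_apply, IsLocalizedModule.map_apply, LinearMap.toSpanSingleton_apply, one_smul, hid,
      LinearMap.comp_apply, Algebra.linearMap_apply, map_one]
    exact (one_smul (Localization.AtPrime P) (LinearMap.id : LocalizedModule P.primeCompl C →ₗ[Localization.AtPrime P] _)).symm
  show Function.Bijective (IsLocalizedModule.map P.primeCompl (Algebra.linearMap R (Localization.AtPrime P)) G
      (LinearMap.toSpanSingleton R (C →ₗ[R] C) LinearMap.id))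
  rw [hΦ]
  exact bijective_smul_id_localized P (hC P)

/-- Uniqueness up to a shift. -/
theorem exists_shift_equiv {ι : Type} [AddCommGroup ι] [DecidableEq ι] [Module.Free ℤ ι] [Module.Finite ℤ ι] {𝒜 : ι → AddSubgroup R} [GradedRing 𝒜]
    {m : HomogeneousIdeal 𝒜} (hm : GrLC.IsStarLocal 𝒜 m) [m.toIdeal.IsPrime]
    (𝒞 : ι → AddSubgroup C) [Decomposition 𝒞] [SetLike.GradedSMul 𝒜 𝒞]
    (𝒞' : ι → AddSubgroup C') [Decomposition 𝒞'] [SetLike.GradedSMul 𝒜 𝒞']
    (hC : IsCanonicalAt C m.toIdeal) (hC' : IsCanonicalAt C' m.toIdeal) :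
    ∃ (g : ι) (φ : C ≃ₗ[R] C'), GrLC.IsGrHomDeg 𝒞 𝒞' φ.toLinearMap g := by
  classical
  haveI : Module.FinitePresentation R C := Module.finitePresentation_of_finite R C
  let B := Localization.AtPrime m.toIdeal
  let S := m.toIdeal.primeCompl
  let G := IsLocalizedModule.mapExtendScalars S (LocalizedModule.mkLinearMap S C)
    (LocalizedModule.mkLinearMap S C') B
  obtain ⟨ψ⟩ := nonempty_equiv_localized_canonical m.toIdeal hC hC'
  obtain ⟨⟨h, s⟩, hh⟩ := IsLocalizedModule.surj S G ψ.toLinearMap
  obtain ⟨T, hT⟩ := exists_sum_parts 𝒜 𝒞 𝒞' h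
  have hc : ∀ d, ∃ c : B, G (degPart 𝒜 𝒞 𝒞' h d) = c • ψ.toLinearMap := fun d => by
    obtain ⟨c, hc⟩ := (bijective_smul_id_localized m.toIdeal hC).2 (ψ.symm.toLinearMap ∘ₗ G (degPart 𝒜 𝒞 𝒞' h d))
    refine ⟨c, LinearMap.ext fun z => ψ.symm.injective ?_⟩
    have := LinearMap.congr_fun hc z
    rw [LinearMap.smul_apply, map_smul]
    simpa using this.symm
  choose c hc using hc
  obtain ⟨d, -, hd⟩ : ∃ d ∈ T, IsUnit (c d) := by
    by_contra! hno
    have hsum : (∑ d ∈ T, c d) ∈ IsLocalRing.maximalIdeal B :=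
      sum_mem fun d hd => (IsLocalRing.mem_maximalIdeal _).2 (hno d hd)
    have h1 : (∑ d ∈ T, c d) • ψ.toLinearMap = algebraMap R B s • ψ.toLinearMap := by
      rw [Finset.sum_smul, algebraMap_smul]
      refine Eq.trans ?_ hh.symm
      show _ = G h
      conv_rhs => rw [hT, map_sum]
      exact Finset.sum_congr rfl fun d _ => (hc d).symm
    have h2 : (∑ d ∈ T, c d) = algebraMap R B s := by
      refine (bijective_smul_id_localized m.toIdeal hC).1 (LinearMap.ext fun z => ψ.injective ?_)
      have := LinearMap.congr_fun h1 z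
      simp only [LinearMap.smul_apply, LinearMap.id_apply, map_smul]
      exact this
    exact (IsLocalRing.mem_maximalIdeal _).1 hsum (h2 ▸ IsLocalization.map_units B s)
  let φ := degPart 𝒜 𝒞 𝒞' h d
  have hφ : GrLC.IsGrHomDeg 𝒞 𝒞' φ d := degPart_deg 𝒜 𝒞 𝒞' h d
  have hb : Function.Bijective (IsLocalizedModule.map S (LocalizedModule.mkLinearMap S C)
      (LocalizedModule.mkLinearMap S C') φ) := by
    show Function.Bijective (G φ)
    rw [hc d]
    exact ((LinearEquiv.smulOfUnit hd.unit).bijective).comp ψ.bijective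
  have hinj : Function.Injective φ := by
    rw [← LinearMap.ker_eq_bot]
    have hk := ker_homogeneous 𝒞 𝒞' hφ
    haveI : Subsingleton (subG 𝒜 𝒞 hk).carrier := subsingleton_of_localized hm (subG 𝒜 𝒞 hk) <|
      LocalizedModule.subsingleton_iff.2 fun x => by
        have hx : φ (subIncl 𝒜 𝒞 hk x) = 0 := subIncl_mem 𝒜 𝒞 hk x
        have h0 : LocalizedModule.mkLinearMap S C (subIncl 𝒜 𝒞 hk x) = 0 := hb.1 (by
          rw [IsLocalizedModule.map_apply, hx, map_zero, map_zero])
        obtain ⟨t, ht⟩ := IsLocalizedModule.exists_of_eq (S := S) (f := LocalizedModule.mkLinearMap S C)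
          (x₂ := 0) (h0.trans (map_zero _).symm)
        refine ⟨t, t.2, subIncl_injective 𝒜 𝒞 hk ?_⟩
        rw [map_smul, map_zero]
        simpa [Submonoid.smul_def] using ht
    refine (Submodule.eq_bot_iff _).2 fun x hx => ?_
    exact congrArg Subtype.val (Subsingleton.elim (α := (subG 𝒜 𝒞 hk).carrier) ⟨x, hx⟩ 0)
  have hsurj : Function.Surjective φ := by
    have hr := range_homogeneous 𝒞 𝒞' hφ
    haveI : Subsingleton (quotG 𝒜 𝒞' hr).carrier := subsingleton_of_localized hm (quotG 𝒜 𝒞' hr) <|
      LocalizedModule.subsingleton_iff.2 fun x => by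
        obtain ⟨y, rfl⟩ := quotMk_surjective 𝒜 𝒞' hr x
        obtain ⟨z, hz⟩ := hb.2 (LocalizedModule.mkLinearMap S C' y)
        obtain ⟨⟨w, t⟩, hw⟩ := IsLocalizedModule.surj S (LocalizedModule.mkLinearMap S C) z
        have h0 : LocalizedModule.mkLinearMap S C' ((t : R) • y) = LocalizedModule.mkLinearMap S C' (φ w) := by
          rw [map_smul, ← hz, ← LinearMap.map_smul_of_tower, show (t : R) • z = _ from hw, IsLocalizedModule.map_apply]
        obtain ⟨t', ht'⟩ := IsLocalizedModule.exists_of_eq (S := S) h0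
        refine ⟨(t' : R) * (t : R), (t' * t).2, ?_⟩
        rw [← map_smul, mul_smul, ← LinearMap.mem_ker, ker_quotMk]
        rw [Submonoid.smul_def, Submonoid.smul_def] at ht'
        exact ⟨(t' : R) • w, by rw [map_smul]; exact ht'.symm⟩
    intro y
    have : quotMk 𝒜 𝒞' hr y = 0 := Subsingleton.elim _ _
    rw [← LinearMap.mem_ker, ker_quotMk] at this
    exact this
  exact ⟨d, LinearEquiv.ofBijective φ ⟨hinj, hsurj⟩, hφ⟩

end Groth.Agent.GrCoreLib

namespace Groth.Agent.GrCoreLib

/-- The *maximal ideal of a *local ring is prime. -/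
theorem isPrime_of_starLocal {ι : Type} [AddCommGroup ι] [DecidableEq ι] [Module.Free ℤ ι] [Module.Finite ℤ ι]
    {R : Type u} [CommRing R] [IsNoetherianRing R] {𝒜 : ι → AddSubgroup R} [GradedRing 𝒜]
    {m : HomogeneousIdeal 𝒜} (hm : GrLC.IsStarLocal 𝒜 m) : m.toIdeal.IsPrime :=
  isPrime_of_homogeneous 𝒜 m.isHomogeneous
    (fun h => hm.1.1 (HomogeneousIdeal.toIdeal_injective (by simpa using h))) fun a b x hx y hy hxy => by
      by_cases h : x ∈ m.toIdeal
      · exact Or.inl h
      obtain ⟨w, rfl⟩ := isUnit_of_notMem hm hx h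
      exact Or.inr (by simpa using m.toIdeal.mul_mem_left (↑w⁻¹ : R) hxy)

end Groth.Agent.GrCoreLib
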