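import Mathlib
import Groth.Agent.GrCoreLib.CanonUnique
import Groth.Agent.GrCoreLib.Local
import Groth.Agent.GrInjLib.Resolution
import Groth.Agent.GorLib.TopHull

/-! Top graded local cohomology of a Gorenstein *local ring. -/

set_option autoImplicit false
set_option linter.style.haveILetI false
set_option linter.unusedSectionVars false
universe u

open DirectSum GrInjLib CategoryTheory

namespace Groth.Agent.GrCoreLib

variable {ι : Type} [AddCommGroup ι] [DecidableEq ι] {R : Type u} [CommRing R] [IsNoetherianRing R]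
  {𝒜 : ι → AddSubgroup R} [GradedRing 𝒜]
  {M : Type u} [AddCommGroup M] [Module R M] {ℳ : ι → AddSubgroup M} [Decomposition ℳ]
  [SetLike.GradedSMul 𝒜 ℳ]

/-- Graded local cohomology as a graded module. -/
noncomputable def HMod (E : GrLC.StarInjRes 𝒜 ℳ) (a : HomogeneousIdeal 𝒜) (i : ℕ) : GrLC.GMod.{u} 𝒜 :=
  { carrier := E.H a i
    gr := E.Hgr a i
    dec := (H_isInternal E a i).chooseDecomposition
    gsmul := ⟨fun {b c r x} hr hx => by
      obtain ⟨z, hz, rfl⟩ := hx
      exact ⟨r • z, GrInjLib.smul_mem 𝒜 (E.X i).gr hr hz, map_smul _ r z⟩⟩ }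

/-- Classes are killed by a power of the ideal. -/
theorem hmod_torsion (E : GrLC.StarInjRes 𝒜 ℳ) (a : HomogeneousIdeal 𝒜) (i : ℕ) (x : (HMod E a i).carrier) :
    ∃ k : ℕ, ∀ r ∈ a.toIdeal ^ k, r • x = 0 := by
  obtain ⟨z, rfl⟩ := Submodule.mkQ_surjective _ (x : E.H a i)
  obtain ⟨k, hk⟩ := z.2.1
  refine ⟨k, fun r hr => ?_⟩
  show r • ((E.cobdy a i).comap (E.cocyc a i).subtype).mkQ z = 0
  rw [← map_smul, show r • z = 0 from Subtype.ext (hk r hr), map_zero]

variable [Module.Free ℤ ι] [Module.Finite ℤ ι]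

/-- A torsion graded module with cyclic localised socle, injective at `m`, is the shifted *hull. -/
theorem exists_shift_equiv_hull {m : HomogeneousIdeal 𝒜} (hm : GrLC.IsStarLocal 𝒜 m) [m.toIdeal.IsPrime]
    (H : GrLC.GMod.{u} 𝒜) (htor : ∀ x : H.carrier, ∃ k : ℕ, ∀ r ∈ m.toIdeal ^ k, r • x = 0)
    {f₀ : IsLocalRing.ResidueField (Localization.AtPrime m.toIdeal) →ₗ[Localization.AtPrime m.toIdeal]
      LocalizedModule m.toIdeal.primeCompl H.carrier} (hf₀ : InjHull.IsInjectiveHull f₀)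
    {E' : Type u} [AddCommGroup E'] [Module R E'] {𝓔 : ι → AddSubgroup E'} [Decomposition 𝓔]
    [SetLike.GradedSMul 𝒜 𝓔] {e : (R ⧸ m.toIdeal) →ₗ[R] E'}
    (he : GrLC.IsStarInjHull 𝒜 (GrLC.quotGr 𝒜 m) 𝓔 e) :
    ∃ (g : ι) (φ : H.carrier ≃ₗ[R] E'), GrLC.IsGrHomDeg H.gr 𝓔 φ.toLinearMap g := by
  classical
  let S := m.toIdeal.primeCompl
  let B := Localization.AtPrime m.toIdeal
  let L := LocalizedModule.mkLinearMap S H.carrier
  have hmap : m.toIdeal.map (algebraMap R B) = IsLocalRing.maximalIdeal B := Localization.AtPrime.map_eq_maximalIdeal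
  -- localisation is faithful
  have hL : ∀ {d : ι} {x : H.carrier}, x ∈ H.gr d → L x = 0 → x = 0 := by
    intro d x hx h
    obtain ⟨s, hs⟩ := IsLocalizedModule.exists_of_eq (S := S) (f := L) (x₂ := (0 : H.carrier))
      (h.trans (map_zero L).symm)
    rw [smul_zero, Submonoid.smul_def] at hs
    obtain ⟨c, hc⟩ : ∃ c, (decompose 𝒜 (s : R) c : R) ∉ m.toIdeal := by
      by_contra! hno
      exact s.2 (by rw [← sum_support_decompose 𝒜 (s : R)]; exact sum_mem fun c _ => hno c)
    have h1 : (decompose 𝒜 (s : R) c : R) • x = 0 := (annH_homogeneous 𝒜 H.gr hx) c hs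
    obtain ⟨w, hw⟩ := isUnit_of_notMem hm (decompose 𝒜 (s : R) c).2 hc
    rw [← hw] at h1
    simpa [smul_smul] using congrArg ((↑w⁻¹ : R) • ·) h1
  -- socle elements land in the residue field
  have hsocB : ∀ x : H.carrier, (∀ r ∈ m.toIdeal, r • x = 0) → L x ∈ LinearMap.range f₀ := by
    intro x hx
    by_cases h0 : L x = 0
    · rw [h0]; exact zero_mem _
    obtain ⟨b, z, hz, hb0⟩ := InjHullLib.exists_smul_mem_range hf₀.toIsEssentialInj h0
    have hbu : IsUnit b := by
      by_contra hb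
      refine hb0 ?_
      have hb' : b ∈ m.toIdeal.map (algebraMap R B) := hmap.ge ((IsLocalRing.mem_maximalIdeal b).2 hb)
      have : m.toIdeal.map (algebraMap R B) ≤ LinearMap.ker (LinearMap.toSpanSingleton B _ (L x)) :=
        Ideal.map_le_iff_le_comap.2 fun r hr => by
          show algebraMap R B r • L x = 0
          rw [algebraMap_smul, ← map_smul, hx r hr, map_zero]
      exact this hb'
    obtain ⟨w, rfl⟩ := hbu
    exact ⟨(↑w⁻¹ : B) • z, by rw [map_smul, hz, smul_smul, Units.inv_mul, one_smul]⟩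
  -- socle elements in submodules
  have hsocP : ∀ P : Submodule R H.carrier, P.IsHomogeneous H.gr → P ≠ ⊥ →
      ∃ d, ∃ y ∈ H.gr d, y ∈ P ∧ y ≠ 0 ∧ ∀ r ∈ m.toIdeal, r • y = 0 := by
    intro P hP hne
    obtain ⟨d, x, hx, hxP, hx0⟩ : ∃ d, ∃ x ∈ H.gr d, x ∈ P ∧ x ≠ 0 := by
      obtain ⟨x, hx, hx0⟩ := (Submodule.ne_bot_iff P).1 hne
      obtain ⟨d, hd⟩ := exists_proj_ne H.gr x hx0
      exact ⟨d, _, proj_mem H.gr d x, mem_homogeneous H.gr hP hx d, hd⟩
    let p : ℕ → Prop := fun k => ∀ r ∈ m.toIdeal ^ k, r • x = 0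
    have hex : ∃ k, p k := htor x
    have hk := Nat.find_spec hex
    obtain ⟨k', hk'⟩ : ∃ k', Nat.find hex = k' + 1 := Nat.exists_eq_add_of_le' (Nat.pos_of_ne_zero fun h0 => hx0 (by
      have := hk 1 (by rw [h0, pow_zero]; simp)
      rwa [one_smul] at this))
    obtain ⟨r, hr, hrx⟩ : ∃ r ∈ m.toIdeal ^ k', r • x ≠ 0 := by
      by_contra! h
      exact Nat.find_min hex (by omega) h
    obtain ⟨c, hc⟩ : ∃ c, (decompose 𝒜 r c : R) • x ≠ 0 := by
      by_contra! h
      refine hrx ?_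
      rw [← sum_support_decompose 𝒜 r, Finset.sum_smul]
      exact Finset.sum_eq_zero fun c _ => h c
    refine ⟨c + d, _, GrInjLib.smul_mem 𝒜 H.gr (decompose 𝒜 r c).2 hx, P.smul_mem _ hxP, hc, fun t ht => ?_⟩
    rw [smul_smul]
    refine hk _ ?_
    rw [hk', pow_succ']
    exact Ideal.mul_mem_mul ht ((pow_isHomogeneous m k') c hr)
  have hHne : (⊤ : Submodule R H.carrier) ≠ ⊥ := by
    intro h
    have hz : ∀ z : LocalizedModule S H.carrier, z = 0 := fun z => by
      induction z using LocalizedModule.induction_on with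
      | h b t =>
        rw [show b = 0 from (Submodule.eq_bot_iff _).1 h b Submodule.mem_top, LocalizedModule.zero_mk]
    exact one_ne_zero (α := IsLocalRing.ResidueField B) (hf₀.injective ((hz _).trans (hz _).symm))
  obtain ⟨g, x, hx, -, hx0, hxk⟩ := hsocP ⊤ (top_homogeneous H.gr) hHne
  obtain ⟨u, hu⟩ := hsocB x hxk
  have hLx : L x ≠ 0 := fun h => hx0 (hL hx h)
  -- homogeneous socle elements are multiples of `x`
  have hone : ∀ d, ∀ y ∈ H.gr d, (∀ r ∈ m.toIdeal, r • y = 0) → y ∈ R ∙ x := by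
    intro d y hy hyk
    obtain ⟨v, hv⟩ := hsocB y hyk
    obtain ⟨vb, rfl⟩ := Ideal.Quotient.mk_surjective v
    obtain ⟨ub, rfl⟩ := Ideal.Quotient.mk_surjective u
    have hub : IsUnit ub := by
      by_contra h
      refine hLx ?_
      rw [← hu, show Ideal.Quotient.mk (IsLocalRing.maximalIdeal B) ub = (0 : IsLocalRing.ResidueField B) from
        Ideal.Quotient.eq_zero_iff_mem.2 ((IsLocalRing.mem_maximalIdeal ub).2 h)]
      exact map_zero f₀
    obtain ⟨w, rfl⟩ := hub
    have hLy : L y = (vb * ↑w⁻¹ : B) • L x := by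
      rw [← hu, ← hv]
      exact (congrArg f₀ (congrArg (Submodule.Quotient.mk (p := IsLocalRing.maximalIdeal B))
        (show vb = (vb * ↑w⁻¹) • (w : B) by rw [smul_eq_mul, mul_assoc, Units.inv_mul, mul_one]))).trans
        (map_smul f₀ (vb * ↑w⁻¹) (Submodule.Quotient.mk (p := IsLocalRing.maximalIdeal B) (w : B)))
    obtain ⟨⟨r, s⟩, hrs⟩ := IsLocalization.surj S (vb * ↑w⁻¹ : B)
    have h2 : L ((s : R) • y) = L (r • x) := by
      rw [map_smul, map_smul, hLy, ← algebraMap_smul B r, ← hrs, ← algebraMap_smul B (s : R), smul_smul, mul_comm]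
    obtain ⟨t, ht⟩ := IsLocalizedModule.exists_of_eq (S := S) h2
    rw [Submonoid.smul_def, Submonoid.smul_def, smul_smul, smul_smul] at ht
    obtain ⟨c, hc⟩ : ∃ c, (decompose 𝒜 ((t : R) * (s : R)) c : R) ∉ m.toIdeal := by
      by_contra! hno
      exact S.mul_mem t.2 s.2 (by rw [← sum_support_decompose 𝒜 ((t : R) * (s : R))]; exact sum_mem fun c _ => hno c)
    obtain ⟨w', hw'⟩ := isUnit_of_notMem hm (decompose 𝒜 ((t : R) * (s : R)) c).2 hc
    have h3 : (decompose 𝒜 ((t : R) * (s : R)) c : R) • y ∈ R ∙ x := by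
      have := congrArg (proj H.gr (c + d)) ht
      rw [proj_smul_hom 𝒜 H.gr hy] at this
      rw [this]
      exact mem_homogeneous H.gr (span_singleton_homogeneous 𝒜 H.gr hx)
        (Submodule.smul_mem _ _ (Submodule.mem_span_singleton_self x)) _
    rw [← hw'] at h3
    have := Submodule.smul_mem (R ∙ x) (↑w'⁻¹ : R) h3
    rwa [smul_smul, Units.inv_mul, one_smul] at this
  -- the map
  have hsp : (R ∙ x).IsHomogeneous H.gr := span_singleton_homogeneous 𝒜 H.gr hx
  let A := subG 𝒜 H.gr hsp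
  let η : (R ⧸ m.toIdeal) →ₗ[R] A.carrier := Submodule.liftQ m.toIdeal
    (toSubG 𝒜 H.gr hsp (LinearMap.toSpanSingleton R H.carrier x) fun r => Submodule.mem_span_singleton.2 ⟨r, rfl⟩)
    fun r hr => subIncl_injective 𝒜 H.gr hsp (by
      rw [subIncl_toSubG, map_zero]; exact hxk r hr)
  have hη : ∀ r, subIncl 𝒜 H.gr hsp (η (Ideal.Quotient.mk m.toIdeal r)) = r • x := fun r => rfl
  have hηi : Function.Injective η := by
    refine (injective_iff_map_eq_zero η).2 fun z hz => ?_
    obtain ⟨r, rfl⟩ := Ideal.Quotient.mk_surjective z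
    refine Ideal.Quotient.eq_zero_iff_mem.2 ?_
    by_contra hr
    have h0 : r • x = 0 := by rw [← hη, hz, map_zero]
    obtain ⟨w, hw⟩ := IsLocalization.map_units B (⟨r, hr⟩ : S)
    refine hLx ?_
    have h1 : (w : B) • L x = 0 := by rw [hw, algebraMap_smul, ← map_smul, h0, map_zero]
    simpa [smul_smul] using congrArg ((↑w⁻¹ : B) • ·) h1
  have hηs : Function.Surjective η := fun a => by
    obtain ⟨r, hr⟩ := Submodule.mem_span_singleton.1 (subIncl_mem 𝒜 H.gr hsp a)
    exact ⟨Ideal.Quotient.mk _ r, subIncl_injective 𝒜 H.gr hsp ((hη r).trans hr)⟩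
  let ηe := LinearEquiv.ofBijective η ⟨hηi, hηs⟩
  let θ : A.carrier →ₗ[R] E' := e ∘ₗ ηe.symm.toLinearMap
  have hθ : GrLC.IsGrHomDeg A.gr 𝓔 θ (-g) := by
    intro d a ha
    obtain ⟨r, hr⟩ := Submodule.mem_span_singleton.1 (subIncl_mem 𝒜 H.gr hsp a)
    have hd : subIncl 𝒜 H.gr hsp a = (decompose 𝒜 r (d - g) : R) • x := by
      have := congrArg (proj H.gr ((d - g) + g)) hr
      rw [proj_smul_hom 𝒜 H.gr hx, sub_add_cancel,
        proj_of_mem H.gr (subIncl_grHom 𝒜 H.gr hsp d a ha)] at this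
      exact this.symm
    have : ηe.symm a = Ideal.Quotient.mk m.toIdeal (decompose 𝒜 r (d - g) : R) := by
      rw [LinearEquiv.symm_apply_eq]
      exact subIncl_injective 𝒜 H.gr hsp (hd.trans (hη _).symm)
    show e (ηe.symm a) ∈ 𝓔 (d + -g)
    rw [this, ← sub_eq_add_neg]
    exact he.grHom (d - g) _ ⟨_, (decompose 𝒜 r (d - g)).2, rfl⟩
  obtain ⟨ψ, hψ, hψθ⟩ := extend_deg 𝒜 A.gr H.gr he.starInj (subIncl_grHom 𝒜 H.gr hsp)
    (subIncl_injective 𝒜 H.gr hsp) hθ
  have hψi : Function.Injective ψ := by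
    rw [← LinearMap.ker_eq_bot]
    by_contra hne
    obtain ⟨d, y, hy, hyP, hy0, hyk⟩ := hsocP _ (ker_homogeneous H.gr 𝓔 hψ) hne
    have hys : y ∈ R ∙ x := hone d y hy hyk
    have h1 : θ (⟨y, hys⟩ : A.carrier) = 0 := by
      rw [← hψθ]; exact hyP
    have h2 : ηe.symm (⟨y, hys⟩ : A.carrier) = 0 := he.injective (h1.trans (map_zero e).symm)
    exact hy0 (congrArg Subtype.val (ηe.symm.map_eq_zero_iff.1 h2))
  obtain ⟨f, hf⟩ := exists_hull_localized hm he
  let NB := LocalizedModule S E'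
  let ψS : LocalizedModule S H.carrier →ₗ[B] NB := LocalizedModule.map S ψ
  have hψSi : Function.Injective ψS := LocalizedModule.map_injective S ψ hψi
  haveI : IsSimpleModule B (IsLocalRing.ResidueField B) :=
    isSimpleModule_iff_quot_maximal.mpr ⟨_, inferInstance, ⟨LinearEquiv.refl B _⟩⟩
  haveI : Module.Injective B (LocalizedModule S H.carrier) := hf₀.isInjective
  haveI : Module.Injective B (LinearMap.range ψS) :=
    InjHullLib.injective_of_retract (LinearEquiv.ofInjective ψS hψSi).symm.toLinearMap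
      (LinearEquiv.ofInjective ψS hψSi).toLinearMap (LinearMap.ext fun z => (LinearEquiv.ofInjective ψS hψSi).apply_symm_apply z)
  have hrange : LinearMap.range f ≤ LinearMap.range ψS := by
    obtain ⟨b, z, hz, hb0⟩ := InjHullLib.exists_smul_mem_range hf.toIsEssentialInj
      (x := ψS (L x)) fun h => hLx (hψSi (h.trans (map_zero ψS).symm))
    have hz0 : z ≠ 0 := fun h => hb0 (by rw [← hz, h, map_zero])
    rintro _ ⟨v, rfl⟩
    obtain ⟨c, rfl⟩ := Submodule.mem_span_singleton.1
      ((IsSimpleModule.span_singleton_eq_top B hz0).ge (Submodule.mem_top (x := v)))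
    exact ⟨c • b • L x, by rw [map_smul, map_smul, map_smul, hz]⟩
  have hψSs : LinearMap.range ψS = ⊤ := (InjHullLib.eq_of_essential_of_injective (LinearMap.range ψS) le_top
    fun N _ hN h => hf.essential N hN (le_bot_iff.1 (le_trans (inf_le_inf_left N hrange) h.le))).symm
  have hψs : Function.Surjective ψ := by
    have hr := range_homogeneous H.gr 𝓔 hψ
    haveI : Subsingleton (quotG 𝒜 𝓔 hr).carrier := subsingleton_of_localized hm (quotG 𝒜 𝓔 hr) <|
      LocalizedModule.subsingleton_iff.2 fun z => by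
        obtain ⟨y, rfl⟩ := quotMk_surjective 𝒜 𝓔 hr z
        obtain ⟨w, hw⟩ := hψSs.ge (Submodule.mem_top (x := LocalizedModule.mkLinearMap S E' y))
        obtain ⟨⟨h, t⟩, hh⟩ := IsLocalizedModule.surj S L w
        have h0 : LocalizedModule.mkLinearMap S E' ((t : R) • y) = LocalizedModule.mkLinearMap S E' (ψ h) := by
          rw [map_smul, ← hw, ← LinearMap.map_smul_of_tower, show (t : R) • w = L h from hh]
          exact IsLocalizedModule.map_apply _ _ _ _ _
        obtain ⟨t', ht'⟩ := IsLocalizedModule.exists_of_eq (S := S) h0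
        refine ⟨(t' : R) * (t : R), (t' * t).2, ?_⟩
        rw [← map_smul, mul_smul, ← LinearMap.mem_ker, ker_quotMk]
        rw [Submonoid.smul_def, Submonoid.smul_def] at ht'
        exact ⟨(t' : R) • h, by rw [map_smul]; exact ht'.symm⟩
    intro y
    have : quotMk 𝒜 𝓔 hr y = 0 := Subsingleton.elim _ _
    rw [← LinearMap.mem_ker, ker_quotMk] at this
    exact this
  exact ⟨-g, LinearEquiv.ofBijective ψ ⟨hψi, hψs⟩, hψ⟩

/-- The top graded local cohomology of a Gorenstein *local ring. -/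
theorem exists_hull_topH [LocCoh.IsGorensteinRing R] {m : HomogeneousIdeal 𝒜} [m.toIdeal.IsPrime] {n : ℕ}
    (hn : m.toIdeal.height = n) (I : GrLC.StarInjRes 𝒜 𝒜) :
    ∃ f : IsLocalRing.ResidueField (Localization.AtPrime m.toIdeal) →ₗ[Localization.AtPrime m.toIdeal]
      LocalizedModule m.toIdeal.primeCompl (HMod I m n).carrier, InjHull.IsInjectiveHull f := by
  let B := Localization.AtPrime m.toIdeal
  have hd : ringKrullDim B = n := by
    rw [IsLocalization.AtPrime.ringKrullDim_eq_height m.toIdeal B, hn]; rfl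
  obtain ⟨g, hg⟩ := GorLib.exists_hull_H
    ((inferInstance : LocCoh.IsGorensteinRing R).isGorensteinLocalRing_localization m.toIdeal) hd
  obtain ⟨eH⟩ := exists_topH_equiv (m := m) I n
  let f : IsLocalRing.ResidueField B →ₗ[B] LocalizedModule m.toIdeal.primeCompl (I.H m n) :=
    eH.symm.toLinearMap ∘ₗ g
  have hess : InjHull.IsEssentialInj f := by
    refine InjHullLib.isEssentialInj_of_forall (eH.symm.injective.comp hg.injective) fun z hz => ?_
    obtain ⟨b, w, hw, hb⟩ := InjHullLib.exists_smul_mem_range hg.toIsEssentialInj (x := eH z)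
      fun h => hz (eH.injective (h.trans (map_zero eH).symm))
    have hbz : b • z ≠ 0 := fun h => hb (by rw [← map_smul, h, map_zero])
    have hfw : f w = b • z := eH.injective (by
      rw [map_smul]
      show eH (eH.symm (g w)) = _
      rw [eH.apply_symm_apply, hw])
    exact ⟨b, ⟨w, hfw⟩, hbz⟩
  haveI := hg.isInjective
  have hinj : Module.Injective B (LocalizedModule m.toIdeal.primeCompl (I.H m n)) :=
    InjHullLib.injective_of_retract eH.toLinearMap eH.symm.toLinearMap (LinearMap.ext fun z => eH.symm_apply_apply z)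
  exact ⟨f, ⟨hess, hinj⟩⟩

end Groth.Agent.GrCoreLib
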