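import Mathlib
import Groth.Agent.GrCoreLib.TopH
import Groth.Agent.LocCohLib.MaxIdeal

/-! Graded local cohomology at the *maximal ideal is Artinian. -/

set_option autoImplicit false
set_option linter.style.haveILetI false
set_option linter.unusedSectionVars false
universe u

open DirectSum GrInjLib CategoryTheory TensorProduct

namespace Groth.Agent.GrCoreLib

variable {ι : Type} [AddCommGroup ι] [DecidableEq ι] [Module.Free ℤ ι] [Module.Finite ℤ ι]
  {R : Type u} [CommRing R] [IsNoetherianRing R] {𝒜 : ι → AddSubgroup R} [GradedRing 𝒜]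
  {m : HomogeneousIdeal 𝒜}

/-- Localised graded local cohomology at `m` is Artinian. -/
theorem isArtinian_localized [m.toIdeal.IsPrime] {M : Type u} [AddCommGroup M] [Module R M] [Module.Finite R M]
    {ℳ : ι → AddSubgroup M} [Decomposition ℳ] [SetLike.GradedSMul 𝒜 ℳ] (I : GrLC.StarInjRes 𝒜 ℳ) (i : ℕ) :
    IsArtinian (Localization.AtPrime m.toIdeal) (LocalizedModule m.toIdeal.primeCompl (I.H m i)) := by
  let B := Localization.AtPrime m.toIdeal
  haveI : Module.Flat R B := IsLocalization.flat B m.toIdeal.primeCompl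
  obtain ⟨e1⟩ := LocCohLib.exists_baseChange (B := B) m.toIdeal M i
  obtain ⟨e2⟩ := GrInjLib.exists_H_equiv_locCoh I m i
  rw [show m.toIdeal.map (algebraMap R B) = IsLocalRing.maximalIdeal B from Localization.AtPrime.map_eq_maximalIdeal] at e1
  let e := (LocalizedModule.equivTensorProduct m.toIdeal.primeCompl (I.H m i)).trans
    ((AlgebraTensorModule.congr (LinearEquiv.refl B B) e2).trans e1)
  haveI := LocCohLib.isArtinian_H (R := B) i (B ⊗[R] M)
  exact isArtinian_of_linearEquiv e.symm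

/-- Homogeneous submodules are seen in the localisation at `m`. -/
theorem le_of_localized_le (hm : GrLC.IsStarLocal 𝒜 m) [m.toIdeal.IsPrime] (H : GrLC.GMod.{u} 𝒜)
    {N N' : Submodule R H.carrier} (hN : N.IsHomogeneous H.gr) (hN' : N'.IsHomogeneous H.gr)
    (h : N.localized m.toIdeal.primeCompl ≤ N'.localized m.toIdeal.primeCompl) : N ≤ N' := by
  classical
  intro x hx
  refine mem_of_proj_mem H.gr fun g => ?_
  obtain ⟨m', hm', t, ht⟩ := h ⟨proj H.gr g x, mem_homogeneous H.gr hN hx g, 1, rfl⟩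
  rw [IsLocalizedModule.mk'_eq_mk'_iff] at ht
  obtain ⟨c, hc⟩ := ht
  have hmem : ((c : R) * (t : R)) • proj H.gr g x ∈ N' := by
    simp only [Submonoid.smul_def, Submonoid.coe_one, one_smul] at hc
    rw [mul_smul]
    first
      | (rw [hc]; exact N'.smul_mem _ hm')
      | (rw [← hc]; exact N'.smul_mem _ hm')
  obtain ⟨a, ha⟩ : ∃ a, (decompose 𝒜 ((c : R) * (t : R)) a : R) ∉ m.toIdeal := by
    by_contra! hno
    exact (c * t).2 (by
      rw [Submonoid.coe_mul, ← sum_support_decompose 𝒜 ((c : R) * (t : R))]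
      exact sum_mem fun a _ => hno a)
  obtain ⟨w, hw⟩ := isUnit_of_notMem hm (decompose 𝒜 ((c : R) * (t : R)) a).2 ha
  have h2 : (decompose 𝒜 ((c : R) * (t : R)) a : R) • proj H.gr g x ∈ N' := by
    rw [← proj_smul_hom 𝒜 H.gr (proj_mem H.gr g x)]
    exact mem_homogeneous H.gr hN' hmem _
  rw [← hw] at h2
  have := N'.smul_mem (↑w⁻¹ : R) h2
  rwa [smul_smul, Units.inv_mul, one_smul] at this

/-- Homogeneous submodules satisfy the descending chain condition. -/
theorem homogeneous_stabilizes (hm : GrLC.IsStarLocal 𝒜 m) [m.toIdeal.IsPrime] (H : GrLC.GMod.{u} 𝒜)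
    [IsArtinian (Localization.AtPrime m.toIdeal) (LocalizedModule m.toIdeal.primeCompl H.carrier)]
    (f : ℕ → Submodule R H.carrier) (hf : ∀ k, (f k).IsHomogeneous H.gr) (hmono : Antitone f) :
    ∃ n, ∀ k, n ≤ k → f n = f k := by
  obtain ⟨n, hn⟩ := IsArtinian.monotone_stabilizes (R := Localization.AtPrime m.toIdeal)
    (M := LocalizedModule m.toIdeal.primeCompl H.carrier)
    ⟨fun k => OrderDual.toDual ((f k).localized m.toIdeal.primeCompl), fun a b hab => by
      rintro z ⟨x, hx, s, rfl⟩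
      exact ⟨x, hmono hab hx, s, rfl⟩⟩
  exact ⟨n, fun k hk => le_antisymm (le_of_localized_le hm H (hf n) (hf k) (congrArg OrderDual.ofDual (hn k hk)).le)
    (le_of_localized_le hm H (hf k) (hf n) (congrArg OrderDual.ofDual (hn k hk)).ge)⟩

/-- The graded pieces are Artinian over the degree zero ring. -/
theorem isArtinian_piece (hm : GrLC.IsStarLocal 𝒜 m) [m.toIdeal.IsPrime] (H : GrLC.GMod.{u} 𝒜)
    [IsArtinian (Localization.AtPrime m.toIdeal) (LocalizedModule m.toIdeal.primeCompl H.carrier)] (g : ι) :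
    IsArtinian (GrLC.deg0 𝒜) (GrLC.comp 𝒜 H.gr g) := by
  refine monotone_stabilizes_iff_artinian.1 fun f => ?_
  let up : Submodule (GrLC.deg0 𝒜) (GrLC.comp 𝒜 H.gr g) → Submodule R H.carrier := fun W =>
    Submodule.span R ((fun w : GrLC.comp 𝒜 H.gr g => (w : H.carrier)) '' W)
  obtain ⟨n, hn⟩ := homogeneous_stabilizes hm H (fun k => up (OrderDual.ofDual (f k)))
    (fun k => span_homogeneous 𝒜 H.gr (by rintro _ ⟨w, -, rfl⟩; exact ⟨g, w.2⟩))
    (fun a b hab => Submodule.span_mono (Set.image_mono (f.mono hab : OrderDual.ofDual (f b) ≤ OrderDual.ofDual (f a))))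
  have hback : ∀ (W : Submodule (GrLC.deg0 𝒜) (GrLC.comp 𝒜 H.gr g)) (w : GrLC.comp 𝒜 H.gr g),
      (w : H.carrier) ∈ up W → w ∈ W := by
    intro W w hw
    suffices key : ∀ z ∈ up W, ∀ c : R, ∃ v ∈ W, proj H.gr g (c • z) = (v : H.carrier) by
      obtain ⟨v, hv, hv'⟩ := key _ hw 1
      rw [one_smul, proj_of_mem H.gr (show (w : H.carrier) ∈ H.gr g from w.2)] at hv'
      rwa [Subtype.ext hv']
    intro z hz
    induction hz using Submodule.span_induction with
    | mem y hy =>
      obtain ⟨v, hv, rfl⟩ := hy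
      intro c
      refine ⟨(⟨(decompose 𝒜 c 0 : R), (decompose 𝒜 c 0).2⟩ : GrLC.deg0 𝒜) • v, W.smul_mem _ hv, ?_⟩
      have := proj_smul_hom 𝒜 H.gr (show (v : H.carrier) ∈ H.gr g from v.2) c 0
      rw [zero_add] at this
      exact this
    | zero => intro c; exact ⟨0, W.zero_mem, by rw [smul_zero, map_zero]; rfl⟩
    | add u v _ _ hu hv =>
      intro c
      obtain ⟨a, ha, ha'⟩ := hu c
      obtain ⟨b, hb, hb'⟩ := hv c
      exact ⟨a + b, W.add_mem ha hb, by rw [smul_add, map_add, ha', hb']; rfl⟩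
    | smul r u _ hu => intro c; rw [← mul_smul]; exact hu _
  refine ⟨n, fun k hk => le_antisymm (f.mono hk) ?_⟩
  show OrderDual.ofDual (f n) ≤ OrderDual.ofDual (f k)
  intro w hw
  exact hback _ w ((hn k hk).le (Submodule.subset_span ⟨w, hw, rfl⟩))

/-- For a positively graded ring the pieces vanish in large degrees. -/
theorem pieces_eventually_zero {𝒜 : ℤ → AddSubgroup R} [GradedRing 𝒜] (hpos : ∀ n : ℤ, n < 0 → 𝒜 n = ⊥)
    {m : HomogeneousIdeal 𝒜} (hm : GrLC.IsStarLocal 𝒜 m) [m.toIdeal.IsPrime] (H : GrLC.GMod.{u} 𝒜)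
    [IsArtinian (Localization.AtPrime m.toIdeal) (LocalizedModule m.toIdeal.primeCompl H.carrier)] :
    ∃ N : ℤ, ∀ n, N ≤ n → ∀ x ∈ H.gr n, x = 0 := by
  classical
  let T : ℤ → Submodule R H.carrier := fun k =>
    { carrier := {x | ∀ g, g < k → proj H.gr g x = 0}
      zero_mem' := fun g _ => map_zero _
      add_mem' := fun {x y} hx hy g hg => by rw [map_add, hx g hg, hy g hg, add_zero]
      smul_mem' := fun r x hx g hg => by
        rw [← sum_support_decompose 𝒜 r, Finset.sum_smul, map_sum]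
        refine Finset.sum_eq_zero fun a _ => ?_
        by_cases ha : a < 0
        · rw [show (decompose 𝒜 r a : R) = 0 from (AddSubgroup.mem_bot).1 ((hpos a ha).le (decompose 𝒜 r a).2),
            zero_smul, map_zero]
        · have := proj_smul 𝒜 H.gr (decompose 𝒜 r a).2 x (g - a)
          rw [add_sub_cancel] at this
          rw [this, hx (g - a) (by omega), smul_zero] }
  have hTh : ∀ k, (T k).IsHomogeneous H.gr := fun k g x hx a ha => by
    show proj H.gr a (proj H.gr g x) = 0
    by_cases e : g = a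
    · subst e; rw [proj_of_mem H.gr (proj_mem H.gr g x)]; exact hx g ha
    · exact proj_of_mem_ne H.gr (proj_mem H.gr g x) e
  obtain ⟨n, hn⟩ := homogeneous_stabilizes hm H (fun k : ℕ => T k) (fun k => hTh k)
    (fun a b hab x hx g hg => hx g (lt_of_lt_of_le hg (by exact_mod_cast hab)))
  refine ⟨n, fun g hg x hx => ?_⟩
  obtain ⟨k, rfl⟩ : ∃ k : ℕ, g = k := ⟨g.toNat, (Int.toNat_of_nonneg (le_trans (Int.natCast_nonneg n) hg)).symm⟩
  have h1 : x ∈ T (n : ℕ) := fun a ha => proj_of_mem_ne H.gr hx (fun e => by omega)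
  have h2 := (hn (k + 1) (by omega)).le h1
  have h3 := h2 k (by omega)
  rwa [proj_of_mem H.gr hx] at h3

end Groth.Agent.GrCoreLib
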