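import Mathlib
import Groth.Agent.GrCoreLib.Artinian
import Groth.Agent.GrCoreLib.Height
import Groth.Agent.GrInjLib.Reg
import Groth.Agent.GrInjLib.Mumford
import Groth.Agent.GrFieldLib.StarLocal
import Groth.Agent.GrFieldLib.CM
import Groth.Agent.GrRegLib.Free

/-! The a-invariant of a standard graded Cohen–Macaulay ring over an Artinian base. -/

set_option autoImplicit false
set_option linter.style.haveILetI false
set_option linter.unusedSectionVars false
universe u

open DirectSum GrInjLib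

namespace Groth.Agent.GrCoreLib

variable {R : Type u} [CommRing R] [IsNoetherianRing R] {𝒜 : ℤ → AddSubgroup R} [GradedRing 𝒜]
  {m : HomogeneousIdeal 𝒜}

/-- Pieces of graded local cohomology only see the torsion functor. -/
theorem hcomp_bot_congr {M : Type u} [AddCommGroup M] [Module R M] {ℳ : ℤ → AddSubgroup M} [Decomposition ℳ]
    [SetLike.GradedSMul 𝒜 ℳ] (E : GrLC.StarInjRes 𝒜 ℳ) {a b : HomogeneousIdeal 𝒜}
    (h : ∀ n, GrLC.gam a.toIdeal (E.X n).carrier = GrLC.gam b.toIdeal (E.X n).carrier) (i : ℕ) (g : ℤ)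
    (hb : E.Hcomp b i g = ⊥) : E.Hcomp a i g = ⊥ := by
  refine (Submodule.eq_bot_iff _).2 ?_
  rintro _ ⟨z, hz, rfl⟩
  have hzb : (z : (E.X i).carrier) ∈ E.cocyc b i := ⟨(h i).le z.2.1, z.2.2⟩
  have h0 : E.toH b i ⟨z, hzb⟩ = 0 := (Submodule.eq_bot_iff _).1 hb _ ⟨⟨z, hzb⟩, hz, rfl⟩
  have h1 : (z : (E.X i).carrier) ∈ E.cobdy b i :=
    (Submodule.Quotient.mk_eq_zero ((E.cobdy b i).comap (E.cocyc b i).subtype)).1 h0
  refine (Submodule.Quotient.mk_eq_zero ((E.cobdy a i).comap (E.cocyc a i).subtype)).2 ?_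
  show (z : (E.X i).carrier) ∈ E.cobdy a i
  cases i with
  | zero => exact h1
  | succ k =>
    obtain ⟨w, hw, hwz⟩ := h1
    exact ⟨w, (h k).ge hw, hwz⟩

variable (hpos : ∀ n : ℤ, n < 0 → 𝒜 n = ⊥) (hm : GrLC.IsStarLocal 𝒜 m)

include hm in
/-- Proper homogeneous ideals lie in `m`. -/
theorem le_of_homogeneous {J : Ideal R} (hJ : J.IsHomogeneous 𝒜) (hne : J ≠ ⊤) : J ≤ m.toIdeal := by
  classical
  intro x hx
  rw [← sum_support_decompose 𝒜 x]
  refine sum_mem fun g _ => ?_
  by_contra hg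
  exact hne (Ideal.eq_top_of_isUnit_mem J (hJ g hx) (isUnit_of_notMem hm (decompose 𝒜 x g).2 hg))

include hpos hm in
/-- The dimension is the height of `m`. -/
theorem height_starMax : (m.toIdeal.height : WithBot ℕ∞) = ringKrullDim R := by
  haveI := GrFieldLib.StarLocal.isMaximal hpos hm
  refine le_antisymm (Ideal.height_le_ringKrullDim_of_ne_top (Ideal.IsPrime.ne_top inferInstance))
    ((ringKrullDim_le_iff_isMaximal_height_le _).2 fun P hP => WithBot.coe_le_coe.2 ?_)
  by_cases hPm : P = m.toIdeal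
  · rw [hPm]
  let PP : PrimeSpectrum R := ⟨P, hP.isPrime⟩
  let q : PrimeSpectrum R := corePt 𝒜 PP
  let mm : PrimeSpectrum R := ⟨m.toIdeal, inferInstance⟩
  have hqm : q ≤ mm := le_of_homogeneous hm (core_homogeneous 𝒜 P) q.isPrime.ne_top
  have hne : q ≠ mm := fun e => hPm (Ideal.IsMaximal.eq_of_le inferInstance hP.ne_top
    (show m.toIdeal ≤ P from ((congrArg PrimeSpectrum.asIdeal e).ge).trans (core_le 𝒜 P))).symm
  have h1 := relHeight_le_core_add_one 𝒜 ⊥ (Ideal.IsHomogeneous.bot 𝒜) PP bot_le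
  have h2 := relHeight_add_one_le (⊥ : Ideal R) (P := q) (Q := mm) bot_le (lt_of_le_of_ne hqm hne)
  have h3 := h1.trans h2
  rwa [relHeight_bot, relHeight_bot] at h3

include hpos hm in
/-- Over an Artinian base the irrelevant ideal has the same torsion functor as `m`. -/
theorem exists_pow_le_irr [IsArtinianRing (GrLC.deg0 𝒜)] : ∃ N : ℕ, m.toIdeal ^ N ≤ GrFieldLib.irr 𝒜 := by
  classical
  refine Ideal.exists_pow_le_of_le_radical_of_fg (fun x hx => ?_) (IsNoetherian.noetherian _)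
  let x0 : GrLC.deg0 𝒜 := ⟨(decompose 𝒜 x 0 : R), (decompose 𝒜 x 0).2⟩
  have hx0 : (x0 : R) ∈ m.toIdeal := m.isHomogeneous 0 hx
  obtain ⟨N, hN⟩ : IsNilpotent x0 := by
    · rw [← mem_nilradical, nilradical_eq_sInf]
      refine Submodule.mem_sInf.2 fun (p : Ideal (GrLC.deg0 𝒜)) hp => ?_
      haveI : (p : Ideal (GrLC.deg0 𝒜)).IsPrime := hp
      haveI := IsArtinianRing.isMaximal_of_isPrime p
      by_contra hx0p
      obtain ⟨a, ha⟩ : ∃ a : GrLC.deg0 𝒜, a * x0 - 1 ∈ p := by
        obtain ⟨a, i, hi, hai⟩ := (Ideal.IsMaximal.exists_inv (inferInstance : p.IsMaximal) hx0p)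
        exact ⟨a, by rw [show a * x0 - 1 = -i from by linear_combination hai]; exact p.neg_mem hi⟩
      let c : HomogeneousIdeal 𝒜 := ⟨Ideal.map (GrLC.deg0 𝒜).subtype p, Ideal.homogeneous_span 𝒜 _
        fun y hy => by obtain ⟨z, -, rfl⟩ := hy; exact ⟨0, z.2⟩⟩
      have hc : c.toIdeal ≠ ⊤ := fun e => by
        have h1 : (1 : R) ∈ Ideal.map (GrLC.deg0 𝒜).subtype p := e.ge Submodule.mem_top
        have key : ∀ y ∈ Ideal.map (GrLC.deg0 𝒜).subtype p, ∀ r : R,
            ∃ z ∈ p, (decompose 𝒜 (r * y) 0 : R) = (z : R) := by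
          intro y hy
          induction hy using Submodule.span_induction with
          | mem w hw =>
            obtain ⟨z, hz, rfl⟩ := hw
            intro r
            refine ⟨⟨(decompose 𝒜 r 0 : R), (decompose 𝒜 r 0).2⟩ * z, p.mul_mem_left _ hz, ?_⟩
            have := coe_decompose_mul_add_of_right_mem 𝒜 (a := r) (i := 0) z.2
            rw [zero_add] at this
            exact this
          | zero => intro r; exact ⟨0, p.zero_mem, by simp⟩
          | add u v _ _ hu hv =>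
            intro r
            obtain ⟨a, ha, ha'⟩ := hu r
            obtain ⟨b, hb, hb'⟩ := hv r
            exact ⟨a + b, p.add_mem ha hb, by rw [mul_add, decompose_add, DirectSum.add_apply, AddSubgroup.coe_add, ha', hb']; rfl⟩
          | smul c u _ hu => intro r; rw [smul_eq_mul, ← mul_assoc]; exact hu _
        obtain ⟨z, hz, hz'⟩ := key 1 h1 1
        rw [one_mul, decompose_of_mem_same 𝒜 (SetLike.one_mem_graded 𝒜)] at hz'
        exact (Ideal.IsPrime.ne_top inferInstance) ((Ideal.eq_top_iff_one p).2 (by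
          rwa [show (1 : GrLC.deg0 𝒜) = z from Subtype.ext hz']))
      have h4 : ((a * x0 - 1 : GrLC.deg0 𝒜) : R) ∈ m.toIdeal :=
        le_of_homogeneous hm c.isHomogeneous hc (Ideal.mem_map_of_mem (GrLC.deg0 𝒜).subtype ha)
      have h5 := m.toIdeal.sub_mem (m.toIdeal.mul_mem_left (a : R) hx0) h4
      exact (fun e => hm.1.1 (HomogeneousIdeal.toIdeal_injective (by simpa using e)))
        ((Ideal.eq_top_iff_one m.toIdeal).2 (by simpa using h5))
  refine ⟨N, ?_⟩
  have hsub : x - (x0 : R) ∈ GrFieldLib.irr 𝒜 := by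
    rw [← sum_support_decompose 𝒜 x]
    by_cases h0 : (0 : ℤ) ∈ (decompose 𝒜 x).support
    · rw [← Finset.add_sum_erase _ _ h0]
      show (x0 : R) + _ - (x0 : R) ∈ _
      rw [add_sub_cancel_left]
      refine sum_mem fun g hg => ?_
      obtain ⟨hg0, hgs⟩ := Finset.mem_erase.1 hg
      rcases lt_or_gt_of_ne hg0 with hlt | hgt
      · rw [GrFieldLib.eq_zero_of_neg hpos g hlt _ (decompose 𝒜 x g).2]; exact zero_mem _
      · exact Ideal.subset_span (Set.mem_biUnion (x := g) hgt (decompose 𝒜 x g).2)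
    · rw [show (x0 : R) = 0 from congrArg Subtype.val (DFinsupp.notMem_support_iff.1 h0 : decompose 𝒜 x 0 = 0), sub_zero]
      refine sum_mem fun g hg => ?_
      rcases lt_or_gt_of_ne (show g ≠ 0 from fun e => h0 (e ▸ hg)) with hlt | hgt
      · rw [GrFieldLib.eq_zero_of_neg hpos g hlt _ (decompose 𝒜 x g).2]; exact zero_mem _
      · exact Ideal.subset_span (Set.mem_biUnion (x := g) hgt (decompose 𝒜 x g).2)
  have h2 : (x0 : R) ^ N = 0 := by
    rw [← SubmonoidClass.coe_pow, hN]; rfl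
  obtain ⟨t, ht⟩ := (Commute.all x (x0 : R)).sub_dvd_pow_sub_pow N
  rw [h2, sub_zero] at ht
  rw [ht]
  exact Ideal.mul_mem_right t _ hsub

include hpos hm in
/-- `a(R) ≥ -dim R`. -/
theorem neg_dim_le_end [LocCoh.IsCohenMacaulayRing R] [IsArtinianRing (GrLC.deg0 𝒜)]
    (hstd : Ideal.span (⋃ n ∈ Set.Ioi (0 : ℤ), (𝒜 n : Set R)) = Ideal.span ((𝒜 1 : AddSubgroup R) : Set R))
    {d : ℕ} (hd : ringKrullDim R = d) (I : GrLC.StarInjRes 𝒜 𝒜) :
    ∃ g, -(d : ℤ) ≤ g ∧ I.Hcomp m d g ≠ ⊥ := by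
  haveI := GrFieldLib.StarLocal.isMaximal hpos hm
  by_contra! hno
  let a : HomogeneousIdeal 𝒜 := ⟨GrFieldLib.irr 𝒜, Ideal.homogeneous_span 𝒜 _ fun y hy => by
    obtain ⟨n, -, hn⟩ := Set.mem_iUnion₂.1 hy
    exact ⟨n, hn⟩⟩
  obtain ⟨N, hN⟩ := exists_pow_le_irr hpos hm
  have hgam : ∀ (X : Type u) [AddCommGroup X] [Module R X], GrLC.gam a.toIdeal X = GrLC.gam m.toIdeal X := by
    intro X _ _
    refine le_antisymm ?_ ?_
    · rintro x ⟨k, hk⟩
      refine ⟨N * k, fun r hr => hk r ?_⟩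
      rw [pow_mul] at hr
      exact Ideal.pow_right_mono hN k hr
    · rintro x ⟨k, hk⟩
      exact ⟨k, fun r hr => hk r (Ideal.pow_right_mono (GrFieldLib.StarLocal.irr_le hpos hm) k hr)⟩
  haveI := LocCoh.IsCohenMacaulayRing.isCohenMacaulayLocalRing_localization (R := R) m.toIdeal
  have hh : m.toIdeal.height = d := by
    have := (height_starMax hpos hm).trans hd
    exact_mod_cast this
  let M : GrLC.GMod.{u} 𝒜 := GrLC.GMod.of 𝒜 R 𝒜
  haveI : Module.Finite R M.carrier := Module.Finite.self R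
  have hvan : ∀ (i : ℕ) (g : ℤ), (i ≠ d ∨ -(d : ℤ) ≤ g) → Van a M i g := by
    intro i g hig
    obtain ⟨E⟩ := exists_starInjRes 𝒜 M.gr
    refine Van.of_res E (hcomp_bot_congr E (fun n => hgam _) i g ?_)
    by_cases hi : i = d
    · subst hi
      obtain ⟨e, he, -⟩ := exists_H_equiv E m (I : GrLC.StarInjRes 𝒜 M.gr) i
      refine (Submodule.eq_bot_iff _).2 fun y hy => e.injective ?_
      rw [map_zero]
      exact (Submodule.eq_bot_iff _).1 (hno g (hig.resolve_left (fun h => h rfl))) _ (he g y hy)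
    · obtain ⟨e⟩ := exists_H_equiv_locCoh E m i
      haveI : Subsingleton ((localCohomology m.toIdeal i).obj (ModuleCat.of R M.carrier) : Type u) := by
        rcases Nat.lt_or_ge i d with h | h
        · exact GrFieldLib.subsingleton_H_of_lt_height m.toIdeal hh i h
        · exact GrFieldLib.StarLocal.subsingleton_H_of_height_lt m.toIdeal hh.le R i (by omega)
      haveI : Subsingleton (E.H m i) := e.toEquiv.subsingleton
      exact (Submodule.eq_bot_iff _).2 fun y _ => Subsingleton.elim y 0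
  have htop : (⊥ : Submodule R M.carrier) = ⊤ :=
    mem_of_generated (a := a) (GrFieldLib.eq_zero_of_neg hpos) hstd M ⊥ fun n => by
      rcases lt_or_ge n 0 with hn | hn
      · exact Or.inl fun v hv => (Submodule.mem_bot R).2 (GrFieldLib.eq_zero_of_neg hpos n hn v hv)
      · refine Or.inr ⟨hvan 0 n (Or.inr (by omega)), fun j => hvan (1 + j) _ ?_⟩
        by_cases h : 1 + j = d
        · exact Or.inr (by omega)
        · exact Or.inl h
  exact hm.1.1 (HomogeneousIdeal.toIdeal_injective ((Ideal.eq_top_iff_one _).2 (by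
    have : (1 : R) = 0 := (Submodule.mem_bot R).1 (htop.ge (Submodule.mem_top (x := (1 : R))))
    rw [this]
    exact zero_mem _)))

end Groth.Agent.GrCoreLib
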