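import Mathlib
import Groth.Agent.GrInjLib.Resolution
import Groth.Agent.GrInjLib.Primes
import Groth.Agent.LocCohLib.Flasque

/-! *Injective modules are flasque for homogeneous elements. -/

set_option autoImplicit false
set_option linter.style.haveILetI false
set_option linter.unusedSectionVars false
universe u

open DirectSum GrInjLib CategoryTheory Groth.Agent.LocCohLib

namespace Groth.Agent.GrCoreLib

variable {R : Type u} [CommRing R]

/-- The divisibility property for torsion along ideals generated by elements of `S`. -/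
def SetFlasque (S : Set R) (E : Type u) [AddCommGroup E] [Module R E] : Prop :=
  ∀ s : Finset R, (s : Set R) ⊆ S → ∀ a ∈ S,
    DivProp a (DRing.torsionSub (Ideal.span (s : Set R)) E)

theorem subsingleton_of_setFlasque [IsNoetherianRing R] {S : Set R} (E : ModuleCat.{u} R)
    (hE : SetFlasque S (E : Type u)) (s : Finset R) (hs : (s : Set R) ⊆ S) (i : ℕ) :
    Subsingleton ((localCohomology (Ideal.span (s : Set R)) (i + 1)).obj E : Type u) := by
  classical
  let K := injectiveResolution E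
  have hKd : ∀ (J : Ideal R) (a : R) (i : ℕ), DivProp a (DRing.torsionSub J (K.cocomplex.X i)) := by
    intro J a i
    haveI : Injective (ModuleCat.of R (K.cocomplex.X i)) := K.injective i
    haveI := Module.injective_module_of_injective_object R (K.cocomplex.X i)
    exact flasque_of_injective (R := R) (K.cocomplex.X i : Type u) J a
  have h : ∀ t : Finset R, (t : Set R) ⊆ S → ExactAbove (Ideal.span (t : Set R)) K.cocomplex 0 := by
    intro t
    induction t using Finset.induction_on with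
    | empty => intro _; simpa using exactAbove_bot K
    | insert a t ha ih =>
      intro hat
      rw [Finset.coe_insert, Set.insert_subset_iff] at hat
      rw [Finset.coe_insert, Ideal.span_insert, sup_comm]
      exact exactAbove_sup_span_zero a K (hE t hat.2 a hat.1) (ih hat.2) (fun i => hKd _ a i)
  exact subsingleton_of_exactAbove K (h s hs) (i + 1) (Nat.succ_pos i)

theorem SetFlasque.mono {S T : Set R} {E : Type u} [AddCommGroup E] [Module R E]
    (h : SetFlasque S E) (hT : T ⊆ S) : SetFlasque T E :=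
  fun s hs a ha => h s (hs.trans hT) a (hT ha)

theorem SetFlasque.prod {S : Set R} {E E' : Type u} [AddCommGroup E] [Module R E] [AddCommGroup E']
    [Module R E'] (h : SetFlasque S E) (h' : SetFlasque S E') : SetFlasque S (E × E') := by
  intro s hs a ha k
  obtain ⟨l, hl⟩ := h s hs a ha k
  obtain ⟨l', hl'⟩ := h' s hs a ha k
  refine ⟨l + l', fun z => ?_⟩
  obtain ⟨w, hw⟩ := hl ⟨z.1.1, DRing.map_mem_torsionSub _ (LinearMap.fst R E E') z.2⟩
  obtain ⟨w', hw'⟩ := hl' ⟨z.1.2, DRing.map_mem_torsionSub _ (LinearMap.snd R E E') z.2⟩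
  refine ⟨⟨(w.1, w'.1), ?_⟩, Subtype.ext (Prod.ext ?_ ?_)⟩
  · have e : (w.1, w'.1) = LinearMap.inl R E E' w.1 + LinearMap.inr R E E' w'.1 := by simp
    rw [e]
    exact add_mem (DRing.map_mem_torsionSub _ _ w.2) (DRing.map_mem_torsionSub _ _ w'.2)
  · have := congrArg Subtype.val hw
    show a ^ (l + l') • (a ^ k • w.1 - z.1.1) = 0
    rw [add_comm, pow_add, mul_smul, show a ^ l • (a ^ k • w.1 - z.1.1) = 0 from this, smul_zero]
  · have := congrArg Subtype.val hw'
    show a ^ (l + l') • (a ^ k • w'.1 - z.1.2) = 0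
    rw [pow_add, mul_smul, show a ^ l' • (a ^ k • w'.1 - z.1.2) = 0 from this, smul_zero]

variable {ι : Type} [AddCommGroup ι] [DecidableEq ι] {σ : Type u} [SetLike σ R]
  [AddSubgroupClass σ R] (𝒜 : ι → σ) [GradedRing 𝒜]

/-- Homogeneous division inside the torsion part of a *injective module. -/
theorem exists_div_piece [IsNoetherianRing R] (X : GrLC.GMod.{u} 𝒜) (hX : GrLC.IsStarInj 𝒜 X.gr)
    (J : HomogeneousIdeal 𝒜) {e : ι} {a : R} (ha : a ∈ 𝒜 e) (k : ℕ) :
    ∃ l : ℕ, ∀ g, ∀ z ∈ X.gr g, z ∈ GrLC.gam J.toIdeal X.carrier →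
      ∃ w ∈ X.gr (g - k • e), w ∈ GrLC.gam J.toIdeal X.carrier ∧
        a ^ l • (a ^ k • w - z) = 0 := by
  let c : ℕ →o Submodule R R :=
    ⟨fun n => LinearMap.ker (LinearMap.mulLeft R (a ^ n)), fun m n h x hx => by
      rw [LinearMap.mem_ker, LinearMap.mulLeft_apply] at hx ⊢
      obtain ⟨d, rfl⟩ := Nat.exists_eq_add_of_le h
      rw [pow_add, mul_right_comm, hx, zero_mul]⟩
  obtain ⟨l, hl⟩ := monotone_stabilizes_iff_noetherian.mpr inferInstance c
  have hstab : ∀ r : R, a ^ (l + k) * r = 0 → a ^ l * r = 0 := fun r hr =>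
    (hl (l + k) (Nat.le_add_right l k)).ge hr
  refine ⟨l, fun g z hz hzt => ?_⟩
  obtain ⟨n, hn⟩ := hzt
  set A := a ^ (l + k) with hA
  obtain ⟨C, hC⟩ := Ideal.exists_pow_inf_eq_pow_smul J.toIdeal (N := Submodule.span R {A})
  have hAR : ∀ r, A * r ∈ J.toIdeal ^ (n + C) → ∃ j ∈ J.toIdeal ^ n, A * r = A * j := by
    intro r hr
    have hx : A * r ∈ (J.toIdeal ^ (n + C) • ⊤ : Submodule R R) ⊓ Submodule.span R {A} :=
      ⟨by rw [smul_eq_mul, Ideal.mul_top]; exact hr,
        Submodule.mem_span_singleton.2 ⟨r, by rw [smul_eq_mul, mul_comm]⟩⟩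
    rw [hC (n + C) (by omega), Nat.add_sub_cancel] at hx
    have h2 := Submodule.smul_mono (le_refl (J.toIdeal ^ n)) inf_le_right hx
    obtain ⟨j, hj, hje⟩ := Ideal.mem_mul_span_singleton.1
      (by rwa [smul_eq_mul] at h2 : A * r ∈ J.toIdeal ^ n * Ideal.span {A})
    exact ⟨j, hj, by rw [mul_comm A j, hje]⟩
  have hP := ideal_homogeneous 𝒜 (pow_isHomogeneous J (n + C))
  set D : ι := (l + k) • e
  have hAmem : A ∈ 𝒜 D := SetLike.pow_mem_graded _ ha
  letI := (shift_isInternal (ringPieces 𝒜) (-D)).chooseDecomposition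
  let Q := quotG 𝒜 (ringPieces 𝒜) hP
  let f : R →ₗ[R] Q.carrier := quotMk 𝒜 (ringPieces 𝒜) hP ∘ₗ LinearMap.mulLeft R A
  have hf : GrLC.IsGrHom (shiftPieces (ringPieces 𝒜) (-D)) Q.gr f := fun j r hr => by
    refine quotMk_grHom 𝒜 (ringPieces 𝒜) hP j _ ?_
    show A * r ∈ 𝒜 j
    have := SetLike.GradedMul.mul_mem (A := 𝒜) hAmem (hr : r ∈ 𝒜 (j + -D))
    rwa [show D + (j + -D) = j by abel] at this
  let v := a ^ l • z
  have hgm : GrLC.IsGrHomDeg (shiftPieces (ringPieces 𝒜) (-D)) X.gr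
      (LinearMap.toSpanSingleton R X.carrier v) (g - k • e) := fun j r hr => by
    rw [LinearMap.toSpanSingleton_apply]
    have := smul_mem 𝒜 X.gr (hr : r ∈ 𝒜 (j + -D))
      (smul_mem 𝒜 X.gr (SetLike.pow_mem_graded l ha) hz)
    rwa [show j + -D + (l • e + g) = j + (g - k • e) by simp only [D, add_smul]; abel] at this
  obtain ⟨h, hh, hhf⟩ := factor_deg 𝒜 (shiftPieces (ringPieces 𝒜) (-D)) Q.gr hX hf hgm (fun r hr => by
    have hr' : A * r ∈ J.toIdeal ^ (n + C) :=
      (SetLike.ext_iff.1 (ker_quotMk 𝒜 (ringPieces 𝒜) hP) _).1 hr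
    obtain ⟨j, hj, hje⟩ := hAR r hr'
    have h0 : a ^ l * (r - j) = 0 := hstab _ (by rw [mul_sub, hje, sub_self])
    rw [LinearMap.toSpanSingleton_apply, smul_smul, show r * a ^ l = a ^ l * j by
      rw [mul_comm, ← sub_eq_zero, ← mul_sub, h0], mul_smul, hn j hj, smul_zero])
  refine ⟨h (quotMk 𝒜 (ringPieces 𝒜) hP 1), ?_, ⟨n + C, fun r hr => ?_⟩, ?_⟩
  · have := hh 0 _ (quotMk_grHom 𝒜 (ringPieces 𝒜) hP 0 1 (SetLike.GradedOne.one_mem (A := 𝒜)))
    rwa [zero_add] at this
  · rw [← map_smul, ← map_smul, smul_eq_mul, mul_one, LinearMap.mem_ker.1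
      ((SetLike.ext_iff.1 (ker_quotMk 𝒜 (ringPieces 𝒜) hP) r).2 hr), map_zero]
  · have h1 : h (f 1) = v := by
      have := LinearMap.congr_fun hhf 1
      rwa [LinearMap.comp_apply, LinearMap.toSpanSingleton_apply, one_smul] at this
    have h2 : A • h (quotMk 𝒜 (ringPieces 𝒜) hP 1) = v := by
      rw [← map_smul, ← map_smul, smul_eq_mul, mul_one]
      simpa [f] using h1
    rw [smul_sub, smul_smul, ← pow_add, ← hA, h2, sub_self]

/-- *Injective modules are flasque for homogeneous elements. -/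
theorem setFlasque_starInj [IsNoetherianRing R] (X : GrLC.GMod.{u} 𝒜) (hX : GrLC.IsStarInj 𝒜 X.gr) :
    SetFlasque {x : R | SetLike.IsHomogeneousElem 𝒜 x} X.carrier := by
  intro s hs a ha k
  obtain ⟨e, he⟩ := ha
  let J : HomogeneousIdeal 𝒜 :=
    ⟨Ideal.span (s : Set R), Ideal.homogeneous_span 𝒜 _ hs⟩
  obtain ⟨l, hl⟩ := exists_div_piece 𝒜 X hX J he k
  refine ⟨l, fun z => ?_⟩
  have hzg : ∀ g, proj X.gr g z.1 ∈ GrLC.gam J.toIdeal X.carrier :=
    fun g => mem_homogeneous X.gr (gam_homogeneous X.gr J) z.2 g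
  choose w hw1 hw2 hw3 using fun g => hl g _ (proj_mem X.gr g z.1) (hzg g)
  classical
  let T := DFinsupp.support (decompose X.gr z.1)
  refine ⟨⟨∑ g ∈ T, w g, Submodule.sum_mem _ fun g _ => hw2 g⟩, Subtype.ext ?_⟩
  show a ^ l • (a ^ k • (∑ g ∈ T, w g) - z.1) = 0
  conv_lhs => arg 2; arg 2; rw [← DirectSum.sum_support_decompose X.gr z.1]
  rw [Finset.smul_sum, ← Finset.sum_sub_distrib, Finset.smul_sum]
  exact Finset.sum_eq_zero fun g _ => hw3 g

end Groth.Agent.GrCoreLib
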