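import Mathlib
import Groth.Agent.GrFieldLib.Basic
import Groth.Agent.GrCoreLib.InjDim
import Groth.Agent.CanonLib.CMEnd
import Groth.Agent.CanonLib.CMDuality

/-! The canonical module of a positively graded ring over a field, at the irrelevant ideal. -/

set_option autoImplicit false
set_option linter.style.haveILetI false
set_option linter.unusedSectionVars false
universe u

open DirectSum GrInjLib CategoryTheory

namespace Groth.Agent.GrCoreLib

variable {R : Type u} [CommRing R] [LocCoh.IsCohenMacaulayRing R] {𝒜 : ℤ → AddSubgroup R} [GradedRing 𝒜]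
  {m : HomogeneousIdeal 𝒜}

/-- The local data: dimension, a hull and the duality. -/
theorem exists_local_data (hpos : ∀ n : ℤ, n < 0 → 𝒜 n = ⊥) (h0 : IsField (GrLC.deg0 𝒜))
    (hm : GrLC.IsStarLocal 𝒜 m) (hmsp : m.toIdeal = Ideal.span (⋃ n ∈ Set.Ioi (0 : ℤ), (𝒜 n : Set R)))
    [m.toIdeal.IsPrime] {n : ℕ} (hn : ringKrullDim R = n)
    {I : GrLC.StarInjRes 𝒜 𝒜} {E' : Type u} [AddCommGroup E'] [Module R E'] {𝓔 : ℤ → AddSubgroup E'}
    [Decomposition 𝓔] [SetLike.GradedSMul 𝒜 𝓔] {e : (R ⧸ m.toIdeal) →ₗ[R] E'}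
    (he : GrLC.IsStarInjHull 𝒜 (GrLC.quotGr 𝒜 m) 𝓔 e) {C : Type u} [AddCommGroup C] [Module R C]
    {𝒞 : ℤ → AddSubgroup C} [Decomposition 𝒞] [SetLike.GradedSMul 𝒜 𝒞]
    (hC : GrLC.IsStarCanonical 𝒜 𝒞 𝓔 m n I) :
    ringKrullDim (Localization.AtPrime m.toIdeal) = n ∧
      ∃ (f : IsLocalRing.ResidueField (Localization.AtPrime m.toIdeal) →ₗ[Localization.AtPrime m.toIdeal]
          LocalizedModule m.toIdeal.primeCompl E'), InjHull.IsInjectiveHull f ∧
        Nonempty ((LocalizedModule m.toIdeal.primeCompl C →ₗ[Localization.AtPrime m.toIdeal]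
          LocalizedModule m.toIdeal.primeCompl E') ≃ₗ[Localization.AtPrime m.toIdeal]
          LocCoh.H (IsLocalRing.maximalIdeal (Localization.AtPrime m.toIdeal)) n
            (Localization.AtPrime m.toIdeal)) := by
  refine ⟨?_, ?_⟩
  · rw [IsLocalization.AtPrime.ringKrullDim_eq_height m.toIdeal (Localization.AtPrime m.toIdeal), ← hn,
      ← GrFieldLib.height_irr 𝒜 hpos h0, hmsp]
  · obtain ⟨f, hf⟩ := exists_hull_localized hm he
    exact ⟨f, hf, exists_dual_localized hm he hC hf⟩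

end Groth.Agent.GrCoreLib
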