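import Mathlib
import Groth.Agent.GrCoreLib.Acyclic
import Groth.Agent.GrCoreLib.Coarse

/-! Graded local cohomology and coarsening. -/

set_option autoImplicit false
set_option linter.style.haveILetI false
set_option linter.unusedSectionVars false
universe u

open DirectSum GrInjLib

namespace Groth.Agent.GrCoreLib

variable {ι : Type} [AddCommGroup ι] [DecidableEq ι] {R : Type u} [CommRing R] [IsNoetherianRing R]
  {σ : Type u} [SetLike σ R] [AddSubgroupClass σ R]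

/-- A homogeneous ideal of a Noetherian ring has finitely many homogeneous generators. -/
theorem exists_homogeneous_generators {𝒜 : ι → σ} [GradedRing 𝒜] (a : HomogeneousIdeal 𝒜) :
    ∃ s : Finset R, (s : Set R) ⊆ {x | SetLike.IsHomogeneousElem 𝒜 x} ∧
      a.toIdeal = Ideal.span (s : Set R) := by
  classical
  obtain ⟨t, ht⟩ := IsNoetherian.noetherian a.toIdeal
  refine ⟨t.biUnion fun x => (DFinsupp.support (decompose 𝒜 x)).image fun i => (decompose 𝒜 x i : R),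
    ?_, le_antisymm ?_ ?_⟩
  · intro y hy
    simp only [Finset.coe_biUnion, Finset.coe_image, Set.mem_iUnion, Set.mem_image] at hy
    obtain ⟨x, -, i, -, rfl⟩ := hy
    exact ⟨i, SetLike.coe_mem _⟩
  · rw [← ht]
    refine Ideal.span_le.2 fun x hx => ?_
    show x ∈ Ideal.span _
    rw [← DirectSum.sum_support_decompose 𝒜 x]
    refine Ideal.sum_mem _ fun i hi => Ideal.subset_span ?_
    simp only [Finset.coe_biUnion, Finset.coe_image, Set.mem_iUnion, Set.mem_image]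
    exact ⟨x, hx, i, hi, rfl⟩
  · refine Ideal.span_le.2 fun y hy => ?_
    simp only [Finset.coe_biUnion, Finset.coe_image, Set.mem_iUnion, Set.mem_image] at hy
    obtain ⟨x, hx, i, -, rfl⟩ := hy
    exact a.isHomogeneous i (ht ▸ Ideal.subset_span hx)

variable {κ : Type} [AddCommGroup κ] [DecidableEq κ] (φ : ι →+ κ)
  {𝒜 : ι → AddSubgroup R} [GradedRing 𝒜] {𝒜' : κ → AddSubgroup R} [GradedRing 𝒜']
  (h𝒜 : ∀ h : κ, 𝒜' h = ⨆ g ∈ φ ⁻¹' {h}, 𝒜 g)

include h𝒜 in
omit [IsNoetherianRing R] in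
theorem mem_coarse_ring {g : ι} {x : R} (hx : x ∈ 𝒜 g) : x ∈ 𝒜' (φ g) := by
  rw [h𝒜]
  exact AddSubgroup.mem_iSup_of_mem g (AddSubgroup.mem_iSup_of_mem (Set.mem_singleton _) hx)

include h𝒜 in
omit [IsNoetherianRing R] in
theorem coarse_smul_mem (X : GrLC.GMod.{u} 𝒜) {a b : κ} {r : R} {x : X.carrier} (hr : r ∈ 𝒜' a)
    (hx : x ∈ coarse X.gr φ b) : r • x ∈ coarse X.gr φ (a + b) := by
  rw [h𝒜] at hr
  induction hr using AddSubgroup.iSup_induction' with
  | hp i r hr =>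
    induction hr using AddSubgroup.iSup_induction' with
    | hp hi r hr =>
      intro g hg
      obtain ⟨h, rfl⟩ : ∃ h, g = i + h := ⟨g - i, by abel⟩
      rw [proj_smul 𝒜 X.gr hr, hx h (fun e => hg (by rw [map_add, e, show φ i = a from hi])), smul_zero]
    | h1 => rw [zero_smul]; exact zero_mem _
    | hadd x y _ _ hx hy => rw [add_smul]; exact add_mem hx hy
  | h1 => rw [zero_smul]; exact zero_mem _
  | hadd x y _ _ hx hy => rw [add_smul]; exact add_mem hx hy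

/-- The coarsened graded module. -/
noncomputable def coarseG (h𝒜 : ∀ h : κ, 𝒜' h = ⨆ g ∈ φ ⁻¹' {h}, 𝒜 g) (X : GrLC.GMod.{u} 𝒜) :
    GrLC.GMod.{u} 𝒜' :=
  { carrier := X.carrier
    gr := coarse X.gr φ
    dec := coarseDecomposition X.gr φ
    gsmul := ⟨fun {_ _ _ _} hr hx => coarse_smul_mem φ h𝒜 X hr hx⟩ }

variable {M : Type u} [AddCommGroup M] [Module R M] {ℳ : ι → AddSubgroup M} [Decomposition ℳ]
  [SetLike.GradedSMul 𝒜 ℳ] {ℳ' : κ → AddSubgroup M} [Decomposition ℳ'] [SetLike.GradedSMul 𝒜' ℳ']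
  (hℳ : ∀ h : κ, ℳ' h = ⨆ g ∈ φ ⁻¹' {h}, ℳ g) (E : GrLC.StarInjRes 𝒜 ℳ)

omit [IsNoetherianRing R] in
theorem coarse_grHom {X Y : GrLC.GMod.{u} 𝒜} {f : X.carrier →ₗ[R] Y.carrier}
    (hf : GrLC.IsGrHom X.gr Y.gr f) (h : κ) (x : X.carrier) (hx : x ∈ coarse X.gr φ h) :
    f x ∈ coarse Y.gr φ h := fun g hg => by
  rw [proj_map₀ X.gr Y.gr hf, hx g hg, map_zero]

/-- The coarsened resolution. -/
noncomputable def coarseRes : GrRes 𝒜' ℳ' where
  X n := coarseG φ h𝒜 (E.X n)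
  d n := E.d n
  ε := E.ε
  d_grHom n := coarse_grHom φ (E.d_grHom n)
  ε_grHom h x hx := by
    rw [hℳ] at hx
    induction hx using AddSubgroup.iSup_induction' with
    | hp i r hr =>
      induction hr using AddSubgroup.iSup_induction' with
      | hp hi r hr => exact (show φ i = h from hi) ▸ mem_coarse_of_mem (E.X 0).gr φ (E.ε_grHom i r hr)
      | h1 => rw [map_zero]; exact zero_mem _
      | hadd x y _ _ hx hy => rw [map_add]; exact add_mem hx hy
    | h1 => rw [map_zero]; exact zero_mem _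
    | hadd x y _ _ hx hy => rw [map_add]; exact add_mem hx hy
  ε_injective := E.ε_injective
  exact_zero := E.exact_zero
  exact_succ := E.exact_succ

include hℳ h𝒜 in
/-- Graded local cohomology commutes with coarsening. -/
theorem exists_coarse_H_equiv (a : HomogeneousIdeal 𝒜) (a' : HomogeneousIdeal 𝒜')
    (ha : a'.toIdeal = a.toIdeal) (E' : GrLC.StarInjRes 𝒜' ℳ') (i : ℕ) :
    ∃ Ψ : E.H a i ≃ₗ[R] E'.H a' i,
      ∀ g, ∀ x ∈ E.Hgr a i g, Ψ x ∈ E'.Hgr a' i (φ g) := by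
  obtain ⟨s, hs, hspan⟩ := exists_homogeneous_generators a
  obtain ⟨ψ, hψg, hψc, hψb, hψs⟩ := exists_compare (coarseRes φ h𝒜 hℳ E) E' a'
    (S := {x : R | SetLike.IsHomogeneousElem 𝒜 x})
    (fun x ⟨g, hg⟩ => ⟨φ g, mem_coarse_ring φ h𝒜 hg⟩) s hs (ha.trans hspan)
    (fun n => setFlasque_starInj 𝒜 (E.X n) (E.starInj n))
  have hco : ∀ n (y : (E.X n).carrier), y ∈ (coarseRes φ h𝒜 hℳ E).cocyc a' n ↔ y ∈ E.cocyc a n := by
    intro n y
    show y ∈ GrLC.gam a'.toIdeal (E.X n).carrier ⊓ LinearMap.ker (E.d n) ↔ _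
    rw [ha]
    exact Iff.rfl
  have hcb : ∀ n (y : (E.X n).carrier), y ∈ (coarseRes φ h𝒜 hℳ E).cobdy a' n ↔ y ∈ E.cobdy a n := by
    intro n y
    cases n with
    | zero => exact Iff.rfl
    | succ n =>
      show y ∈ (GrLC.gam a'.toIdeal (E.X n).carrier).map (E.d n) ↔ _
      rw [ha]
      exact Iff.rfl
  let Z : ↥(E.cocyc a i) →ₗ[R] ↥(E'.cocyc a' i) :=
    ((ψ i : (E.X i).carrier →ₗ[R] (E'.X i).carrier) ∘ₗ (E.cocyc a i).subtype).codRestrict _
      fun y => hψc i y.1 ((hco i y.1).2 y.2)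
  let P : E.H a i →ₗ[R] E'.H a' i := Submodule.mapQ _ _ Z fun y hy =>
    (hψb i y.1 ((hco i y.1).2 y.2)).2 ((hcb i y.1).2 hy)
  have hP : Function.Bijective P := by
    refine ⟨(injective_iff_map_eq_zero _).2 fun x hx => ?_, fun x => ?_⟩
    · obtain ⟨y, rfl⟩ := Submodule.mkQ_surjective _ x
      exact (Submodule.Quotient.mk_eq_zero _).2
        ((hcb i y.1).1 ((hψb i y.1 ((hco i y.1).2 y.2)).1 ((Submodule.Quotient.mk_eq_zero ((E'.cobdy a' i).comap (E'.cocyc a' i).subtype)).1 hx)))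
    · obtain ⟨f, rfl⟩ := Submodule.mkQ_surjective _ x
      classical
      have hf : ∀ h, proj (E'.X i).gr h f.1 ∈ E'.cocyc a' i :=
        fun h => mem_homogeneous _ (cocyc_homogeneous E' a' i) f.2 h
      choose y hy1 hy2 hy3 using fun h => hψs i h _ (hf h) (proj_mem _ h f.1)
      refine ⟨E.toH a i ⟨∑ h ∈ DFinsupp.support (decompose (E'.X i).gr f.1), (y h : (E.X i).carrier),
        Submodule.sum_mem _ fun h _ => (hco i _).1 (hy1 h)⟩, ?_⟩
      symm
      refine (Submodule.Quotient.eq _).2 ?_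
      show f.1 - ψ i (∑ h ∈ DFinsupp.support (decompose (E'.X i).gr f.1), y h) ∈ E'.cobdy a' i
      nth_rw 1 [← DirectSum.sum_support_decompose (E'.X i).gr f.1]
      rw [map_sum, ← Finset.sum_sub_distrib]
      exact Submodule.sum_mem _ fun h _ => hy3 h
  refine ⟨LinearEquiv.ofBijective P hP, ?_⟩
  rintro g _ ⟨z, hz, rfl⟩
  exact ⟨Z z, hψg i (φ g) _ (mem_coarse_of_mem (E.X i).gr φ hz), rfl⟩

end Groth.Agent.GrCoreLib
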