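import Mathlib
import Groth.Prelude.Def_GrLC2
import Groth.Agent.GrCoreLib.Ext
import Groth.Agent.GrInjLib.Primes

/-! The zeroth Bass number at a homogeneous prime, counted in a *essential extension. -/

set_option autoImplicit false
set_option linter.style.haveILetI false
set_option linter.unusedSectionVars false
universe u

open DirectSum GrInjLib CategoryTheory

namespace Groth.Agent.GrCoreLib

variable {R : Type u} [CommRing R] [IsNoetherianRing R]

/-- An injective map with dense image localises to an isomorphism. -/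
theorem nonempty_localized_equiv (S : Submonoid R) {A B : Type u} [AddCommGroup A] [Module R A]
    [AddCommGroup B] [Module R B] (f : A →ₗ[R] B) (hf : Function.Injective f)
    (h : ∀ b : B, ∃ s ∈ S, s • b ∈ LinearMap.range f) :
    Nonempty (LocalizedModule S A ≃ₗ[Localization S] LocalizedModule S B) := by
  refine ⟨LinearEquiv.ofBijective (LocalizedModule.map S f)
    ⟨LocalizedModule.map_injective S f hf, fun z => ?_⟩⟩
  induction z using LocalizedModule.induction_on with
  | h b t =>
    obtain ⟨s, hs, a, ha⟩ := h b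
    refine ⟨LocalizedModule.mk a (⟨s, hs⟩ * t), ?_⟩
    rw [LocalizedModule.map_mk, ha]
    exact LocalizedModule.mk_cancel_common_left ⟨s, hs⟩ t b

/-- The zeroth Bass number is the length of the localised socle. -/
theorem bassNum_zero_eq (M : Type u) [AddCommGroup M] [Module R M] (q : Ideal R) [q.IsPrime] :
    GrLC.bassNum q M 0 =
      Module.length (Localization.AtPrime q) (LocalizedModule q.primeCompl (killed q M)) := by
  have e : Quo q q ≃ₗ[Localization.AtPrime q] IsLocalRing.ResidueField (Localization.AtPrime q) :=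
    Submodule.quotEquivOfEq _ _ Localization.AtPrime.map_eq_maximalIdeal
  obtain ⟨e'⟩ := nonempty_equiv_localized q.primeCompl (killedHom q q M)
  exact ((Abelian.Ext.linearEquiv₀ (R := Localization.AtPrime q)).trans
      ((ModuleCat.homLinearEquiv (S := Localization.AtPrime q)).trans ((LinearEquiv.congrLeft
        (LocalizedModule q.primeCompl M) (Localization.AtPrime q) e.symm).trans e'))).length_eq

/-- An element killed by the prime `q` reaches a submodule meeting its span. -/
theorem exists_smul_mem {E : Type u} [AddCommGroup E] [Module R E] (q : Ideal R) [hq : q.IsPrime] {x : E}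
    (hx : x ∈ killed q E) (L : Submodule R E) (hess : R ∙ x ≠ ⊥ → (R ∙ x) ⊓ L ≠ ⊥) :
    ∃ s ∉ q, s • x ∈ L ∧ (s • x = 0 ∨ ∀ r : R, r • (s • x) = 0 → r ∈ q) := by
  by_cases h : ∃ s ∉ q, s • x = 0
  · obtain ⟨s, hs, h0⟩ := h
    exact ⟨s, hs, by rw [h0]; exact zero_mem _, Or.inl h0⟩
  push_neg at h
  have hx0 : x ≠ 0 := fun e => h 1 ((Ideal.ne_top_iff_one q).1 hq.ne_top) (by rw [e, smul_zero])
  obtain ⟨y, hy, hy0⟩ := (Submodule.ne_bot_iff _).1 (hess fun e => hx0 (Submodule.span_singleton_eq_bot.1 e))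
  obtain ⟨s, hsy⟩ := Submodule.mem_span_singleton.1 hy.1
  subst hsy
  have hs : s ∉ q := fun hs => hy0 ((mem_killed q).1 hx s hs)
  refine ⟨s, hs, hy.2, Or.inr fun r hr => ?_⟩
  rw [← mul_smul] at hr
  by_contra hrq
  exact h _ (hq.mul_notMem hrq hs) hr

variable {ι : Type} [AddCommGroup ι] [DecidableEq ι] (𝒜 : ι → AddSubgroup R) [GradedRing 𝒜]
  {E : Type u} [AddCommGroup E] [Module R E] (𝓔 : ι → AddSubgroup E) [Decomposition 𝓔]
  [SetLike.GradedSMul 𝒜 𝓔]

/-- Reaching a submodule up to units outside `q` may be checked on homogeneous elements. -/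
theorem exists_smul_mem_of_homogeneous (q : Ideal R) [hq : q.IsPrime] {K : Submodule R E}
    (hK : K.IsHomogeneous 𝓔) (L : Submodule R E)
    (h : ∀ g, ∀ x ∈ 𝓔 g, x ∈ K → ∃ s ∉ q, s • x ∈ L) (y : E) (hy : y ∈ K) : ∃ s ∉ q, s • y ∈ L := by
  classical
  suffices H : ∀ (T : Finset ι), ∃ s ∉ q, s • (∑ g ∈ T, proj 𝓔 g y) ∈ L by
    obtain ⟨s, hs, hsy⟩ := H (decompose 𝓔 y).support
    refine ⟨s, hs, ?_⟩
    rwa [show ∑ g ∈ (decompose 𝓔 y).support, proj 𝓔 g y = y from sum_support_decompose 𝓔 y] at hsy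
  intro T
  induction T using Finset.induction_on with
  | empty => exact ⟨1, (Ideal.ne_top_iff_one q).1 hq.ne_top, by simp⟩
  | insert g T hg ih =>
    obtain ⟨s, hs, hsT⟩ := ih
    obtain ⟨s', hs', hg'⟩ := h g _ (proj_mem 𝓔 g y) (mem_homogeneous 𝓔 hK hy g)
    refine ⟨s * s', hq.mul_notMem hs hs', ?_⟩
    rw [Finset.sum_insert hg, smul_add, mul_smul, mul_comm s, mul_smul]
    exact add_mem (L.smul_mem _ hg') (L.smul_mem _ hsT)

include 𝒜 in
/-- A *essential injection does not change the zeroth Bass number at a homogeneous prime. -/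
theorem bassNum_zero_of_ess {M : Type u} [AddCommGroup M] [Module R M] (f : M →ₗ[R] E)
    (hf : Function.Injective f)
    (hess : ∀ P : Submodule R E, P.IsHomogeneous 𝓔 → P ≠ ⊥ → P ⊓ LinearMap.range f ≠ ⊥)
    (q : Ideal R) [q.IsPrime] (hq : q.IsHomogeneous 𝒜) :
    GrLC.bassNum q E 0 = GrLC.bassNum q M 0 := by
  rw [bassNum_zero_eq, bassNum_zero_eq]
  let f' : killed q M →ₗ[R] killed q E := (f ∘ₗ (killed q M).subtype).codRestrict _ fun m =>
    (mem_killed q).2 fun r hr => by
      rw [LinearMap.comp_apply, ← map_smul, show r • (killed q M).subtype m = 0 from (mem_killed q).1 m.2 r hr,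
        map_zero]
  have hf' : Function.Injective f' := fun a b h => Subtype.ext (hf (congrArg Subtype.val h))
  refine (nonempty_localized_equiv q.primeCompl f' hf' fun b => ?_).some.length_eq.symm
  have hK : (killed q E).IsHomogeneous 𝓔 := killed_homogeneous q 𝒜 hq (GrLC.GMod.of 𝒜 E 𝓔)
  obtain ⟨s, hs, m, hm⟩ := exists_smul_mem_of_homogeneous 𝓔 q hK (LinearMap.range f) (fun g x hx hxk => by
      obtain ⟨s, hs, h, -⟩ := exists_smul_mem q hxk (LinearMap.range f)
        (hess _ (span_singleton_homogeneous 𝒜 𝓔 hx))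
      exact ⟨s, hs, h⟩) (b : E) b.2
  refine ⟨s, hs, ⟨m, (mem_killed q).2 fun r hr => hf ?_⟩, Subtype.ext hm⟩
  rw [map_smul, map_zero, hm, smul_comm, (mem_killed q).1 b.2 r hr, smul_zero]

include 𝒜 in
/-- Counting the copies of *envelopes in a graded direct sum. -/
theorem toENat_card_eq_bassNum {Λ : Type u} (P : Λ → HomogeneousIdeal 𝒜) (J : Λ → Submodule R E)
    (hJ : ∀ α, (J α).IsHomogeneous 𝓔) (hind : iSupIndep J) (htop : iSup J = ⊤)
    (f : ∀ α, (R ⧸ (P α).toIdeal) →ₗ[R] E)
    (hf : ∀ α, Function.Injective (f α) ∧ LinearMap.range (f α) ≤ J α ∧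
      ∀ Q : Submodule R E, Q.IsHomogeneous 𝓔 → Q ≤ J α → Q ≠ ⊥ → Q ⊓ LinearMap.range (f α) ≠ ⊥)
    (hP : ∀ α, (P α).toIdeal.IsPrime)
    (p : HomogeneousIdeal 𝒜) [p.toIdeal.IsPrime] :
    Cardinal.toENat (Cardinal.mk {α : Λ // P α = p}) = GrLC.bassNum p.toIdeal E 0 := by
  classical
  let q := p.toIdeal
  have hq : q.IsHomogeneous 𝒜 := p.isHomogeneous
  let T := {α : Λ // P α = p}
  let g : T → (R ⧸ q) →ₗ[R] E := fun α =>
    f α ∘ₗ (Submodule.quotEquivOfEq q (P α.1).toIdeal (by rw [α.2])).toLinearMap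
  have hgJ : ∀ (α : T) z, g α z ∈ J α.1 := fun α z => (hf α.1).2.1 ⟨_, rfl⟩
  let φ : (T →₀ R ⧸ q) →ₗ[R] E := Finsupp.lsum ℕ g
  have hφk : ∀ l, φ l ∈ killed q E := fun l => (mem_killed q).2 fun r hr => by
    rw [← map_smul, show r • l = 0 from Finsupp.ext fun α => by
      obtain ⟨z, hz⟩ := Ideal.Quotient.mk_surjective (l α)
      rw [Finsupp.smul_apply, ← hz, Finsupp.zero_apply, Algebra.smul_def]
      exact (Ideal.Quotient.eq_zero_iff_mem.2 (Ideal.mul_mem_right z q hr) : Ideal.Quotient.mk q (r * z) = 0),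
      map_zero]
  let φ' := φ.codRestrict (killed q E) hφk
  have hind' := (iSupIndep_iff_finsetSum_eq_zero_imp_eq_zero _).1
    (hind.comp (f := fun α : T => α.1) Subtype.val_injective)
  have hφ' : Function.Injective φ' := by
    refine (injective_iff_map_eq_zero φ').2 fun l hl => Finsupp.ext fun α => ?_
    have h1 : ∑ α ∈ l.support, g α (l α) = 0 := congrArg Subtype.val hl
    by_cases hα : α ∈ l.support
    · have h2 := hind' l.support (fun α => g α (l α)) (fun β _ => hgJ β _) h1 α hα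
      have hg : Function.Injective (g α) := (hf α.1).1.comp (LinearEquiv.injective _)
      exact hg (h2.trans (map_zero (g α)).symm)
    · exact Finsupp.notMem_support_iff.1 hα
  have hdense : ∀ b : killed q E, ∃ s ∈ q.primeCompl, s • b ∈ LinearMap.range φ' := by
    intro b
    have hK : (killed q E).IsHomogeneous 𝓔 := killed_homogeneous q 𝒜 hq (GrLC.GMod.of 𝒜 E 𝓔)
    suffices H : ∀ d, ∀ x ∈ 𝓔 d, x ∈ killed q E → ∃ s ∉ q, s • x ∈ LinearMap.range φ by
      obtain ⟨s, hs, l, hl⟩ := exists_smul_mem_of_homogeneous 𝓔 q hK (LinearMap.range φ) H (b : E) b.2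
      exact ⟨s, hs, l, Subtype.ext hl⟩
    intro d x hx hxk
    obtain ⟨F, hF⟩ := (Submodule.mem_iSup_iff_exists_finsupp J x).1 (htop ▸ Submodule.mem_top)
    obtain ⟨hFJ, hFs⟩ := hF
    have hx' : x = ∑ α ∈ F.support, proj 𝓔 d (F α) := by
      rw [← map_sum]
      exact (proj_of_mem 𝓔 hx).symm.trans (congrArg _ hFs.symm)
    have hmem : ∀ α, proj 𝓔 d (F α) ∈ J α := fun α => mem_homogeneous 𝓔 (hJ α) (hFJ α) d
    have hkill : ∀ α ∈ F.support, proj 𝓔 d (F α) ∈ killed q E := fun α hα => (mem_killed q).2 fun r hr => by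
      refine (iSupIndep_iff_finsetSum_eq_zero_imp_eq_zero _).1 hind F.support
        (fun α => r • proj 𝓔 d (F α)) (fun β _ => (J β).smul_mem r (hmem β)) ?_ α hα
      rw [← Finset.smul_sum, ← hx']
      exact (mem_killed q).1 hxk r hr
    have hone : ∀ α ∈ F.support, ∃ s ∉ q, s • proj 𝓔 d (F α) ∈ LinearMap.range φ := by
      intro α hα
      have hspan : R ∙ proj 𝓔 d (F α) ≤ J α := (Submodule.span_singleton_le_iff_mem _ _).2 (hmem α)
      obtain ⟨s, hs, ⟨c, hc⟩, h | h⟩ := exists_smul_mem q (hkill α hα) (LinearMap.range (f α))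
        ((hf α).2.2 _ (span_singleton_homogeneous 𝒜 𝓔 (proj_mem 𝓔 d _)) hspan)
      · exact ⟨s, hs, by rw [h]; exact zero_mem _⟩
      have hc0 : c ≠ 0 := fun e => (Ideal.ne_top_iff_one q).1 (Ideal.IsPrime.ne_top inferInstance)
        (h 1 (by rw [one_smul, ← hc, e, map_zero]))
      have hPα : P α = p := by
        refine HomogeneousIdeal.toIdeal_injective (le_antisymm (fun r hr => h r ?_) fun r hr => ?_)
        · obtain ⟨c', rfl⟩ := Ideal.Quotient.mk_surjective c
          rw [← hc, ← map_smul, show r • Ideal.Quotient.mk (P α).toIdeal c' = 0 from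
            Ideal.Quotient.eq_zero_iff_mem.2 (Ideal.mul_mem_right c' _ hr), map_zero]
        · obtain ⟨c', rfl⟩ := Ideal.Quotient.mk_surjective c
          have h0 : r • f α (Ideal.Quotient.mk (P α).toIdeal c') = 0 := by
            rw [hc, smul_comm, (mem_killed q).1 (hkill α hα) r hr, smul_zero]
          have h1 := (hf α).1 (((map_smul (f α) r _).trans h0).trans (map_zero (f α)).symm)
          exact ((hP α).mem_or_mem (Ideal.Quotient.eq_zero_iff_mem.1
            (h1 : Ideal.Quotient.mk (P α).toIdeal (r * c') = 0))).resolve_right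
            fun hc' => hc0 (Ideal.Quotient.eq_zero_iff_mem.2 hc')
      refine ⟨s, hs, Finsupp.single ⟨α, hPα⟩
        ((Submodule.quotEquivOfEq q (P α).toIdeal (by rw [hPα])).symm c), ?_⟩
      simp only [φ, Finsupp.lsum_single]
      exact ((congrArg (f α) ((Submodule.quotEquivOfEq q (P α).toIdeal _).apply_symm_apply c))).trans hc
    rw [hx']
    suffices H : ∀ S : Finset Λ, S ⊆ F.support → ∃ s ∉ q, s • ∑ α ∈ S, proj 𝓔 d (F α) ∈ LinearMap.range φ from
      H F.support subset_rfl
    intro S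
    induction S using Finset.induction_on with
    | empty => exact fun _ => ⟨1, (Ideal.ne_top_iff_one q).1 (Ideal.IsPrime.ne_top inferInstance), by simp⟩
    | insert α S hα ih =>
      intro hS
      obtain ⟨s, hs, hsum⟩ := ih ((Finset.subset_insert α S).trans hS)
      obtain ⟨s', hs', hα'⟩ := hone α (hS (Finset.mem_insert_self α S))
      refine ⟨s * s', Ideal.IsPrime.mul_notMem inferInstance hs hs', ?_⟩
      rw [Finset.sum_insert hα, smul_add, mul_smul, mul_comm s, mul_smul]
      exact add_mem (Submodule.smul_mem _ _ hα') (Submodule.smul_mem _ _ hsum)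
  let f0 : (R ⧸ q) →ₗ[R] Quo q q := (IsScalarTower.toAlgHom R (R ⧸ q) (Quo q q)).toLinearMap
  haveI : IsLocalizedModule q.primeCompl f0 := inferInstance
  let f1 : (T →₀ R ⧸ q) →ₗ[R] (T →₀ Quo q q) := Finsupp.mapRange.linearMap (α := T) f0
  haveI : IsLocalizedModule q.primeCompl f1 := inferInstance
  obtain ⟨e1⟩ := nonempty_equiv_localized q.primeCompl f1
  obtain ⟨e2⟩ := nonempty_localized_equiv q.primeCompl φ' hφ' hdense
  have e : Quo q q ≃ₗ[Localization.AtPrime q] IsLocalRing.ResidueField (Localization.AtPrime q) :=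
    Submodule.quotEquivOfEq _ _ Localization.AtPrime.map_eq_maximalIdeal
  haveI : IsSimpleModule (Localization.AtPrime q) (IsLocalRing.ResidueField (Localization.AtPrime q)) :=
    isSimpleModule_iff_quot_maximal.mpr ⟨_, inferInstance, ⟨LinearEquiv.refl _ _⟩⟩
  rw [bassNum_zero_eq, ← (e1.trans e2).length_eq, Module.length_finsupp, e.length_eq,
    Module.length_eq_one, mul_one]
  rfl

end Groth.Agent.GrCoreLib
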