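import Mathlib
import Groth.Prelude.Def_GrLC2
import Groth.Agent.LocCohLib.TopExt
import Groth.Agent.LocCohLib.Ischebeck
import Groth.Agent.CanonLib.CMDuality
import Groth.Agent.InjHullLib.Matlis
import Groth.Agent.GorLib.Bass

/-! Type of a canonical module and of the ring, over a Cohen–Macaulay local ring. -/

set_option autoImplicit false
set_option linter.style.haveILetI false
universe u

namespace Groth.Agent.GrCoreLib

open CategoryTheory IsLocalRing LocCohLib TensorProduct

/-- A finite module killed by the maximal ideal has finite length. -/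
theorem isFiniteLength_of_killed {R : Type u} [CommRing R] [IsLocalRing R] (X : Type u) [AddCommGroup X] [Module R X]
    [Module.Finite R X] (hX : ∀ b ∈ maximalIdeal R, ∀ x : X, b • x = 0) : IsFiniteLength R X := by
  have ht : Module.IsTorsionBySet R X (maximalIdeal R : Set R) := fun x b => hX b b.2 x
  letI := ht.module
  haveI := ht.isScalarTower (S := R)
  letI : Field (R ⧸ maximalIdeal R) := Ideal.Quotient.field _
  haveI : Module.Finite (R ⧸ maximalIdeal R) X := Module.Finite.of_restrictScalars_finite R _ X
  rw [← Module.length_ne_top_iff, Module.length_eq_of_surjective (R := R ⧸ maximalIdeal R) (S := R) (M := X) Ideal.Quotient.mk_surjective,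
    Module.length_eq_finrank]
  exact ENat.coe_ne_top _

variable {R : Type u} [CommRing R] [LocCoh.IsCohenMacaulayLocalRing R] {d : ℕ} {E : Type u} [AddCommGroup E]
  [Module R E] {g₀ : ResidueField R →ₗ[R] E} {K : Type u} [AddCommGroup K] [Module R K] [Module.Finite R K]
  (hd : ringKrullDim R = d) (hf : InjHull.IsInjectiveHull g₀)
  (eK : (K →ₗ[R] E) ≃ₗ[R] LocCoh.H (maximalIdeal R) d R)

omit [Module.Finite R K] in
theorem killed_residue : KilledBy (maximalIdeal R) 1 (ResidueField R) := fun b hb x => by
  rw [pow_one] at hb
  rw [Algebra.smul_def, show algebraMap R (ResidueField R) b = 0 from Ideal.Quotient.eq_zero_iff_mem.mpr hb,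
    zero_mul]

include hd hf eK in
/-- The type of a canonical module is one. -/
theorem bassNumLocal_canonical : GrLC.bassNumLocal R K d = 1 := by
  obtain ⟨e⟩ := CanonLib.local_duality hd hf.isInjective eK d 0 (by omega) (ResidueField R)
  let X := Abelian.Ext.{u} (ModuleCat.of R (ResidueField R)) (ModuleCat.of R K) d
  haveI : Module.Finite R (ResidueField R) := inferInstanceAs (Module.Finite R (R ⧸ maximalIdeal R))
  haveI : Module.Finite R X := GorLib.finite_ext d _ _
  have hlen : Module.length R ((localCohomology (maximalIdeal R) 0).obj (ModuleCat.of R (ResidueField R)) : Type u) = 1 := by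
    haveI : IsSimpleModule R (ResidueField R) :=
      isSimpleModule_iff_quot_maximal.mpr ⟨_, inferInstance, ⟨LinearEquiv.refl R _⟩⟩
    have htop : DRing.torsionSub (maximalIdeal R) (ResidueField R) = ⊤ :=
      eq_top_iff.2 fun x _ => ⟨1, fun b hb => killed_residue b hb x⟩
    rw [(h0Equiv (maximalIdeal R) (ModuleCat.of R (ResidueField R))).length_eq]
    show Module.length R (DRing.torsionSub (maximalIdeal R) (ResidueField R)) = 1
    rw [(LinearEquiv.ofTop _ htop).length_eq, Module.length_eq_one]
  have hX : IsFiniteLength R X := isFiniteLength_of_killed X fun b hb x =>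
    LocCohLib.smul_eq_zero_of_annihilates (fun z => killed_residue b (by rwa [pow_one]) z) x
  show Module.length R X = 1
  rw [← InjHullLib.length_dual hf hX, ← e.length_eq, hlen]

include hd hf eK in
/-- The type of the ring is the number of generators of a canonical module. -/
theorem bassNumLocal_ring :
    GrLC.bassNumLocal R R d = Module.length R (ResidueField R ⊗[R] K) := by
  haveI : Module.Finite R (ResidueField R) := inferInstanceAs (Module.Finite R (R ⧸ maximalIdeal R))
  have hV : Van (maximalIdeal R) (ModuleCat.of R R) d := by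
    intro F _ _ hF hk i hi
    obtain ⟨k, hk⟩ := hk
    haveI := hF
    refine subsingleton_ext_of_supportDim R d (CanonLib.depth_self_eq hd) 0 F ?_ i (by omega)
    have hsub : Subsingleton (Module.support R F) := ⟨fun p q => Subtype.ext (PrimeSpectrum.ext
      (((maximalIdeal.isMaximal R).eq_of_le p.1.isPrime.ne_top fun a ha => support_subset_of_killedBy hk p.2 ha).symm.trans
        ((maximalIdeal.isMaximal R).eq_of_le q.1.isPrime.ne_top fun a ha => support_subset_of_killedBy hk q.2 ha)))⟩
    exact Order.krullDim_nonpos_of_subsingleton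
  obtain ⟨eX⟩ := nonempty_ext_equiv_hom (G := ModuleCat.of R R) (n := d) hV (killed_residue (R := R))
  have e2 : (ResidueField R →ₗ[R] LocCoh.H (maximalIdeal R) d R) ≃ₗ[R] (ResidueField R ⊗[R] K →ₗ[R] E) :=
    (LinearEquiv.congrRight eK.symm).trans (TensorProduct.lift.equiv (RingHom.id R) (ResidueField R) K E)
  show Module.length R _ = _
  rw [(eX.trans e2).length_eq]
  refine InjHullLib.length_dual hf (isFiniteLength_of_killed _ fun b hb x => ?_)
  induction x using TensorProduct.induction_on with
  | zero => exact smul_zero b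
  | tmul u v => rw [TensorProduct.smul_tmul', killed_residue b (by rwa [pow_one]) u, TensorProduct.zero_tmul]
  | add u v hu hv => rw [smul_add, hu, hv, add_zero]

omit [Module R K] [Module R E] in
/-- Bass numbers only depend on the module up to isomorphism. -/
theorem length_ext_congr {B : Type u} [CommRing B] [IsLocalRing B] {X Y : ModuleCat.{u} B} (e : X ≅ Y) (i : ℕ) :
    GrLC.bassNumLocal B X i = GrLC.bassNumLocal B Y i := by
  let Q := ModuleCat.of B (ResidueField B)
  let f := (Abelian.Ext.mk₀ e.hom).postcompOfLinear B Q (add_zero i)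
  let g := (Abelian.Ext.mk₀ e.inv).postcompOfLinear B Q (add_zero i)
  have h1 : ∀ x, g (f x) = x := fun x => by
    show (x.comp (Abelian.Ext.mk₀ e.hom) (add_zero i)).comp (Abelian.Ext.mk₀ e.inv) (add_zero i) = x
    rw [Abelian.Ext.comp_assoc_of_second_deg_zero, Abelian.Ext.mk₀_comp_mk₀, e.hom_inv_id, Abelian.Ext.comp_mk₀_id]
  have h2 : ∀ x, f (g x) = x := fun x => by
    show (x.comp (Abelian.Ext.mk₀ e.inv) (add_zero i)).comp (Abelian.Ext.mk₀ e.hom) (add_zero i) = x
    rw [Abelian.Ext.comp_assoc_of_second_deg_zero, Abelian.Ext.mk₀_comp_mk₀, e.inv_hom_id, Abelian.Ext.comp_mk₀_id]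
  exact (LinearEquiv.ofLinearMap f g (LinearMap.ext h2) (LinearMap.ext h1)).length_eq

end Groth.Agent.GrCoreLib
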