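import Mathlib
import Groth.Agent.GrFieldLib.Dual
import Groth.Agent.GrInjLib.Pieces
import Groth.Agent.GrCoreLib.Local
import Groth.Agent.GrFieldLib.StarLocal

/-! Graded Matlis duality, piece by piece. -/

set_option autoImplicit false
set_option linter.style.haveILetI false
set_option linter.unusedSectionVars false
universe u

open DirectSum GrInjLib

namespace Groth.Agent.GrCoreLib

variable {R : Type u} [CommRing R] {𝒜 : ℤ → AddSubgroup R} [GradedRing 𝒜]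
  (hpos : ∀ n : ℤ, n < 0 → 𝒜 n = ⊥) (h0 : IsField (GrLC.deg0 𝒜))
  {m : HomogeneousIdeal 𝒜} (hmsp : m.toIdeal = GrFieldLib.irr 𝒜)
  {E' : Type u} [AddCommGroup E'] [Module R E'] {𝓔 : ℤ → AddSubgroup E'} [Decomposition 𝓔]
  [SetLike.GradedSMul 𝒜 𝓔] {e : (R ⧸ m.toIdeal) →ₗ[R] E'}
  (he : GrLC.IsStarInjHull 𝒜 (GrLC.quotGr 𝒜 m) 𝓔 e)

include hpos h0 hmsp he in
/-- The degree-zero piece of the hull is the socle. -/
theorem mem_piece_zero {y : E'} (hy : y ∈ 𝓔 0) :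
    ∃ t : GrLC.deg0 𝒜, (t : R) • e (Submodule.Quotient.mk 1) = y := by
  classical
  by_cases h : y = 0
  · exact ⟨0, by rw [h]; exact zero_smul R _⟩
  have hP : (LinearMap.range e).IsHomogeneous 𝓔 := range_hull_homogeneous 𝒜 m 𝓔 he.grHom
  obtain ⟨a, r, hr, hrm, hr0⟩ := exists_smul_mem_range 𝒜 𝓔 he.essential hP hy h
  obtain ⟨v, hv⟩ := hrm
  obtain ⟨c, rfl⟩ := Submodule.Quotient.mk_surjective _ v
  rw [← GrFieldLib.Dual.smul_socle] at hv
  have ha : a = 0 := by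
    by_contra hne
    have h1 : proj 𝓔 (a + 0) (r • y) = r • y := proj_of_mem 𝓔 (smul_mem 𝒜 𝓔 hr hy)
    rw [← hv, GrFieldLib.Dual.proj_socle hpos hmsp he c (by omega)] at h1
    exact hr0 (hv.symm.trans h1.symm)
  subst ha
  have hr' : (⟨r, hr⟩ : GrLC.deg0 𝒜) ≠ 0 := fun h => hr0 (by
    rw [show r = 0 from congrArg Subtype.val h, zero_smul])
  obtain ⟨w, hw⟩ := h0.mul_inv_cancel hr'
  have hw' : r * (w : R) = 1 := congrArg Subtype.val hw
  refine ⟨w * ⟨_, (decompose 𝒜 c 0).2⟩, ?_⟩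
  have hc : proj 𝓔 (0 + 0) (c • e (Submodule.Quotient.mk 1)) = (decompose 𝒜 c 0 : R) • e (Submodule.Quotient.mk 1) := by
    clear hv
    induction c using smul_induction 𝒜 with
    | h0 => simp
    | hadd r s hr hs => rw [add_smul, map_add, hr, hs, decompose_add, DirectSum.add_apply, AddSubgroup.coe_add, add_smul]
    | hhom b r hr =>
      by_cases hb : b = 0
      · subst hb
        rw [decompose_of_mem_same 𝒜 hr, proj_of_mem 𝓔 (smul_mem 𝒜 𝓔 hr (GrFieldLib.Dual.socle_mem he))]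
      · rw [decompose_of_mem_ne 𝒜 hr hb, zero_smul]
        refine proj_of_mem_ne 𝓔 (smul_mem 𝒜 𝓔 hr (GrFieldLib.Dual.socle_mem he)) ?_
        omega
  rw [hv, proj_of_mem 𝓔 (smul_mem 𝒜 𝓔 hr hy)] at hc
  show ((w : R) * (decompose 𝒜 c 0 : R)) • _ = y
  rw [mul_smul, ← hc, ← mul_smul, mul_comm, hw', one_smul]

/-- The socle as a copy of the field. -/
noncomputable def socleEquiv (hpos : ∀ n : ℤ, n < 0 → 𝒜 n = ⊥) (h0 : IsField (GrLC.deg0 𝒜))
    (hmsp : m.toIdeal = GrFieldLib.irr 𝒜) (he : GrLC.IsStarInjHull 𝒜 (GrLC.quotGr 𝒜 m) 𝓔 e) :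
    GrLC.deg0 𝒜 ≃ₗ[GrLC.deg0 𝒜] GrLC.comp 𝒜 𝓔 0 :=
  LinearEquiv.ofBijective
    (LinearMap.toSpanSingleton (GrLC.deg0 𝒜) (GrLC.comp 𝒜 𝓔 0)
      ⟨e (Submodule.Quotient.mk 1), GrFieldLib.Dual.socle_mem he⟩)
    ⟨(injective_iff_map_eq_zero _).2 fun t ht =>
        GrFieldLib.Dual.smul_socle_inj hpos h0 hmsp he t (congrArg Subtype.val ht),
      fun y => by
        obtain ⟨t, ht⟩ := mem_piece_zero hpos h0 hmsp he y.2
        exact ⟨t, Subtype.ext ht⟩⟩

variable {C : Type u} [AddCommGroup C] [Module R C] {𝒞 : ℤ → AddSubgroup C} [Decomposition 𝒞]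
  [SetLike.GradedSMul 𝒜 𝒞]

/-- The pairing of a piece with the homogeneous functionals of opposite degree. -/
noncomputable def piecePairing (hpos : ∀ n : ℤ, n < 0 → 𝒜 n = ⊥) (h0 : IsField (GrLC.deg0 𝒜))
    (hmsp : m.toIdeal = GrFieldLib.irr 𝒜) (he : GrLC.IsStarInjHull 𝒜 (GrLC.quotGr 𝒜 m) 𝓔 e) (j : ℤ) :
    GrLC.comp 𝒜 𝒞 j →ₗ[GrLC.deg0 𝒜] Module.Dual (GrLC.deg0 𝒜) (GrLC.homDeg 𝒜 𝒞 𝓔 (-j)) :=
  LinearMap.mk₂ _ (fun c h => (socleEquiv hpos h0 hmsp he).symm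
      ⟨(h : C →ₗ[R] E') (c : C), by
        have := h.2 j c.1 c.2
        rwa [add_neg_cancel] at this⟩)
    (fun c c' h => by
      rw [← map_add]
      exact congrArg _ (Subtype.ext (map_add (h : C →ₗ[R] E') _ _)))
    (fun t c h => by
      rw [← map_smul]
      exact congrArg _ (Subtype.ext (map_smul (h : C →ₗ[R] E') (t : R) _)))
    (fun c h h' => by
      rw [← map_add]
      exact congrArg _ (Subtype.ext rfl))
    (fun t c h => by
      rw [← map_smul]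
      exact congrArg _ (Subtype.ext rfl))

variable (𝒞) in
/-- Graded Matlis duality on a piece. -/
theorem piecePairing_bijective [IsNoetherianRing R] [Module.Finite R C] (hpos : ∀ n : ℤ, n < 0 → 𝒜 n = ⊥)
    (h0 : IsField (GrLC.deg0 𝒜)) (hmsp : m.toIdeal = GrFieldLib.irr 𝒜)
    (he : GrLC.IsStarInjHull 𝒜 (GrLC.quotGr 𝒜 m) 𝓔 e) (j : ℤ) :
    Function.Bijective (piecePairing (C := C) (𝒞 := 𝒞) hpos h0 hmsp he j) := by
  letI : Field (GrLC.deg0 𝒜) := h0.toField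
  let P := piecePairing (C := C) (𝒞 := 𝒞) hpos h0 hmsp he j
  have hP : Function.Injective P := by
    refine (injective_iff_map_eq_zero P).2 fun c hc => ?_
    by_contra hne
    obtain ⟨h, hh, hhc, -⟩ := GrFieldLib.Dual.exists_functional hpos h0 hmsp he (C := C) (𝒞 := 𝒞)
      (⊥ : Submodule (GrLC.deg0 𝒜) (GrLC.comp 𝒜 𝒞 j)) c (fun h => hne ((Submodule.mem_bot _).1 h))
    have h1 : P c ⟨h, hh⟩ = 0 := LinearMap.congr_fun hc _
    exact hhc (congrArg Subtype.val ((socleEquiv hpos h0 hmsp he).symm.map_eq_zero_iff.1 h1))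
  haveI : IsNoetherian (GrLC.deg0 𝒜) (GrLC.comp 𝒜 𝒞 j) := isNoetherian_comp 𝒜 𝒞 j
  have hflip : Function.Injective P.flip := by
    refine (injective_iff_map_eq_zero P.flip).2 fun h hh => Subtype.ext ?_
    refine GrFieldLib.Dual.eq_zero_of_piece hpos hmsp he h.2 fun y hy => ?_
    rw [neg_neg] at hy
    exact congrArg Subtype.val ((socleEquiv hpos h0 hmsp he).symm.map_eq_zero_iff.1 (LinearMap.congr_fun hh ⟨y, hy⟩))
  haveI : Module.Finite (GrLC.deg0 𝒜) (GrLC.homDeg 𝒜 𝒞 𝓔 (-j)) := Module.Finite.of_injective P.flip hflip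
  refine ⟨hP, (LinearMap.injective_iff_surjective_of_finrank_eq_finrank ?_).1 hP⟩
  refine le_antisymm (LinearMap.finrank_le_finrank_of_injective hP) ?_
  rw [Subspace.dual_finrank_eq]
  have := LinearMap.finrank_le_finrank_of_injective hflip
  rwa [Subspace.dual_finrank_eq] at this

end Groth.Agent.GrCoreLib
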