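import Mathlib
import Groth.Agent.GrCoreLib.TopH
import Groth.Agent.GorLib.ExtVanish
import Groth.Agent.GorLib.Bass
import Groth.Agent.GorLib.LocInjDim
import Groth.Agent.CanonLib.CMDuality

/-! Gorenstein via *injectivity of the top graded local cohomology. -/

set_option autoImplicit false
set_option linter.style.haveILetI false
set_option linter.unusedSectionVars false
universe u

open DirectSum GrInjLib CategoryTheory

namespace Groth.Agent.GrCoreLib

/-- A torsion module without extensions by the residue field is injective. -/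
theorem injective_of_ext_one {B : Type u} [CommRing B] [IsLocalRing B] [IsNoetherianRing B] {X : Type u}
    [AddCommGroup X] [Module B X]
    (htor : ∀ x : X, ∃ N : ℕ, ∀ b ∈ IsLocalRing.maximalIdeal B ^ N, b • x = 0)
    [hext : Subsingleton (Abelian.Ext.{u} (ModuleCat.of B (IsLocalRing.ResidueField B)) (ModuleCat.of B X) 1)] :
    Module.Injective B X := by
  classical
  obtain ⟨F, _, _, j, hj⟩ := InjHullLib.exists_injectiveHull (R := B) X
  haveI := hj.isInjective
  by_contra hninj
  have hsurj : ¬ Function.Surjective j := fun hs => hninj <| by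
    let ej := LinearEquiv.ofBijective j ⟨hj.injective, hs⟩
    exact InjHullLib.injective_of_retract j ej.symm.toLinearMap (LinearMap.ext fun z => ej.symm_apply_apply z)
  obtain ⟨y, hy⟩ := not_forall.1 hsurj
  let T := LinearMap.range j
  obtain ⟨z, hzT, hzm⟩ : ∃ z : F, z ∉ T ∧ ∀ b ∈ IsLocalRing.maximalIdeal B, b • z ∈ T := by
    obtain ⟨N, hN⟩ := torsion_of_essential j hj.toIsEssentialInj htor y
    have hyT : y ∉ T := fun ⟨w, hw⟩ => hy ⟨w, hw⟩
    have hex : ∃ N, ∀ b ∈ IsLocalRing.maximalIdeal B ^ N, b • y ∈ T :=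
      ⟨N, fun b hb => by rw [hN b hb]; exact zero_mem T⟩
    let N0 := Nat.find hex
    have hN0 : ∀ b ∈ IsLocalRing.maximalIdeal B ^ N0, b • y ∈ T := Nat.find_spec hex
    obtain ⟨N', hN'⟩ : ∃ N', N0 = N' + 1 := Nat.exists_eq_add_of_le' (Nat.pos_of_ne_zero fun h0 => hyT (by
      have := hN0 1 (by rw [h0, pow_zero]; simp)
      rwa [one_smul] at this))
    obtain ⟨b, hb, hby⟩ : ∃ b ∈ IsLocalRing.maximalIdeal B ^ N', b • y ∉ T := by
      by_contra! h
      have := Nat.find_min' hex (m := N') h
      omega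
    refine ⟨b • y, hby, fun c hc => ?_⟩
    rw [smul_smul]
    exact hN0 _ (by rw [hN', pow_succ']; exact Ideal.mul_mem_mul hc hb)
  let k := IsLocalRing.ResidueField B
  let S3 : ShortComplex (ModuleCat.{u} B) := ShortComplex.mk (X₁ := ModuleCat.of B X) (X₂ := ModuleCat.of B F)
    (X₃ := ModuleCat.of B (F ⧸ T)) (ModuleCat.ofHom j) (ModuleCat.ofHom T.mkQ)
    (by apply ModuleCat.hom_ext; exact LinearMap.ext fun w => (Submodule.Quotient.mk_eq_zero T).2 ⟨w, rfl⟩)
  have hS3 : S3.ShortExact :=
    { exact := (ShortComplex.ShortExact.moduleCat_exact_iff_function_exact _).2 (LinearMap.exact_map_mkQ_range j)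
      mono_f := (ModuleCat.mono_iff_injective _).2 hj.injective
      epi_g := (ModuleCat.epi_iff_surjective _).2 T.mkQ_surjective }
  let φ : k →ₗ[B] F ⧸ T := Submodule.liftQ _
    (LinearMap.toSpanSingleton B (F ⧸ T) (T.mkQ z)) fun c hc => by
      rw [LinearMap.mem_ker, LinearMap.toSpanSingleton_apply, ← map_smul]
      exact (Submodule.Quotient.mk_eq_zero T).2 (hzm c hc)
  obtain ⟨η, hη⟩ := Abelian.Ext.covariant_sequence_exact₃ (ModuleCat.of B k) hS3
    (Abelian.Ext.mk₀ (ModuleCat.ofHom φ)) (zero_add 1)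
    (Subsingleton.elim (α := Abelian.Ext.{u} (ModuleCat.of B k) (ModuleCat.of B X) 1) _ _)
  obtain ⟨ψ, rfl⟩ := (Abelian.Ext.mk₀_bijective _ _).2 η
  rw [Abelian.Ext.mk₀_comp_mk₀] at hη
  have hψ : ∀ w, T.mkQ (ψ.hom w) = φ w :=
    LinearMap.congr_fun (congrArg ModuleCat.Hom.hom ((Abelian.Ext.mk₀_bijective _ _).1 hη))
  let one : k := Submodule.Quotient.mk 1
  let w1 : F := ψ.hom one
  have hw1T : w1 ∉ T := fun h => hzT <| by
    have := (hψ one).symm.trans ((Submodule.Quotient.mk_eq_zero T).2 h)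
    rwa [show φ one = T.mkQ z from (one_smul B (T.mkQ z) :), Submodule.mkQ_apply,
      Submodule.Quotient.mk_eq_zero] at this
  have hw1 : ∀ c ∈ IsLocalRing.maximalIdeal B, c • w1 = 0 := fun c hc => by
    rw [← map_smul, show c • one = 0 from (Submodule.Quotient.mk_eq_zero _).2 (by
      show c * 1 ∈ IsLocalRing.maximalIdeal B; rw [mul_one]; exact hc), map_zero]
  obtain ⟨b, w, hw, hb0⟩ := InjHullLib.exists_smul_mem_range hj.toIsEssentialInj
    (x := w1) fun h => hw1T (h ▸ zero_mem T)
  obtain ⟨u, rfl⟩ : IsUnit b := IsLocalRing.notMem_maximalIdeal.1 fun hb => hb0 (hw1 b hb)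
  refine hw1T ?_
  have := T.smul_mem (↑u⁻¹ : B) (⟨w, hw⟩ : (↑u : B) • w1 ∈ T)
  rwa [smul_smul, Units.inv_mul, one_smul] at this

variable {ι : Type} [AddCommGroup ι] [DecidableEq ι] {R : Type u} [CommRing R]
  {𝒜 : ι → AddSubgroup R} [GradedRing 𝒜] {m : HomogeneousIdeal 𝒜}

/-- *injectivity transfers along a homogeneous isomorphism of any degree. -/
theorem starInj_of_equiv {M N : GrLC.GMod.{u} 𝒜} (φ : M.carrier ≃ₗ[R] N.carrier) {g : ι}
    (hφ : GrLC.IsGrHomDeg M.gr N.gr φ.toLinearMap g) (hN : GrLC.IsStarInj 𝒜 N.gr) : GrLC.IsStarInj 𝒜 M.gr := by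
  intro A B f hf hinj ψ hψ
  obtain ⟨h, hh, hhf⟩ := extend_deg 𝒜 A.gr B.gr hN hf hinj (g := φ.toLinearMap ∘ₗ ψ)
    fun d a ha => hφ d _ (hψ d a ha)
  refine ⟨φ.symm.toLinearMap ∘ₗ h, fun d b hb => ?_, LinearMap.ext fun a => ?_⟩
  · have h1 := grHomDeg_symm M.gr N.gr φ hφ (d + g) (h b) (hh d b hb)
    rwa [add_neg_cancel_right] at h1
  · show φ.symm (h (f a)) = ψ a
    rw [show h (f a) = φ (ψ a) from LinearMap.congr_fun hhf a, φ.symm_apply_apply]

variable [LocCoh.IsCohenMacaulayRing R]

/-- If the top local cohomology is *injective the local ring at `m` is Gorenstein. -/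
theorem hasInjectiveDimensionLT_of_starInj [m.toIdeal.IsPrime] {n : ℕ} (hn : m.toIdeal.height = n)
    (I : GrLC.StarInjRes 𝒜 𝒜) (hI : GrLC.IsStarInj 𝒜 (HMod I m n).gr) :
    HasInjectiveDimensionLT (ModuleCat.of (Localization.AtPrime m.toIdeal) (Localization.AtPrime m.toIdeal)) (n + 1) := by
  let B := Localization.AtPrime m.toIdeal
  let S := m.toIdeal.primeCompl
  haveI := LocCoh.IsCohenMacaulayRing.isCohenMacaulayLocalRing_localization (R := R) m.toIdeal
  have hd : ringKrullDim B = n := by
    rw [IsLocalization.AtPrime.ringKrullDim_eq_height m.toIdeal B, hn]; rfl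
  obtain ⟨eH⟩ := exists_topH_equiv (m := m) I n
  have hmap : m.toIdeal.map (algebraMap R B) = IsLocalRing.maximalIdeal B := Localization.AtPrime.map_eq_maximalIdeal
  haveI : Subsingleton (Abelian.Ext.{u} (ModuleCat.of B (IsLocalRing.ResidueField B))
      (ModuleCat.of B (LocalizedModule S (HMod I m n).carrier)) 1) := by
    haveI := subsingleton_ext_localized m.toIdeal m.toIdeal 𝒜 m.isHomogeneous (X := HMod I m n) hI 0
    have e : Quo m.toIdeal m.toIdeal ≃ₗ[B] IsLocalRing.ResidueField B :=
      Submodule.quotEquivOfEq _ _ Localization.AtPrime.map_eq_maximalIdeal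
    exact GorLib.ext_subsingleton_of_iso e.toModuleIso _ 1
  have htor : ∀ x : LocalizedModule S (HMod I m n).carrier, ∃ N : ℕ,
      ∀ b ∈ IsLocalRing.maximalIdeal B ^ N, b • x = 0 := fun x => by
    induction x using LocalizedModule.induction_on with
    | h y t =>
      obtain ⟨N, hN⟩ := hmod_torsion I m n y
      refine ⟨N, fun b hb => ?_⟩
      rw [← hmap, ← Ideal.map_pow] at hb
      induction hb using Submodule.span_induction with
      | mem b hb =>
        obtain ⟨r, hr, rfl⟩ := hb
        rw [algebraMap_smul, LocalizedModule.smul'_mk, hN r hr, LocalizedModule.zero_mk]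
      | zero => exact zero_smul B _
      | add a b _ _ ha hb => rw [add_smul, ha, hb, add_zero]
      | smul c a _ ha => rw [smul_assoc, ha, smul_zero]
  haveI hinjn : Module.Injective B (LocalizedModule S (I.H m n)) := injective_of_ext_one (hext := ‹_›) htor
  have hinj : ∀ j, Module.Injective B ((localCohomology (IsLocalRing.maximalIdeal B) j).obj (ModuleCat.of B B) : Type u) := by
    intro j
    by_cases hj : j = n
    · subst hj
      exact InjHullLib.injective_of_retract eH.symm.toLinearMap eH.toLinearMap (LinearMap.ext fun z => eH.apply_symm_apply z)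
    · haveI : Subsingleton ((localCohomology (IsLocalRing.maximalIdeal B) j).obj (ModuleCat.of B B) : Type u) := by
        rcases Nat.lt_or_ge j n with h | h
        · exact (GorLib.natCast_le_depth_iff_subsingleton_H B n).mp (CanonLib.depth_self_eq hd).ge j h
        · exact LocCohLib.cdLE_of_ringKrullDim_local _ n hd.le B j (by omega)
      exact ⟨fun _ _ _ _ _ _ _ _ _ => ⟨0, fun _ => Subsingleton.elim _ _⟩⟩
  exact GorLib.hasInjectiveDimensionLT_of_residueField _ n fun i hi =>
    GorLib.subsingleton_ext_of_H_injective n B hinj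
      (fun j hj => LocCohLib.cdLE_of_ringKrullDim_local _ n hd.le B j hj) i hi

end Groth.Agent.GrCoreLib
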