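import Mathlib
import Groth.Agent.GrCoreLib.Acyclic
import Groth.Agent.GrCoreLib.Coarse

/-! Veronese submodules of graded modules. -/

set_option autoImplicit false
set_option linter.style.haveILetI false
set_option linter.unusedSectionVars false
universe u

open DirectSum GrInjLib Groth.Agent.LocCohLib

namespace Groth.Agent.GrCoreLib

variable {R : Type u} [CommRing R] (𝒜 : ℤ → AddSubgroup R) [GradedRing 𝒜]
  {R' : Type u} [CommRing R'] (𝒜' : ℤ → AddSubgroup R') [GradedRing 𝒜'] (φ : R' →+* R) (q : ℕ)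

/-- `R'` maps onto the Veronese pieces. -/
structure IsVeronese : Prop where
  q_pos : 0 < q
  inj : Function.Injective φ
  hdeg : ∀ j : ℤ, (𝒜' j).map (φ : R' →+ R) = 𝒜 (j * q)

variable {𝒜 𝒜' φ q} (hV : IsVeronese 𝒜 𝒜' φ q) (X : GrLC.GMod.{u} 𝒜)

include hV

theorem IsVeronese.map_mem {j : ℤ} {a : R'} (ha : a ∈ 𝒜' j) : φ a ∈ 𝒜 (j * q) := by
  rw [← hV.hdeg j]
  exact ⟨a, ha, rfl⟩

theorem IsVeronese.exists_preimage {j : ℤ} {x : R} (hx : x ∈ 𝒜 (j * q)) : ∃ a ∈ 𝒜' j, φ a = x := by
  rw [← hV.hdeg j] at hx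
  exact hx

/-- The selection of the degrees divisible by `q` commutes with `R'`. -/
theorem IsVeronese.sel_smul (a : R') (x : X.carrier) :
    sel X.gr (fun g => (q : ℤ) ∣ g) (φ a • x) = φ a • sel X.gr (fun g => (q : ℤ) ∣ g) x := by
  induction a using smul_induction 𝒜' with
  | h0 => rw [map_zero, zero_smul, map_zero, zero_smul]
  | hadd r s hr hs => rw [map_add, add_smul, map_add, hr, hs, add_smul]
  | hhom e a ha =>
    refine ext_proj X.gr fun g => ?_
    obtain ⟨h, rfl⟩ : ∃ h, g = e * q + h := ⟨g - e * q, by ring⟩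
    rw [proj_smul 𝒜 X.gr (hV.map_mem ha)]
    by_cases hd : (q : ℤ) ∣ h
    · rw [proj_sel_pos X.gr _ (P := fun g : ℤ => (q : ℤ) ∣ g) (dvd_add (dvd_mul_left _ _) hd),
        proj_sel_pos X.gr x (P := fun g : ℤ => (q : ℤ) ∣ g) hd, proj_smul 𝒜 X.gr (hV.map_mem ha)]
    · rw [proj_sel_neg X.gr _ (P := fun g : ℤ => (q : ℤ) ∣ g)
          (fun h' => hd ((dvd_add_right (dvd_mul_left _ _)).1 h')),
        proj_sel_neg X.gr x (P := fun g : ℤ => (q : ℤ) ∣ g) hd, smul_zero]

/-- The elements with components in degrees divisible by `q`. -/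
noncomputable def verSub (_hV : IsVeronese 𝒜 𝒜' φ q) (X : GrLC.GMod.{u} 𝒜) : AddSubgroup X.carrier where
  carrier := {x | sel X.gr (fun g => (q : ℤ) ∣ g) x = x}
  zero_mem' := map_zero _
  add_mem' := fun {x y} (hx : _ = x) (hy : _ = y) => show _ = x + y by rw [map_add, hx, hy]
  neg_mem' := fun {x} (hx : _ = x) => show _ = -x by rw [map_neg, hx]

theorem mem_verSub_of_mem {g : ℤ} {x : X.carrier} (hx : x ∈ X.gr g) (hg : (q : ℤ) ∣ g) :
    x ∈ verSub hV X := by
  refine ext_proj X.gr fun h => ?_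
  by_cases hd : (q : ℤ) ∣ h
  · exact proj_sel_pos X.gr x hd
  · rw [proj_sel_neg X.gr x (P := fun g : ℤ => (q : ℤ) ∣ g) hd,
      proj_of_mem_ne X.gr hx (show g ≠ h from fun e => hd (e ▸ hg))]

theorem proj_eq_zero_of_mem_verSub {g : ℤ} {x : X.carrier} (hx : x ∈ verSub hV X)
    (hg : ¬ (q : ℤ) ∣ g) : proj X.gr g x = 0 := by
  rw [← (hx : sel X.gr (fun g => (q : ℤ) ∣ g) x = x), proj_sel_neg X.gr x (P := fun g : ℤ => (q : ℤ) ∣ g) hg]

/-- The `R'`-action on the Veronese submodule. -/
@[reducible] noncomputable def verModule : Module R' ↥(verSub hV X) where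
  smul r x := ⟨φ r • x.1, (hV.sel_smul X r x.1).trans (by rw [x.2])⟩
  one_smul x := Subtype.ext (show φ 1 • x.1 = x.1 by rw [map_one, one_smul])
  mul_smul r s x := Subtype.ext (show φ (r * s) • x.1 = φ r • φ s • x.1 by rw [map_mul, mul_smul])
  smul_zero r := Subtype.ext (smul_zero _)
  smul_add r x y := Subtype.ext (smul_add _ _ _)
  add_smul r s x := Subtype.ext (show φ (r + s) • x.1 = φ r • x.1 + φ s • x.1 by rw [map_add, add_smul])
  zero_smul x := Subtype.ext (show φ 0 • x.1 = 0 by rw [map_zero, zero_smul])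

/-- The pieces of the Veronese submodule. -/
noncomputable def verPieces (j : ℤ) : AddSubgroup ↥(verSub hV X) :=
  (X.gr (j * q)).comap (verSub hV X).subtype

theorem verPieces_isInternal : DirectSum.IsInternal (verPieces hV X) := by
  classical
  have hq : (q : ℤ) ≠ 0 := by exact_mod_cast hV.q_pos.ne'
  refine isInternal_of_proj _ (fun j => ((proj X.gr (j * q)).comp (verSub hV X).subtype).codRestrict _
    fun x => mem_verSub_of_mem hV X (proj_mem _ _ _) (dvd_mul_left _ _)) ?_ ?_ ?_
  · exact fun g x hx => Subtype.ext (proj_of_mem X.gr hx)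
  · exact fun g h hne x hx => Subtype.ext (proj_of_mem_ne X.gr hx fun e => hne (mul_right_cancel₀ hq e))
  · intro x
    have : x = ∑ g ∈ DFinsupp.support (decompose X.gr x.1), if h : (q : ℤ) ∣ g then
        (⟨proj X.gr g x.1, mem_verSub_of_mem hV X (proj_mem _ _ _) h⟩ : ↥(verSub hV X)) else 0 := by
      refine Subtype.ext ?_
      rw [AddSubmonoidClass.coe_finsetSum]
      conv_lhs => rw [← DirectSum.sum_support_decompose X.gr x.1]
      refine Finset.sum_congr rfl fun g _ => ?_
      by_cases h : (q : ℤ) ∣ g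
      · rw [dif_pos h]; rfl
      · rw [dif_neg h]
        exact proj_eq_zero_of_mem_verSub hV X x.2 h
    rw [this]
    refine sum_mem fun g _ => ?_
    by_cases h : (q : ℤ) ∣ g
    · rw [dif_pos h]
      obtain ⟨j, rfl⟩ := h
      refine AddSubgroup.mem_iSup_of_mem j ?_
      show proj X.gr ((q : ℤ) * j) x.1 ∈ X.gr (j * q)
      rw [mul_comm j]
      exact proj_mem _ _ _
    · rw [dif_neg h]; exact zero_mem _

/-- The Veronese submodule as a graded `R'`-module. -/
noncomputable def verG : GrLC.GMod.{u} 𝒜' :=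
  letI := verModule hV X
  { carrier := ↥(verSub hV X)
    gr := verPieces hV X
    dec := (verPieces_isInternal hV X).chooseDecomposition
    gsmul := ⟨fun {a b r x} hr hx => by
      show φ r • x.1 ∈ X.gr ((a + b) * q)
      rw [add_mul]
      exact smul_mem 𝒜 X.gr (hV.map_mem hr) hx⟩ }

/-- The inclusion of the Veronese submodule. -/
noncomputable def verVal : (verG hV X).carrier →ₛₗ[φ] X.carrier where
  toFun x := Subtype.val (x : ↥(verSub hV X))
  map_add' _ _ := rfl
  map_smul' _ _ := rfl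

theorem verVal_injective : Function.Injective (verVal hV X) := Subtype.val_injective

theorem mem_verG_gr {j : ℤ} {x : (verG hV X).carrier} :
    x ∈ (verG hV X).gr j ↔ verVal hV X x ∈ X.gr (j * q) := Iff.rfl

theorem verVal_mem (x : (verG hV X).carrier) : verVal hV X x ∈ verSub hV X :=
  Subtype.property (p := fun y => y ∈ verSub hV X) x

/-- An element of the Veronese submodule. -/
noncomputable def verMk (x : X.carrier) (hx : x ∈ verSub hV X) : (verG hV X).carrier := (⟨x, hx⟩ : ↥(verSub hV X))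

@[simp] theorem verVal_verMk (x : X.carrier) (hx : x ∈ verSub hV X) : verVal hV X (verMk hV X x hx) = x := rfl

/-- The projection to the Veronese submodule. -/
theorem exists_verVal_eq (x : X.carrier) :
    ∃ y : (verG hV X).carrier, verVal hV X y = sel X.gr (fun g => (q : ℤ) ∣ g) x :=
  ⟨verMk hV X _ (show sel X.gr _ (sel X.gr _ x) = _ by
    rw [sel_sel]; exact sel_congr X.gr (fun g => and_self_iff) x), rfl⟩

variable {X} {X₂ : GrLC.GMod.{u} 𝒜}

theorem sel_map {f : X.carrier →ₗ[R] X₂.carrier} (hf : GrLC.IsGrHom X.gr X₂.gr f) (P : ℤ → Prop)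
    (x : X.carrier) : sel X₂.gr P (f x) = f (sel X.gr P x) := by
  refine ext_proj X₂.gr fun g => ?_
  rw [proj_map₀ X.gr X₂.gr hf]
  by_cases h : P g
  · rw [proj_sel_pos X₂.gr _ h, proj_sel_pos X.gr _ h, proj_map₀ X.gr X₂.gr hf]
  · rw [proj_sel_neg X₂.gr _ h, proj_sel_neg X.gr _ h, map_zero]

/-- The functoriality of the Veronese submodule. -/
noncomputable def verMap (f : X.carrier →ₗ[R] X₂.carrier) (hf : GrLC.IsGrHom X.gr X₂.gr f) :
    (verG hV X).carrier →ₗ[R'] (verG hV X₂).carrier where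
  toFun x := verMk hV X₂ (f (verVal hV X x))
    ((sel_map hV hf _ _).trans (by rw [show sel X.gr (fun g => (q : ℤ) ∣ g) (verVal hV X x) = _ from verVal_mem hV X x]))
  map_add' x y := verVal_injective hV X₂ (by simp)
  map_smul' r x := verVal_injective hV X₂ (by simp [LinearMap.map_smulₛₗ])

@[simp] theorem verVal_verMap (f : X.carrier →ₗ[R] X₂.carrier) (hf : GrLC.IsGrHom X.gr X₂.gr f)
    (x : (verG hV X).carrier) : verVal hV X₂ (verMap hV f hf x) = f (verVal hV X x) := rfl

variable (X) in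
/-- Torsion in the Veronese submodule is torsion for the extended ideal. -/
theorem mem_gam_verG (J : Ideal R') (x : (verG hV X).carrier) :
    x ∈ GrLC.gam J (verG hV X).carrier ↔ verVal hV X x ∈ GrLC.gam (J.map φ) X.carrier := by
  constructor
  · rintro ⟨n, hn⟩
    refine ⟨n, fun b hb => ?_⟩
    rw [← Ideal.map_pow, Ideal.map] at hb
    induction hb using Submodule.span_induction with
    | mem y hy =>
      obtain ⟨a, ha, rfl⟩ := hy
      rw [← LinearMap.map_smulₛₗ, hn a ha, map_zero]
    | zero => exact zero_smul _ _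
    | add y z _ _ hy hz => rw [add_smul, hy, hz, add_zero]
    | smul c y _ hy => rw [smul_eq_mul, mul_smul, hy, smul_zero]
  · rintro ⟨n, hn⟩
    refine ⟨n, fun a ha => verVal_injective hV X ?_⟩
    rw [LinearMap.map_smulₛₗ, map_zero]
    exact hn _ (by rw [← Ideal.map_pow]; exact Ideal.mem_map_of_mem _ ha)

omit hV in
theorem map_homogeneous_ideal (hV : IsVeronese 𝒜 𝒜' φ q) {s : Set R'}
    (hs : s ⊆ {x : R' | SetLike.IsHomogeneousElem 𝒜' x}) :
    ((Ideal.span s).map φ).IsHomogeneous 𝒜 := by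
  rw [Ideal.map_span]
  refine Ideal.homogeneous_span 𝒜 _ ?_
  rintro _ ⟨x, hx, rfl⟩
  obtain ⟨j, hj⟩ := hs hx
  exact ⟨j * q, hV.map_mem hj⟩

variable (X) in
/-- The Veronese submodule of a *injective module is flasque for homogeneous elements. -/
theorem setFlasque_verG [IsNoetherianRing R] (hX : GrLC.IsStarInj 𝒜 X.gr) :
    SetFlasque {x : R' | SetLike.IsHomogeneousElem 𝒜' x} (verG hV X).carrier := by
  intro s hs a ha k
  obtain ⟨e, he⟩ := ha
  let J : HomogeneousIdeal 𝒜 := ⟨(Ideal.span (s : Set R')).map φ, map_homogeneous_ideal hV hs⟩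
  obtain ⟨l, hl⟩ := exists_div_piece 𝒜 X hX J (hV.map_mem he) k
  refine ⟨l, fun z => ?_⟩
  set z₀ := verVal hV X z.1 with hz₀
  have hzJ : z₀ ∈ GrLC.gam J.toIdeal X.carrier := (mem_gam_verG hV X _ z.1).1 z.2
  have hzg : ∀ g, proj X.gr g z₀ ∈ GrLC.gam J.toIdeal X.carrier :=
    fun g => mem_homogeneous X.gr (gam_homogeneous X.gr J) hzJ g
  choose w hw1 hw2 hw3 using fun g => hl g _ (proj_mem X.gr g z₀) (hzg g)
  classical
  let T := DFinsupp.support (decompose X.gr z₀)
  have hT : ∀ g ∈ T, (q : ℤ) ∣ g - k • (e * q) := fun g hg => by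
    refine dvd_sub ?_ (by rw [nsmul_eq_mul]; exact dvd_mul_of_dvd_right (dvd_mul_left _ _) _)
    by_contra h
    exact DFinsupp.mem_support_iff.1 hg (Subtype.ext (proj_eq_zero_of_mem_verSub hV X (verVal_mem hV X z.1) h))
  have hmem : (∑ g ∈ T, w g) ∈ verSub hV X :=
    sum_mem fun g hg => mem_verSub_of_mem hV X (hw1 g) (hT g hg)
  refine ⟨⟨verMk hV X _ hmem, (mem_gam_verG hV X _ _).2 (Submodule.sum_mem _ fun g _ => hw2 g)⟩,
    Subtype.ext (verVal_injective hV X ?_)⟩
  show verVal hV X (a ^ l • (a ^ k • verMk hV X _ hmem - z.1)) = verVal hV X 0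
  rw [map_zero, LinearMap.map_smulₛₗ, map_sub, LinearMap.map_smulₛₗ, verVal_verMk, map_pow, map_pow, ← hz₀]
  conv_lhs => arg 2; arg 2; rw [← DirectSum.sum_support_decompose X.gr z₀]
  rw [Finset.smul_sum, ← Finset.sum_sub_distrib, Finset.smul_sum]
  exact Finset.sum_eq_zero fun g _ => hw3 g

/-- A Veronese subring of a Noetherian ring is Noetherian. -/
theorem isNoetherianRing_of_veronese [IsNoetherianRing R] : IsNoetherianRing R' := by
  let X : GrLC.GMod.{u} 𝒜 := GrLC.GMod.of 𝒜 R 𝒜
  have hfix : ∀ a : R', sel X.gr (fun g => (q : ℤ) ∣ g) (φ a) = φ a := by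
    intro a
    induction a using smul_induction 𝒜' with
    | h0 => rw [map_zero]; exact map_zero _
    | hadd r s hr hs => rw [map_add]; exact (map_add _ _ _).trans (by rw [hr, hs]; rfl)
    | hhom e a ha => exact mem_verSub_of_mem hV X (hV.map_mem ha) (dvd_mul_left _ _)
  have hsurj : ∀ x : R, ∃ a : R', φ a = sel X.gr (fun g => (q : ℤ) ∣ g) x := by
    intro x
    induction x using smul_induction 𝒜 with
    | h0 => exact ⟨0, by rw [map_zero]; exact (map_zero _).symm⟩
    | hadd r s hr hs =>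
      obtain ⟨a, ha⟩ := hr
      obtain ⟨b, hb⟩ := hs
      exact ⟨a + b, by rw [map_add, ha, hb]; exact (map_add _ _ _).symm⟩
    | hhom e r hr =>
      by_cases hd : (q : ℤ) ∣ e
      · obtain ⟨j, rfl⟩ := hd
        obtain ⟨a, -, ha⟩ := hV.exists_preimage (j := j) (x := r) (by rwa [mul_comm])
        exact ⟨a, ha.trans (mem_verSub_of_mem hV X hr (dvd_mul_right _ _)).symm⟩
      · refine ⟨0, ?_⟩
        rw [map_zero]
        refine (ext_proj X.gr fun g => ?_).symm
        by_cases hg : (q : ℤ) ∣ g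
        · rw [proj_sel_pos X.gr (r : X.carrier) (P := fun g : ℤ => (q : ℤ) ∣ g) hg]
          exact (proj_of_mem_ne X.gr (x := (r : X.carrier)) hr fun h => hd (h ▸ hg)).trans (map_zero (proj X.gr g)).symm
        · rw [proj_sel_neg X.gr (r : X.carrier) (P := fun g : ℤ => (q : ℤ) ∣ g) hg]
          exact (map_zero (proj X.gr g)).symm
  have key : ∀ I : Ideal R', (I.map φ).comap φ = I := by
    refine fun I => le_antisymm (fun b hb => ?_) Ideal.le_comap_map
    have : ∀ x ∈ I.map φ, ∀ r : R, ∀ a, φ a = sel X.gr (fun g => (q : ℤ) ∣ g) (r * x) → a ∈ I := by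
      intro x hx
      induction hx using Submodule.span_induction with
      | mem y hy =>
        obtain ⟨c, hc, rfl⟩ := hy
        intro r a ha
        obtain ⟨r', hr'⟩ := hsurj r
        have : a = c * r' := hV.inj (by
          rw [ha, map_mul, hr', mul_comm]
          exact hV.sel_smul X c r)
        rw [this]
        exact Ideal.mul_mem_right _ _ hc
      | zero =>
        intro r a ha
        rw [mul_zero] at ha
        rw [hV.inj (ha.trans ((map_zero _).trans (map_zero φ).symm))]
        exact zero_mem _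
      | add y z _ _ hy hz =>
        intro r a ha
        obtain ⟨a₁, h₁⟩ := hsurj (r * y)
        obtain ⟨a₂, h₂⟩ := hsurj (r * z)
        have : a = a₁ + a₂ := hV.inj (by
          rw [ha, map_add, h₁, h₂, mul_add]
          exact map_add _ _ _)
        rw [this]
        exact add_mem (hy r a₁ h₁) (hz r a₂ h₂)
      | smul c y _ hy =>
        intro r a ha
        exact hy (r * c) a (by rw [ha, smul_eq_mul, mul_assoc])
    exact this (φ b) hb 1 b (by rw [one_mul, hfix])
  exact isNoetherian_iff'.2 (StrictMono.wellFoundedGT (f := fun I : Ideal R' => I.map φ)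
    (Monotone.strictMono_of_injective (fun I J h => Ideal.map_mono h)
      fun I J h => by rw [← key I, ← key J]; exact congrArg (Ideal.comap φ) h))

end Groth.Agent.GrCoreLib
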