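import Mathlib
import Groth.Agent.GrCoreLib.Veronese

/-! Graded local cohomology of Veronese submodules. -/

set_option autoImplicit false
set_option linter.style.haveILetI false
set_option linter.unusedSectionVars false
universe u

open DirectSum GrInjLib

namespace Groth.Agent.GrCoreLib

variable {R : Type u} [CommRing R] {𝒜 : ℤ → AddSubgroup R} [GradedRing 𝒜]
  {R' : Type u} [CommRing R'] {𝒜' : ℤ → AddSubgroup R'} [GradedRing 𝒜'] {φ : R' →+* R} {q : ℕ}
  {M : Type u} [AddCommGroup M] [Module R M] {ℳ : ℤ → AddSubgroup M} [Decomposition ℳ]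
  [SetLike.GradedSMul 𝒜 ℳ]
  {M' : Type u} [AddCommGroup M'] [Module R' M'] {ℳ' : ℤ → AddSubgroup M'} [Decomposition ℳ']
  [SetLike.GradedSMul 𝒜' ℳ']

/-- Ideals between an ideal and its radical have the same torsion. -/
theorem gam_eq_of_radical [IsNoetherianRing R] {I J : Ideal R} (h : I ≤ J) (h' : J ≤ I.radical)
    (X : Type u) [AddCommGroup X] [Module R X] : GrLC.gam I X = GrLC.gam J X := by
  refine le_antisymm ?_ fun x ⟨n, hn⟩ => ⟨n, fun r hr => hn r (Ideal.pow_right_mono h n hr)⟩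
  rintro x ⟨n, hn⟩
  obtain ⟨N, hN⟩ := Ideal.exists_pow_le_of_le_radical_of_fg h' (IsNoetherian.noetherian J)
  refine ⟨N * n, fun r hr => hn r ?_⟩
  rw [pow_mul] at hr
  exact Ideal.pow_right_mono hN n hr

variable (hV : IsVeronese 𝒜 𝒜' φ q) (E : GrLC.StarInjRes 𝒜 ℳ) (g : M' →ₛₗ[φ] M)
  (hg : Function.Injective g) (hgdeg : ∀ j : ℤ, (ℳ' j).map (g : M' →+ M) = ℳ (j * q))

include hV hgdeg in
theorem g_mem_verSub (x : M') : E.ε (g x) ∈ verSub hV (E.X 0) := by
  induction x using DirectSum.Decomposition.inductionOn ℳ' with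
  | zero => rw [map_zero, map_zero]; exact zero_mem _
  | @homogeneous j x =>
    refine mem_verSub_of_mem hV (E.X 0) (E.ε_grHom _ _ ?_) (dvd_mul_left _ j)
    rw [← hgdeg j]
    exact ⟨x, x.2, rfl⟩
  | add a b ha hb => rw [map_add, map_add]; exact add_mem ha hb

include hgdeg in
theorem sel_mem_range_g (x : M) : sel ℳ (fun g => (q : ℤ) ∣ g) x ∈ Set.range g := by
  classical
  induction x using DirectSum.Decomposition.inductionOn ℳ with
  | zero => exact ⟨0, by rw [map_zero, map_zero]⟩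
  | @homogeneous i x =>
    by_cases h : (q : ℤ) ∣ i
    · obtain ⟨j, rfl⟩ := h
      obtain ⟨y, -, hy⟩ : (x : M) ∈ (ℳ' j).map (g : M' →+ M) := by
        rw [hgdeg j, mul_comm]; exact x.2
      refine ⟨y, hy.trans (ext_proj ℳ fun l => ?_).symm⟩
      by_cases hl : (q : ℤ) ∣ l
      · exact proj_sel_pos ℳ _ hl
      · rw [proj_sel_neg ℳ _ (P := fun g : ℤ => (q : ℤ) ∣ g) hl,
          proj_of_mem_ne ℳ x.2 (show (q : ℤ) * j ≠ l from fun e => hl (e ▸ dvd_mul_right _ _))]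
    · refine ⟨0, ?_⟩
      rw [map_zero]
      refine (ext_proj ℳ fun l => ?_).symm
      rw [map_zero]
      by_cases hl : (q : ℤ) ∣ l
      · rw [proj_sel_pos ℳ _ (P := fun g : ℤ => (q : ℤ) ∣ g) hl]
        exact proj_of_mem_ne ℳ x.2 fun e => h (e ▸ hl)
      · exact proj_sel_neg ℳ _ hl
  | add a b ha hb =>
    obtain ⟨y, hy⟩ := ha
    obtain ⟨z, hz⟩ := hb
    exact ⟨y + z, by rw [map_add, map_add, hy, hz]⟩

/-- The Veronese submodules of a resolution. -/
noncomputable def verRes : GrRes 𝒜' ℳ' where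
  X n := verG hV (E.X n)
  d n := verMap hV (E.d n) (E.d_grHom n)
  ε :=
    { toFun := fun x => verMk hV (E.X 0) (E.ε (g x)) (g_mem_verSub hV E g hgdeg x)
      map_add' := fun x y => verVal_injective hV _ (by simp)
      map_smul' := fun r x => verVal_injective hV _ (by simp [LinearMap.map_smulₛₗ]) }
  d_grHom n j x hx := (mem_verG_gr hV _).2 (E.d_grHom n _ _ hx)
  ε_grHom j x hx := (mem_verG_gr hV _).2 (E.ε_grHom _ _ (by
    rw [← hgdeg j]
    exact ⟨x, hx, rfl⟩))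
  ε_injective x y h := hg (E.ε_injective (congrArg (verVal hV (E.X 0)) h))
  exact_zero := by
    ext y
    constructor
    · intro hy
      have h0 : E.d 0 (verVal hV (E.X 0) y) = 0 := congrArg (verVal hV (E.X 1)) hy
      rw [← LinearMap.mem_ker, E.exact_zero] at h0
      obtain ⟨m, hm⟩ := h0
      obtain ⟨x, hx⟩ := sel_mem_range_g g hgdeg m
      refine ⟨x, verVal_injective hV _ ?_⟩
      show E.ε (g x) = verVal hV (E.X 0) y
      rw [hx, ← show sel (E.X 0).gr (fun g => (q : ℤ) ∣ g) (verVal hV (E.X 0) y) = _ from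
        verVal_mem hV _ y, ← hm]
      exact (sel_map (X := GrLC.GMod.of 𝒜 M ℳ) hV E.ε_grHom _ m).symm
    · rintro ⟨x, rfl⟩
      refine verVal_injective hV _ ?_
      exact ((SetLike.ext_iff.1 E.exact_zero _).2 ⟨g x, rfl⟩ : E.d 0 (E.ε (g x)) = 0).trans (map_zero _).symm
  exact_succ n := by
    ext y
    constructor
    · intro hy
      have h0 : E.d (n + 1) (verVal hV (E.X (n + 1)) y) = 0 := congrArg (verVal hV (E.X (n + 2))) hy
      rw [← LinearMap.mem_ker, E.exact_succ] at h0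
      obtain ⟨m, hm⟩ := h0
      obtain ⟨z, hz⟩ := exists_verVal_eq hV (E.X n) m
      refine ⟨z, verVal_injective hV _ ?_⟩
      rw [verVal_verMap, hz, ← sel_map hV (E.d_grHom n), hm]
      exact verVal_mem hV _ y
    · rintro ⟨z, rfl⟩
      exact verVal_injective hV _ ((GrInjLib.d_comp_d E n (verVal hV _ z)).trans (map_zero _).symm)

include hV hg hgdeg in
/-- Graded local cohomology commutes with the Veronese functor. -/
theorem exists_veronese_H [IsNoetherianRing R] {m : HomogeneousIdeal 𝒜} {m' : HomogeneousIdeal 𝒜'}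
    (hle : m'.toIdeal.map φ ≤ m.toIdeal) (hrad : m.toIdeal ≤ (m'.toIdeal.map φ).radical)
    (F : GrLC.StarInjRes 𝒜' ℳ') (p : ℕ) :
    ∃ Θ : F.H m' p →ₛₗ[φ] E.H m p, Function.Injective Θ ∧
      ∀ j : ℤ, (∀ x ∈ F.Hcomp m' p j, Θ x ∈ E.Hcomp m p (j * q)) ∧
        ∀ y ∈ E.Hcomp m p (j * q), ∃ x ∈ F.Hcomp m' p j, Θ x = y := by
  haveI := isNoetherianRing_of_veronese hV
  let Y := verRes hV E g hg hgdeg
  obtain ⟨s, hs, hspan⟩ : ∃ s : Finset R', (s : Set R') ⊆ {x | SetLike.IsHomogeneousElem 𝒜' x} ∧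
      m'.toIdeal = Ideal.span (s : Set R') := by
    classical
    obtain ⟨t, ht⟩ := IsNoetherian.noetherian m'.toIdeal
    refine ⟨t.biUnion fun x => (DFinsupp.support (decompose 𝒜' x)).image fun i => (decompose 𝒜' x i : R'),
      ?_, le_antisymm ?_ ?_⟩
    · intro y hy
      simp only [Finset.coe_biUnion, Finset.coe_image, Set.mem_iUnion, Set.mem_image] at hy
      obtain ⟨x, -, i, -, rfl⟩ := hy
      exact ⟨i, SetLike.coe_mem _⟩
    · rw [← ht]
      refine Ideal.span_le.2 fun x hx => ?_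
      show x ∈ Ideal.span _
      rw [← DirectSum.sum_support_decompose 𝒜' x]
      refine Ideal.sum_mem _ fun i hi => Ideal.subset_span ?_
      simp only [Finset.coe_biUnion, Finset.coe_image, Set.mem_iUnion, Set.mem_image]
      exact ⟨x, hx, i, hi, rfl⟩
    · refine Ideal.span_le.2 fun y hy => ?_
      simp only [Finset.coe_biUnion, Finset.coe_image, Set.mem_iUnion, Set.mem_image] at hy
      obtain ⟨x, hx, i, -, rfl⟩ := hy
      exact m'.isHomogeneous i (ht ▸ Ideal.subset_span hx)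
  obtain ⟨ψ, hψg, hψc, hψb, hψs⟩ := exists_compare Y F m' (le_refl _) s hs hspan
    (fun n => setFlasque_verG hV (E.X n) (E.starInj n))
  have hgam : ∀ n (y : (verG hV (E.X n)).carrier), y ∈ GrLC.gam m'.toIdeal (verG hV (E.X n)).carrier ↔
      verVal hV (E.X n) y ∈ GrLC.gam m.toIdeal (E.X n).carrier := fun n y => by
    rw [mem_gam_verG, gam_eq_of_radical hle hrad]
  have hcoc : ∀ n, ∀ y ∈ Y.cocyc m' n, verVal hV (E.X n) y ∈ E.cocyc m n := fun n y hy =>
    ⟨(hgam n y).1 hy.1, congrArg (verVal hV (E.X (n + 1))) hy.2⟩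
  let A : ↥(Y.cocyc m' p) →ₗ[R'] F.H m' p :=
    F.toH m' p ∘ₗ (ψ p ∘ₗ (Y.cocyc m' p).subtype).codRestrict _ fun y => hψc p y y.2
  let B : ↥(Y.cocyc m' p) →ₛₗ[φ] E.H m p :=
    (E.toH m p).comp (((verVal hV (E.X p)).comp (Y.cocyc m' p).subtype).codRestrict _
      fun y => hcoc p y y.2)
  have hA : Function.Surjective A := by
    intro x
    obtain ⟨f, rfl⟩ := Submodule.mkQ_surjective _ x
    classical
    have hf : ∀ i, proj (F.X p).gr i f.1 ∈ F.cocyc m' p :=
      fun i => mem_homogeneous _ (cocyc_homogeneous F m' p) f.2 i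
    choose y hy1 hy2 hy3 using fun i => hψs p i _ (hf i) (proj_mem _ i f.1)
    refine ⟨⟨∑ i ∈ DFinsupp.support (decompose (F.X p).gr f.1), y i, Submodule.sum_mem _ fun i _ => hy1 i⟩, ?_⟩
    symm
    refine (Submodule.Quotient.eq _).2 ?_
    show f.1 - ψ p (∑ i ∈ DFinsupp.support (decompose (F.X p).gr f.1), y i) ∈ F.cobdy m' p
    nth_rw 1 [← DirectSum.sum_support_decompose (F.X p).gr f.1]
    rw [map_sum, ← Finset.sum_sub_distrib]
    exact Submodule.sum_mem _ fun i _ => hy3 i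
  have hker : ∀ y : ↥(Y.cocyc m' p), A y = 0 ↔ B y = 0 := by
    intro y
    have h1 : A y = 0 ↔ y.1 ∈ Y.cobdy m' p :=
      (Submodule.Quotient.mk_eq_zero _).trans (hψb p y y.2)
    have h2 : B y = 0 ↔ verVal hV (E.X p) y.1 ∈ E.cobdy m p := Submodule.Quotient.mk_eq_zero _
    rw [h1, h2]
    cases p with
    | zero =>
      show y.1 = 0 ↔ verVal hV (E.X 0) y.1 = 0
      exact ⟨fun h => by rw [h]; exact map_zero _, fun h => verVal_injective hV _ (h.trans (map_zero _).symm)⟩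
    | succ n =>
      constructor
      · rintro ⟨w, hw, hwe⟩
        exact ⟨verVal hV _ w, (hgam n w).1 hw, congrArg (verVal hV (E.X (n + 1))) hwe⟩
      · rintro ⟨w, hw, hwe⟩
        obtain ⟨z, hz⟩ := exists_verVal_eq hV (E.X n) w
        refine ⟨z, (hgam n z).2 ?_, verVal_injective hV _ ?_⟩
        · rw [hz]
          refine mem_of_proj_mem (E.X n).gr fun i => ?_
          by_cases hd : (q : ℤ) ∣ i
          · rw [proj_sel_pos _ _ (P := fun g : ℤ => (q : ℤ) ∣ g) hd]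
            exact mem_homogeneous _ (gam_homogeneous _ m) hw i
          · rw [proj_sel_neg _ _ (P := fun g : ℤ => (q : ℤ) ∣ g) hd]
            exact zero_mem _
        · show E.d n (verVal hV _ z) = _
          rw [hz, ← sel_map hV (E.d_grHom n), hwe]
          exact verVal_mem hV _ _
  let Θ : F.H m' p →ₛₗ[φ] E.H m p :=
    ((LinearMap.ker A).liftQ B fun y hy => (hker y).1 hy).comp (A.quotKerEquivOfSurjective hA).symm.toLinearMap
  have hΘ : ∀ y, Θ (A y) = B y := fun y => by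
    simp only [Θ, LinearMap.comp_apply, LinearEquiv.coe_coe]
    rw [show (A.quotKerEquivOfSurjective hA).symm (A y) = Submodule.Quotient.mk y from
      (LinearEquiv.symm_apply_eq _).2 rfl]
    rfl
  refine ⟨Θ, (injective_iff_map_eq_zero _).2 fun x hx => ?_, fun j => ⟨?_, ?_⟩⟩
  · obtain ⟨y, rfl⟩ := hA x
    exact (hker y).2 ((hΘ y).symm.trans hx)
  · rintro _ ⟨f, hf, rfl⟩
    obtain ⟨y, hy1, hy2, hy3⟩ := hψs p j f.1 f.2 hf
    have : F.toH m' p f = A ⟨y, hy1⟩ := (Submodule.Quotient.eq _).2 hy3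
    rw [this, hΘ]
    exact ⟨⟨_, hcoc p y hy1⟩, hy2, rfl⟩
  · rintro _ ⟨z, hz, rfl⟩
    let y := verMk hV (E.X p) z.1 (mem_verSub_of_mem hV _ hz (dvd_mul_left _ j))
    have hy : y ∈ Y.cocyc m' p := ⟨(hgam p y).2 z.2.1, LinearMap.mem_ker.2 (verVal_injective hV _
      ((LinearMap.mem_ker.1 z.2.2).trans (map_zero (verVal hV (E.X (p + 1)))).symm))⟩
    exact ⟨A ⟨y, hy⟩, ⟨⟨ψ p y, hψc p y hy⟩, hψg p j _ ((mem_verG_gr hV _).2 hz), rfl⟩, (hΘ ⟨y, hy⟩).trans rfl⟩

include hV in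
/-- The two irrelevant ideals of a Veronese pair. -/
theorem irrelevant_radical {m : Ideal R} {m' : Ideal R'}
    (hm : m = Ideal.span (⋃ n ∈ Set.Ioi (0 : ℤ), (𝒜 n : Set R)))
    (hm' : m' = Ideal.span (⋃ j ∈ Set.Ioi (0 : ℤ), (𝒜' j : Set R'))) :
    m'.map φ ≤ m ∧ m ≤ (m'.map φ).radical := by
  have hq : (0 : ℤ) < q := by exact_mod_cast hV.q_pos
  subst hm hm'
  constructor
  · rw [Ideal.map_span]
    refine Ideal.span_mono ?_
    rintro _ ⟨a, ha, rfl⟩
    obtain ⟨j, hj, haj⟩ := Set.mem_iUnion₂.1 ha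
    exact Set.mem_iUnion₂.2 ⟨j * q, Set.mem_Ioi.2 (mul_pos (Set.mem_Ioi.1 hj) hq), hV.map_mem haj⟩
  · refine Ideal.span_le.2 fun x hx => ?_
    obtain ⟨i, hi, hxi⟩ := Set.mem_iUnion₂.1 hx
    have := SetLike.pow_mem_graded q hxi
    rw [nsmul_eq_mul, mul_comm] at this
    obtain ⟨a, ha, hax⟩ := hV.exists_preimage this
    exact ⟨q, hax ▸ Ideal.mem_map_of_mem φ (Ideal.subset_span (Set.mem_iUnion₂.2 ⟨i, hi, ha⟩))⟩

end Groth.Agent.GrCoreLib
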