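import Mathlib
import Groth.Agent.GrCoreLib.Veronese
import Groth.Agent.GrInjLib.Ext

/-! *Injectivity of Veronese submodules. -/

set_option autoImplicit false
set_option linter.style.haveILetI false
set_option linter.unusedSectionVars false
universe u

open DirectSum GrInjLib

namespace Groth.Agent.GrCoreLib

variable {R : Type u} [CommRing R] {𝒜 : ℤ → AddSubgroup R} [GradedRing 𝒜]
  {R' : Type u} [CommRing R'] {𝒜' : ℤ → AddSubgroup R'} [GradedRing 𝒜'] {φ : R' →+* R} {q : ℕ}
  (hV : IsVeronese 𝒜 𝒜' φ q) (X : GrLC.GMod.{u} 𝒜)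

include hV in
/-- The Veronese submodule of a *injective module is *injective when every element reaches a degree
divisible by `q`. -/
theorem starInj_verG [IsNoetherianRing R] (hX : GrLC.IsStarInj 𝒜 X.gr)
    (hsee : ∀ (g : ℤ), ∀ x ∈ X.gr g, x ≠ 0 → ∃ e, ∃ r ∈ 𝒜 e, r • x ≠ 0 ∧ (q : ℤ) ∣ e + g) :
    GrLC.IsStarInj 𝒜' (verG hV X).gr := by
  classical
  haveI := isNoetherianRing_of_veronese hV
  have hsep : ∀ x : X.carrier, (∀ r : R, sel X.gr (fun g => (q : ℤ) ∣ g) (r • x) = 0) → x = 0 := by
    intro x hx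
    by_contra hne
    obtain ⟨g, hg⟩ := exists_proj_ne X.gr x hne
    obtain ⟨e, r, hr, hrx, hd⟩ := hsee g _ (proj_mem X.gr g x) hg
    refine hrx ?_
    rw [← proj_smul 𝒜 X.gr hr, ← proj_sel_pos X.gr (r • x) (P := fun g : ℤ => (q : ℤ) ∣ g) hd, hx r, map_zero]
  rw [starInj_iff_no_ess]
  intro N f hf y
  by_contra hy
  have hrange := range_homogeneous (verG hV X).gr N.gr ((isGrHom_iff _ _).1 hf.grHom)
  obtain ⟨j, hj⟩ : ∃ j, proj N.gr j y ∉ LinearMap.range f := by
    by_contra h
    push Not at h
    exact hy (mem_of_proj_mem N.gr h)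
  set y₀ := proj N.gr j y
  have hy₀ : y₀ ∈ N.gr j := proj_mem N.gr j y
  let Iy : HomogeneousIdeal 𝒜' := ⟨(LinearMap.range f).comap (LinearMap.toSpanSingleton R' N.carrier y₀), by
    intro i a ha
    have ha' : a • y₀ ∈ LinearMap.range f := ha
    show (decompose 𝒜' a i : R') • y₀ ∈ LinearMap.range f
    have h1 := mem_homogeneous N.gr hrange ha' (i + j)
    rwa [show proj N.gr (i + j) (a • y₀) = (decompose 𝒜' a i : R') • y₀ by
      clear ha' ha h1
      induction a using smul_induction 𝒜' with
      | h0 => simp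
      | hadd r s hr hs =>
        rw [add_smul, map_add, hr, hs, decompose_add, DirectSum.add_apply, AddSubgroup.coe_add, add_smul]
      | hhom b r hr =>
        by_cases e : b = i
        · subst e; rw [proj_of_mem N.gr (smul_mem 𝒜' N.gr hr hy₀), decompose_of_mem_same 𝒜' hr]
        · rw [proj_of_mem_ne N.gr (smul_mem 𝒜' N.gr hr hy₀) (fun h => e (add_right_cancel h)),
            decompose_of_mem_ne 𝒜' hr e, zero_smul]] at h1⟩
  obtain ⟨s, hs, hspan⟩ : ∃ s : Finset R', (s : Set R') ⊆ {x | SetLike.IsHomogeneousElem 𝒜' x} ∧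
      Iy.toIdeal = Ideal.span (s : Set R') := by
    obtain ⟨t, ht⟩ := IsNoetherian.noetherian Iy.toIdeal
    refine ⟨t.biUnion fun x => (DFinsupp.support (decompose 𝒜' x)).image fun i => (decompose 𝒜' x i : R'),
      ?_, le_antisymm ?_ ?_⟩
    · intro z hz
      simp only [Finset.coe_biUnion, Finset.coe_image, Set.mem_iUnion, Set.mem_image] at hz
      obtain ⟨x, -, i, -, rfl⟩ := hz
      exact ⟨i, SetLike.coe_mem _⟩
    · rw [← ht]
      refine Ideal.span_le.2 fun x hx => ?_
      show x ∈ Ideal.span _
      rw [← DirectSum.sum_support_decompose 𝒜' x]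
      refine Ideal.sum_mem _ fun i hi => Ideal.subset_span ?_
      simp only [Finset.coe_biUnion, Finset.coe_image, Set.mem_iUnion, Set.mem_image]
      exact ⟨x, hx, i, hi, rfl⟩
    · refine Ideal.span_le.2 fun z hz => ?_
      simp only [Finset.coe_biUnion, Finset.coe_image, Set.mem_iUnion, Set.mem_image] at hz
      obtain ⟨x, hx, i, -, rfl⟩ := hz
      exact Iy.isHomogeneous i (ht ▸ Ideal.subset_span hx)
  choose d hd using fun c : s => hs c.2
  have hz : ∀ c : s, ∃ z, f z = (c : R') • y₀ := fun c => by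
    have : (c : R') ∈ Iy.toIdeal := hspan.ge (Ideal.subset_span c.2)
    exact this
  choose z hz using hz
  have hzd : ∀ c : s, z c ∈ (verG hV X).gr (d c + j) := fun c => by
    have h1 : f (proj (verG hV X).gr (d c + j) (z c)) = f (z c) := by
      rw [← proj_map₀ (verG hV X).gr N.gr hf.grHom, hz c, proj_of_mem N.gr (smul_mem 𝒜' N.gr (hd c) hy₀)]
    rw [← hf.injective h1]
    exact proj_mem _ _ _
  letI := (free_isInternal 𝒜 (fun c : s => d c * q)).chooseDecomposition
  let F : (s → R) →ₗ[R] R := Fintype.linearCombination R fun c : s => φ c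
  let G : (s → R) →ₗ[R] X.carrier := Fintype.linearCombination R fun c : s => verVal hV X (z c)
  have hF : GrLC.IsGrHom (freePieces 𝒜 (fun c : s => d c * q)) (ringPieces 𝒜) F := fun g v hv => by
    rw [Fintype.linearCombination_apply]
    refine sum_mem fun c _ => ?_
    have := SetLike.GradedMul.mul_mem (A := 𝒜) (hv c) (hV.map_mem (hd c))
    rw [sub_add_cancel] at this
    exact this
  have hG : GrLC.IsGrHomDeg (freePieces 𝒜 (fun c : s => d c * q)) X.gr G (j * q) := fun g v hv => by
    rw [Fintype.linearCombination_apply]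
    refine sum_mem fun c _ => ?_
    have h1 := smul_mem 𝒜 X.gr (hv c) ((mem_verG_gr hV X).1 (hzd c))
    rwa [show g - d c * q + (d c + j) * q = g + j * q by ring] at h1
  obtain ⟨h, hh, hhF⟩ := factor_deg 𝒜 (freePieces 𝒜 (fun c : s => d c * q)) (ringPieces 𝒜) hX hF hG
    (fun v hv => by
      refine hsep _ fun r => ?_
      have hpi : ∀ c : s, ∃ a : R', φ a = sel 𝒜 (fun g => (q : ℤ) ∣ g) (r * v c) := by
        intro c
        have key : ∀ x : R, ∃ a : R', φ a = sel 𝒜 (fun g => (q : ℤ) ∣ g) x := by
          intro x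
          induction x using smul_induction 𝒜 with
          | h0 => exact ⟨0, by rw [map_zero]; exact (map_zero _).symm⟩
          | hadd r s hr hs =>
            obtain ⟨a, ha⟩ := hr
            obtain ⟨b, hb⟩ := hs
            exact ⟨a + b, by rw [map_add, ha, hb]; exact (map_add _ _ _).symm⟩
          | hhom e r hr =>
            by_cases hdv : (q : ℤ) ∣ e
            · obtain ⟨k, rfl⟩ := hdv
              obtain ⟨a, -, ha⟩ := hV.exists_preimage (j := k) (x := r) (by rwa [mul_comm])
              exact ⟨a, ha.trans (mem_verSub_of_mem hV (GrLC.GMod.of 𝒜 R 𝒜) hr (dvd_mul_right _ _)).symm⟩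
            · refine ⟨0, ?_⟩
              rw [map_zero]
              refine (ext_proj 𝒜 fun g => ?_).symm
              by_cases hg : (q : ℤ) ∣ g
              · rw [proj_sel_pos 𝒜 r
                  (P := fun g : ℤ => (q : ℤ) ∣ g) hg]
                exact (proj_of_mem_ne 𝒜 (x := r) hr
                  fun h => hdv (h ▸ hg)).trans (map_zero (proj 𝒜 g)).symm
              · rw [proj_sel_neg 𝒜 r
                  (P := fun g : ℤ => (q : ℤ) ∣ g) hg]
                exact (map_zero (proj 𝒜 g)).symm
        exact key _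
      choose a ha using hpi
      have hsx : ∀ (c : s) (x : R), sel X.gr (fun g => (q : ℤ) ∣ g) (x • verVal hV X (z c)) =
          sel 𝒜 (fun g => (q : ℤ) ∣ g) x • verVal hV X (z c) := by
        intro c x
        induction x using smul_induction 𝒜 with
        | h0 =>
          rw [zero_smul, map_zero, map_zero, zero_smul]
        | hadd r s hr hs =>
          rw [add_smul, map_add, hr, hs, map_add, add_smul]
        | hhom e r hr =>
          have hm := smul_mem 𝒜 X.gr hr ((mem_verG_gr hV X).1 (hzd c))
          by_cases hde : (q : ℤ) ∣ e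
          · rw [show sel 𝒜 (fun g => (q : ℤ) ∣ g) r = r from
              mem_verSub_of_mem hV (GrLC.GMod.of 𝒜 R 𝒜) hr hde]
            exact mem_verSub_of_mem hV X hm (dvd_add hde (dvd_mul_left _ _))
          · have h2 : sel 𝒜 (fun g => (q : ℤ) ∣ g) r = (0 : R) := by
              refine ext_proj 𝒜 fun g => ?_
              by_cases hg : (q : ℤ) ∣ g
              · rw [proj_sel_pos 𝒜 r
                  (P := fun g : ℤ => (q : ℤ) ∣ g) hg]
                exact (proj_of_mem_ne 𝒜 (x := r) hr
                  fun h => hde (h ▸ hg)).trans (map_zero (proj 𝒜 g)).symm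
              · rw [proj_sel_neg 𝒜 r
                  (P := fun g : ℤ => (q : ℤ) ∣ g) hg]
                exact (map_zero (proj 𝒜 g)).symm
            rw [h2, zero_smul]
            refine ext_proj X.gr fun g => ?_
            by_cases hg : (q : ℤ) ∣ g
            · rw [proj_sel_pos X.gr _ (P := fun g : ℤ => (q : ℤ) ∣ g) hg, map_zero]
              exact proj_of_mem_ne X.gr hm fun h => hde ((dvd_add_left (dvd_mul_left _ _)).1 (h ▸ hg))
            · rw [proj_sel_neg X.gr _ (P := fun g : ℤ => (q : ℤ) ∣ g) hg, map_zero]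
      have hsum : ∑ c : s, a c * (c : R') = 0 := hV.inj (by
        rw [map_zero, map_sum]
        have hsl : ∀ c : s, φ (a c * (c : R')) =
            sel 𝒜 (fun g => (q : ℤ) ∣ g) (r * (v c * φ c)) := fun c => by
          rw [map_mul, ha c, mul_comm, show r * (v c * φ c) = φ c • (r * v c) by rw [smul_eq_mul]; ring]
          exact (hV.sel_smul (GrLC.GMod.of 𝒜 R 𝒜) (c : R') (r * v c)).symm
        rw [Finset.sum_congr rfl fun c _ => hsl c]
        refine (map_sum (sel 𝒜 fun g => (q : ℤ) ∣ g)
          (fun c : s => r * (v c * φ c)) Finset.univ).symm.trans ?_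
        have hv' : ∑ c : s, v c * φ c = 0 := by
          simpa [F, Fintype.linearCombination_apply, smul_eq_mul] using hv
        rw [← Finset.mul_sum, hv', mul_zero]
        exact map_zero _)
      rw [Fintype.linearCombination_apply, Finset.smul_sum, map_sum]
      simp only [← mul_smul, hsx, ← ha]
      calc ∑ c : s, φ (a c) • verVal hV X (z c)
          = verVal hV X (∑ c : s, a c • z c) := by
            rw [map_sum]
            exact Finset.sum_congr rfl fun c _ => (LinearMap.map_smulₛₗ _ _ _).symm
        _ = 0 := by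
            rw [show ∑ c : s, a c • z c = 0 from hf.injective (by
              rw [map_sum, map_zero]
              simp only [map_smul, hz, smul_smul, ← Finset.sum_smul, hsum, zero_smul]), map_zero])
  have hh1 : h 1 ∈ X.gr (j * q) := by
    have := hh 0 1 (SetLike.GradedOne.one_mem (A := 𝒜))
    rwa [zero_add] at this
  let x₀ := verMk hV X (h 1) (mem_verSub_of_mem hV X hh1 (dvd_mul_left _ _))
  have hgen : ∀ c : s, (c : R') • x₀ = z c := fun c => verVal_injective hV X (by
    rw [LinearMap.map_smulₛₗ, verVal_verMk, ← map_smul, smul_eq_mul, mul_one]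
    have := LinearMap.congr_fun hhF (Pi.single c 1)
    simpa [F, G, Fintype.linearCombination_apply_single] using this)
  have hall : ∀ a ∈ Iy.toIdeal, a • (y₀ - f x₀) = 0 := by
    intro a ha
    rw [hspan] at ha
    induction ha using Submodule.span_induction with
    | mem c hc => rw [smul_sub, ← map_smul f, show c • x₀ = z ⟨c, hc⟩ from hgen ⟨c, hc⟩, hz ⟨c, hc⟩, sub_self]
    | zero => exact zero_smul _ _
    | add a b _ _ ha hb => rw [add_smul, ha, hb, add_zero]
    | smul r a _ ha => rw [smul_eq_mul, mul_smul, ha, smul_zero]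
  have hne : y₀ - f x₀ ≠ 0 := fun h0 => hj ⟨x₀, (sub_eq_zero.1 h0).symm⟩
  have hmem : y₀ - f x₀ ∈ N.gr j := sub_mem hy₀ (hf.grHom j x₀ ((mem_verG_gr hV X).2 hh1))
  refine hf.essential _ (span_singleton_homogeneous 𝒜' N.gr hmem) (by simpa using hne) ?_
  rw [eq_bot_iff]
  rintro w ⟨hw, hwr⟩
  obtain ⟨a, rfl⟩ := Submodule.mem_span_singleton.1 hw
  refine hall a ?_
  show a • y₀ ∈ LinearMap.range f
  have : a • y₀ = a • (y₀ - f x₀) + f (a • x₀) := by rw [map_smul, smul_sub, sub_add_cancel]
  rw [this]
  exact add_mem hwr ⟨_, rfl⟩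

end Groth.Agent.GrCoreLib
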