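import Mathlib
import Groth.Agent.GrCoreLib.VeroneseCoh
import Groth.Agent.GrCoreLib.VeroneseInj
import Groth.Agent.GrCoreLib.TopInj
import Groth.Agent.GrCoreLib.CanonUnique
import Groth.Agent.GrCoreLib.AInv
import Groth.Agent.GrSegreLib.Dim
import Groth.Agent.GrFieldLib.CM
import Groth.Agent.GrFieldLib.StarLocal

/-! Veronese subrings of Gorenstein graded rings defined over a field. -/

set_option autoImplicit false
set_option linter.style.haveILetI false
set_option linter.unusedSectionVars false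
universe u

open DirectSum GrInjLib CategoryTheory

namespace Groth.Agent.GrCoreLib

variable {R : Type u} [CommRing R] {𝒜 : ℤ → AddSubgroup R} [GradedRing 𝒜]

/-- The irrelevant ideal as a homogeneous ideal. -/
def irrH (𝒜 : ℤ → AddSubgroup R) [GradedRing 𝒜] : HomogeneousIdeal 𝒜 :=
  ⟨GrFieldLib.irr 𝒜, Ideal.homogeneous_span 𝒜 _ fun y hy => by
    obtain ⟨n, -, hn⟩ := Set.mem_iUnion₂.1 hy
    exact ⟨n, hn⟩⟩

/-- Over a field the irrelevant ideal is the *maximal ideal. -/
theorem isStarLocal_irrH (hpos : ∀ n : ℤ, n < 0 → 𝒜 n = ⊥) (h0 : IsField (GrLC.deg0 𝒜)) :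
    GrLC.IsStarLocal 𝒜 (irrH 𝒜) := by
  have hmax := GrFieldLib.irr_isMaximal 𝒜 hpos h0
  have key : ∀ n : HomogeneousIdeal 𝒜, n ≠ ⊤ → n ≤ irrH 𝒜 := by
    intro n hn x hx
    classical
    show x ∈ GrFieldLib.irr 𝒜
    rw [← DirectSum.sum_support_decompose 𝒜 x]
    refine Ideal.sum_mem _ fun i _ => ?_
    rcases lt_trichotomy i 0 with hi | hi | hi
    · have h0i := (decompose 𝒜 x i).2
      simp only [hpos i hi, AddSubgroup.mem_bot] at h0i
      rw [h0i]
      exact zero_mem _
    · subst hi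
      by_cases hz : (⟨_, (decompose 𝒜 x 0).2⟩ : GrLC.deg0 𝒜) = 0
      · rw [show ((decompose 𝒜 x 0 : R)) = 0 from congrArg Subtype.val hz]
        exact zero_mem _
      · obtain ⟨b, hb⟩ := h0.mul_inv_cancel hz
        refine absurd (HomogeneousIdeal.toIdeal_injective ?_) hn
        refine (Ideal.eq_top_iff_one _).2 ?_
        rw [show (1 : R) = (decompose 𝒜 x 0 : R) * (b : R) from (congrArg Subtype.val hb).symm]
        exact Ideal.mul_mem_right _ _ (n.isHomogeneous 0 hx)
    · exact Ideal.subset_span (Set.mem_iUnion₂.2 ⟨i, hi, (decompose 𝒜 x i).2⟩)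
  have hne : irrH 𝒜 ≠ ⊤ := fun h => hmax.ne_top (congrArg HomogeneousIdeal.toIdeal h)
  refine ⟨⟨hne, fun n hn => ?_⟩, fun n hn => ?_⟩
  · by_contra h
    exact hn.not_ge (key n h)
  · exact le_antisymm (key n hn.1) (by
      by_contra h
      exact h ((hn.le_iff.1 (key n hn.1)).elim (fun e => absurd e hne) (fun e => e.le)))

variable {R' : Type u} [CommRing R'] {𝒜' : ℤ → AddSubgroup R'} [GradedRing 𝒜'] {φ : R' →+* R} {q : ℕ}
  (hV : IsVeronese 𝒜 𝒜' φ q)

include hV in
theorem veronese_pos (hpos : ∀ n : ℤ, n < 0 → 𝒜 n = ⊥) (j : ℤ) (hj : j < 0) : 𝒜' j = ⊥ := by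
  rw [eq_bot_iff]
  intro a ha
  have h := hV.map_mem ha
  rw [hpos _ (mul_neg_of_neg_of_pos hj (by exact_mod_cast hV.q_pos)), AddSubgroup.mem_bot] at h
  exact AddSubgroup.mem_bot.2 (hV.inj (h.trans (map_zero φ).symm))

include hV in
theorem veronese_isField (h0 : IsField (GrLC.deg0 𝒜)) : IsField (GrLC.deg0 𝒜') := by
  let i : GrLC.deg0 𝒜' →+* GrLC.deg0 𝒜 := (φ.comp (GrLC.deg0 𝒜').subtype).codRestrict _ fun r => by
    show φ r.1 ∈ 𝒜 0
    have := hV.map_mem r.2
    rwa [zero_mul] at this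
  have hi : Function.Bijective i := ⟨fun r s h => Subtype.ext (hV.inj (congrArg Subtype.val h)), fun x => by
    obtain ⟨a, ha, hax⟩ := hV.exists_preimage (j := 0) (x := x.1) (by rw [zero_mul]; exact x.2)
    exact ⟨⟨a, ha⟩, Subtype.ext hax⟩⟩
  exact MulEquiv.isField h0 (RingEquiv.ofBijective i hi).toMulEquiv

include hV in
theorem veronese_ringKrullDim : ringKrullDim R' = ringKrullDim R := by
  refine GrSegreLib.ringKrullDim_eq_of_integral_injective φ hV.inj fun x => ?_
  algebraize [φ]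
  show IsIntegral R' x
  induction x using DirectSum.Decomposition.inductionOn 𝒜 with
  | zero => exact isIntegral_zero
  | @homogeneous i x =>
    refine IsIntegral.of_pow hV.q_pos ?_
    have h := SetLike.pow_mem_graded q x.2
    rw [nsmul_eq_mul, mul_comm] at h
    obtain ⟨a, -, ha⟩ := hV.exists_preimage h
    rw [← ha]
    exact isIntegral_algebraMap (A := R) (x := a)
  | add a b ha hb => exact ha.add hb

/-- Graded local cohomology vanishes below the dimension in the Cohen–Macaulay case. -/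
theorem subsingleton_H_of_lt [LocCoh.IsCohenMacaulayRing R] (hpos : ∀ n : ℤ, n < 0 → 𝒜 n = ⊥)
    (h0 : IsField (GrLC.deg0 𝒜)) {m : HomogeneousIdeal 𝒜} (hmsp : m.toIdeal = GrFieldLib.irr 𝒜)
    {n : ℕ} (hn : ringKrullDim R = n) (I : GrLC.StarInjRes 𝒜 𝒜) (i : ℕ) (hi : i < n) :
    Subsingleton (I.H m i) := by
  obtain ⟨e⟩ := exists_H_equiv_locCoh I m i
  haveI : Subsingleton ((localCohomology m.toIdeal i).obj (ModuleCat.of R R) : Type u) :=
    hmsp ▸ GrFieldLib.subsingleton_H_of_lt_dim 𝒜 hpos h0 hn i hi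
  exact e.toEquiv.subsingleton

/-- A criterion for the Gorenstein property without assuming Cohen–Macaulayness. -/
theorem isGorensteinRing_of_starInj [IsNoetherianRing R] {m : HomogeneousIdeal 𝒜}
    (hm : GrLC.IsStarLocal 𝒜 m) [m.toIdeal.IsPrime] {n : ℕ} (hn : m.toIdeal.height = n)
    (I : GrLC.StarInjRes 𝒜 𝒜) (hlow : ∀ i < n, Subsingleton (I.H m i))
    (hI : GrLC.IsStarInj 𝒜 (HMod I m n).gr) : LocCoh.IsGorensteinRing R := by
  let B := Localization.AtPrime m.toIdeal
  let S := m.toIdeal.primeCompl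
  have hd : ringKrullDim B = n := by
    rw [IsLocalization.AtPrime.ringKrullDim_eq_height m.toIdeal B, hn]; rfl
  obtain ⟨eH⟩ := exists_topH_equiv (m := m) I n
  have hmap : m.toIdeal.map (algebraMap R B) = IsLocalRing.maximalIdeal B := Localization.AtPrime.map_eq_maximalIdeal
  haveI : Subsingleton (Abelian.Ext.{u} (ModuleCat.of B (IsLocalRing.ResidueField B))
      (ModuleCat.of B (LocalizedModule S (HMod I m n).carrier)) 1) := by
    haveI := subsingleton_ext_localized m.toIdeal m.toIdeal 𝒜 m.isHomogeneous (X := HMod I m n) hI 0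
    have e : Quo m.toIdeal m.toIdeal ≃ₗ[B] IsLocalRing.ResidueField B :=
      Submodule.quotEquivOfEq _ _ Localization.AtPrime.map_eq_maximalIdeal
    exact GorLib.ext_subsingleton_of_iso e.toModuleIso _ 1
  have htor : ∀ x : LocalizedModule S (HMod I m n).carrier, ∃ N : ℕ,
      ∀ b ∈ IsLocalRing.maximalIdeal B ^ N, b • x = 0 := fun x => by
    induction x using LocalizedModule.induction_on with
    | h y t =>
      obtain ⟨N, hN⟩ := hmod_torsion I m n y
      refine ⟨N, fun b hb => ?_⟩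
      rw [← hmap, ← Ideal.map_pow] at hb
      induction hb using Submodule.span_induction with
      | mem b hb =>
        obtain ⟨r, hr, rfl⟩ := hb
        rw [algebraMap_smul, LocalizedModule.smul'_mk, hN r hr, LocalizedModule.zero_mk]
      | zero => exact zero_smul B _
      | add a b _ _ ha hb => rw [add_smul, ha, hb, add_zero]
      | smul c a _ ha => rw [smul_assoc, ha, smul_zero]
  haveI hinjn : Module.Injective B (LocalizedModule S (I.H m n)) := injective_of_ext_one (hext := ‹_›) htor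
  have hinj : ∀ j, Module.Injective B ((localCohomology (IsLocalRing.maximalIdeal B) j).obj (ModuleCat.of B B) : Type u) := by
    intro j
    by_cases hj : j = n
    · subst hj
      exact InjHullLib.injective_of_retract eH.symm.toLinearMap eH.toLinearMap (LinearMap.ext fun z => eH.apply_symm_apply z)
    · haveI : Subsingleton ((localCohomology (IsLocalRing.maximalIdeal B) j).obj (ModuleCat.of B B) : Type u) := by
        rcases Nat.lt_or_ge j n with h | h
        · haveI := hlow j h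
          obtain ⟨ej⟩ := exists_topH_equiv (m := m) I j
          haveI : Subsingleton (LocalizedModule S (I.H m j)) := ⟨fun x y => by
            induction x using LocalizedModule.induction_on with
            | h a s =>
              induction y using LocalizedModule.induction_on with
              | h b t => rw [Subsingleton.elim a 0, Subsingleton.elim b 0, LocalizedModule.zero_mk, LocalizedModule.zero_mk]⟩
          exact ej.symm.toEquiv.subsingleton
        · exact LocCohLib.cdLE_of_ringKrullDim_local _ n hd.le B j (by omega)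
      exact ⟨fun _ _ _ _ _ _ _ _ _ => ⟨0, fun _ => Subsingleton.elim _ _⟩⟩
  have h1 : HasInjectiveDimensionLT (ModuleCat.of B B) (n + 1) :=
    GorLib.hasInjectiveDimensionLT_of_residueField _ n fun i hi =>
      GorLib.subsingleton_ext_of_H_injective n B hinj
        (fun j hj => LocCohLib.cdLE_of_ringKrullDim_local _ n hd.le B j hj) i hi
  haveI : Module.Finite R (GrLC.GMod.of 𝒜 R 𝒜).carrier := Module.Finite.self R
  haveI : CategoryTheory.HasInjectiveDimensionLT (ModuleCat.of B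
      (LocalizedModule m.toIdeal.primeCompl (GrLC.GMod.of 𝒜 R 𝒜).carrier)) (n + 1) :=
    @CategoryTheory.hasInjectiveDimensionLT_of_iso _ _ _ _ _
      ((Groth.Agent.Depth.localizedSelfEquiv m.toIdeal).toModuleIso).symm _ h1
  have h2 := hasInjectiveDimensionLT_of_max hm (GrLC.GMod.of 𝒜 R 𝒜) (d := n) inferInstance fun p hp => hp.homogeneousCore
  exact ((Groth.Agent.GorLib.hasInjectiveDimensionLT_self_iff R).1 ⟨_, h2⟩).1

theorem decompose_irr_zero' (hpos : ∀ n : ℤ, n < 0 → 𝒜 n = ⊥) {x : R} (hx : x ∈ GrFieldLib.irr 𝒜) :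
    (decompose 𝒜 x 0 : R) = 0 := by
  suffices h : ∀ r : R, (decompose 𝒜 (r * x) 0 : R) = 0 by simpa using h 1
  induction hx using Submodule.span_induction with
  | mem y hy =>
    obtain ⟨n, hn, hyn⟩ := Set.mem_iUnion₂.1 hy
    intro r
    have h := coe_decompose_mul_add_of_right_mem 𝒜 (a := r) (i := -n) hyn
    rw [neg_add_cancel] at h
    have hm := (decompose 𝒜 r (-n)).2
    simp only [hpos (-n) (by simp at hn; omega), AddSubgroup.mem_bot] at hm
    rw [h, hm, zero_mul]
  | zero => intro r; simp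
  | add a b _ _ ha hb => intro r; rw [mul_add, decompose_add, DirectSum.add_apply, AddSubgroup.coe_add, ha r, hb r, add_zero]
  | smul c y _ hy => intro r; rw [smul_eq_mul, ← mul_assoc]; exact hy _

/-- The socle degree of the top graded local cohomology of a Gorenstein ring. -/
theorem exists_socle_degree [LocCoh.IsGorensteinRing R] (hpos : ∀ n : ℤ, n < 0 → 𝒜 n = ⊥)
    {m : HomogeneousIdeal 𝒜} (hm : GrLC.IsStarLocal 𝒜 m) [m.toIdeal.IsPrime]
    (hmsp : m.toIdeal = GrFieldLib.irr 𝒜) {n : ℕ} (hn : m.toIdeal.height = n) (I : GrLC.StarInjRes 𝒜 𝒜) :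
    GrLC.IsStarInj 𝒜 (HMod I m n).gr ∧ ∃ (d : ℤ) (y₀ : I.H m n), y₀ ∈ I.Hgr m n d ∧ y₀ ≠ 0 ∧
      (∀ y ∈ I.Hgr m n d, ∃ c : R, c • y₀ = y) ∧
      ∀ k, ∀ x ∈ I.Hgr m n k, x ≠ 0 → k ≤ d ∧ ∃ r ∈ 𝒜 (d - k), r • x ≠ 0 := by
  obtain ⟨f, hf⟩ := exists_hull_topH hn I
  let Q := quotG 𝒜 (ringPieces 𝒜) (ideal_homogeneous 𝒜 m.isHomogeneous)
  obtain ⟨E', e, he⟩ := exists_starInjHull 𝒜 Q.gr
  obtain ⟨g, φ, hφ⟩ := exists_shift_equiv_hull hm (HMod I m n) (hmod_torsion I m n) hf
    (E' := E'.carrier) (𝓔 := E'.gr) (e := (e : (R ⧸ m.toIdeal) →ₗ[R] E'.carrier)) he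
  have hsym := grHomDeg_symm (HMod I m n).gr E'.gr φ hφ
  have hrange := range_homogeneous Q.gr E'.gr ((isGrHom_iff _ _).1 he.grHom)
  have hdeg : ∀ b : ℤ, ∀ y ∈ E'.gr b, y ∈ LinearMap.range e → y ≠ 0 → b = 0 := by
    intro b y hy hr hy0
    obtain ⟨v, hv, rfl⟩ := exists_preimage_piece Q.gr E'.gr (d := 0) ((isGrHom_iff _ _).1 he.grHom)
      (g := b) (by rw [add_zero]; exact hy) hr
    obtain ⟨r, hr', rfl⟩ := hv
    rcases lt_trichotomy b 0 with hb | hb | hb
    · have : r = 0 := by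
        have h' : r ∈ 𝒜 b := hr'
        rwa [hpos b hb, AddSubgroup.mem_bot] at h'
      exact absurd (by rw [this]; exact (congrArg e ((Submodule.Quotient.mk_eq_zero m.toIdeal).2 (zero_mem m.toIdeal))).trans (map_zero e)) hy0
    · exact hb
    · refine absurd ?_ hy0
      have : r ∈ m.toIdeal := hmsp ▸ Ideal.subset_span (Set.mem_iUnion₂.2 ⟨b, hb, hr'⟩)
      show e (Submodule.Quotient.mk r) = 0
      exact (congrArg e ((Submodule.Quotient.mk_eq_zero m.toIdeal).2 this)).trans (map_zero e)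
  refine ⟨starInj_of_equiv φ hφ he.starInj, -g, φ.symm (e (Submodule.Quotient.mk 1)), ?_, ?_, fun y hy => ?_, fun k x hx hx0 => ?_⟩
  · have := hsym 0 _ (he.grHom 0 (Submodule.Quotient.mk 1) ⟨1, SetLike.one_mem_graded 𝒜, rfl⟩)
    rwa [zero_add] at this
  · have h1 : (Submodule.Quotient.mk 1 : R ⧸ m.toIdeal) ≠ 0 := fun h =>
      (Ideal.IsPrime.ne_top ‹m.toIdeal.IsPrime›) ((Ideal.eq_top_iff_one _).2 ((Submodule.Quotient.mk_eq_zero _).1 h))
    exact fun h => h1 (he.injective ((φ.symm.map_eq_zero_iff.1 h).trans (map_zero e).symm))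
  · have hy' := hφ (-g) y hy
    rw [neg_add_cancel] at hy'
    have hmem : φ y ∈ LinearMap.range e := by
      by_cases h0 : φ y = 0
      · rw [h0]; exact zero_mem _
      obtain ⟨a, r, hra, hr1, hr2⟩ := exists_smul_mem_range 𝒜 E'.gr he.essential hrange hy' h0
      have hb := hdeg _ _ (smul_mem 𝒜 E'.gr hra hy') hr1 hr2
      rw [add_zero] at hb
      subst hb
      have hrm : r ∉ m.toIdeal := by
        intro hrm
        obtain ⟨v, hv⟩ := hr1
        have h2 := exists_preimage_piece Q.gr E'.gr (d := 0) ((isGrHom_iff _ _).1 he.grHom) (g := 0)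
          (y := r • φ y) (by rw [add_zero]; have := smul_mem 𝒜 E'.gr hra hy'; rwa [add_zero] at this) ⟨v, hv⟩
        refine hr2 ?_
        have hr0 : r = 0 := by
          have : (decompose 𝒜 r 0 : R) = 0 := by
            rw [hmsp] at hrm
            exact decompose_irr_zero' hpos hrm
          rwa [decompose_of_mem_same 𝒜 hra] at this
        rw [hr0, zero_smul]
      obtain ⟨w, hw⟩ := (isUnit_of_notMem hm hra hrm).exists_left_inv
      rw [show φ y = w • (r • φ y) by rw [← mul_smul, hw, one_smul]]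
      exact Submodule.smul_mem _ _ hr1
    obtain ⟨v, hv⟩ := hmem
    obtain ⟨c, rfl⟩ := Submodule.Quotient.mk_surjective _ v
    refine ⟨c, φ.injective ?_⟩
    refine (map_smul φ c _).trans ?_
    refine ((congrArg (c • ·) (φ.apply_symm_apply _)).trans (map_smul e c _).symm).trans ?_
    rw [← hv]
    exact congrArg e (show Submodule.Quotient.mk (c * 1) = Submodule.Quotient.mk c by rw [mul_one])
  · have hne : φ x ≠ 0 := fun h => hx0 (φ.map_eq_zero_iff.1 h)
    obtain ⟨a, r, hra, hr1, hr2⟩ := exists_smul_mem_range 𝒜 E'.gr he.essential hrange (hφ k x hx) hne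
    have hb := hdeg _ _ (smul_mem 𝒜 E'.gr hra (hφ k x hx)) hr1 hr2
    have hak : a = -g - k := by omega
    refine ⟨?_, r, hak ▸ hra, fun h => hr2 (show r • φ x = 0 by rw [← map_smul]; exact (congrArg φ h).trans (map_zero φ))⟩
    by_contra hlt
    have : r = 0 := by
      rwa [hpos a (by omega), AddSubgroup.mem_bot] at hra
    exact hr2 (by rw [this, zero_smul])

/-- The socle degree is the end. -/
theorem socle_degree_eq_end {X : Type u} [AddCommGroup X] {ℋ : ℤ → AddSubgroup X} {d a : ℤ}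
    (h1 : ∃ x ∈ ℋ d, x ≠ 0) (h2 : ∀ k, ∀ x ∈ ℋ k, x ≠ 0 → k ≤ d)
    (ha : GrLC.endDeg ℋ = ((a : WithTop ℤ) : WithBot (WithTop ℤ))) : d = a := by
  have hb : ∀ k, ℋ k ≠ ⊥ → ∃ x ∈ ℋ k, x ≠ 0 := fun k hk => by
    by_contra h
    push Not at h
    exact hk ((AddSubgroup.eq_bot_iff_forall _).2 h)
  obtain ⟨x, hx, hx0⟩ := h1
  have hd : ℋ d ≠ ⊥ := fun h => hx0 (AddSubgroup.mem_bot.1 (h ▸ hx))
  have e1 : GrLC.endDeg ℋ = ((d : WithTop ℤ) : WithBot (WithTop ℤ)) := by
    refine le_antisymm (iSup₂_le fun k hk => ?_) (le_iSup₂ (f := fun (k : ℤ) (_ : ℋ k ≠ ⊥) => ((k : WithTop ℤ) : WithBot (WithTop ℤ))) d hd)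
    obtain ⟨y, hy, hy0⟩ := hb k hk
    exact WithBot.coe_le_coe.2 (WithTop.coe_le_coe.2 (h2 k y hy hy0))
  rw [ha] at e1
  exact (WithTop.coe_inj.1 (WithBot.coe_inj.1 e1)).symm

include hV in
/-- A Veronese subring whose index divides the a-invariant of a Gorenstein ring is Gorenstein. -/
theorem isGorensteinRing_veronese [LocCoh.IsGorensteinRing R] [LocCoh.IsCohenMacaulayRing R]
    (hpos : ∀ n : ℤ, n < 0 → 𝒜 n = ⊥) (h0 : IsField (GrLC.deg0 𝒜)) {m : HomogeneousIdeal 𝒜}
    (hm : GrLC.IsStarLocal 𝒜 m) (hmsp : m.toIdeal = GrFieldLib.irr 𝒜) {n : ℕ} (hn : ringKrullDim R = n)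
    (I : GrLC.StarInjRes 𝒜 𝒜) {a : ℤ}
    (ha : GrLC.endDeg (I.Hgr m n) = ((a : WithTop ℤ) : WithBot (WithTop ℤ))) (hdvd : (q : ℤ) ∣ a) :
    LocCoh.IsGorensteinRing R' := by
  haveI := isNoetherianRing_of_veronese hV
  haveI := isPrime_of_starLocal hm
  have hht : m.toIdeal.height = n := by
    have h := (GrFieldLib.height_irr 𝒜 hpos h0).trans hn
    rw [← hmsp] at h
    exact_mod_cast h
  obtain ⟨hinj, d, y₀, hy1, hy2, -, hd2⟩ := exists_socle_degree hpos hm hmsp hht I
  have hda : d = a := socle_degree_eq_end ⟨y₀, hy1, hy2⟩ (fun k x hx hx0 => (hd2 k x hx hx0).1) ha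
  subst hda
  let H := HMod I m n
  have hinj' : GrLC.IsStarInj 𝒜' (verG hV H).gr := starInj_verG hV H hinj fun k x hx hx0 => by
    obtain ⟨-, r, hr, hrx⟩ := hd2 k x hx hx0
    exact ⟨d - k, r, hr, hrx, by rwa [sub_add_cancel]⟩
  have hpos' := veronese_pos hV hpos
  have h0' := veronese_isField hV h0
  have hm' := isStarLocal_irrH hpos' h0'
  haveI : (irrH 𝒜').toIdeal.IsPrime := isPrime_of_starLocal hm'
  have hht' : (irrH 𝒜').toIdeal.height = n := by
    have h := (GrFieldLib.height_irr 𝒜' hpos' h0').trans ((veronese_ringKrullDim hV).trans hn)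
    exact_mod_cast (show ((irrH 𝒜').toIdeal.height : WithBot ℕ∞) = n from h)
  obtain ⟨F⟩ := exists_starInjRes 𝒜' 𝒜'
  obtain ⟨hle, hrad⟩ := irrelevant_radical hV hmsp (m' := (irrH 𝒜').toIdeal) rfl
  have hgdeg : ∀ j : ℤ, (𝒜' j).map (φ.toSemilinearMap : R' →+ R) = 𝒜 (j * q) := hV.hdeg
  have hH := fun i => exists_veronese_H hV I φ.toSemilinearMap hV.inj hgdeg (m := m) (m' := irrH 𝒜') hle hrad F i
  refine isGorensteinRing_of_starInj hm' hht' F (fun i hi => ?_) ?_
  · haveI := subsingleton_H_of_lt hpos h0 hmsp hn I i hi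
    obtain ⟨Θ, hΘ, -⟩ := hH i
    exact hΘ.subsingleton
  · obtain ⟨Θ, hΘi, hΘ⟩ := hH n
    letI := (H_isInternal F (irrH 𝒜') n).chooseDecomposition
    have hsub : ∀ x : (HMod F (irrH 𝒜') n).carrier, Θ x ∈ verSub hV H := by
      intro x
      induction x using DirectSum.Decomposition.inductionOn (F.Hgr (irrH 𝒜') n) with
      | zero => exact (show Θ 0 = 0 from map_zero Θ) ▸ zero_mem _
      | @homogeneous j x => exact mem_verSub_of_mem hV H ((hΘ j).1 _ x.2) (dvd_mul_left _ _)
      | add a b ha hb => exact (show Θ (a + b) = Θ a + Θ b from map_add Θ a b) ▸ add_mem ha hb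
    let P : (HMod F (irrH 𝒜') n).carrier →ₗ[R'] (verG hV H).carrier :=
      { toFun := fun x => verMk hV H (Θ x) (hsub x)
        map_add' := fun x y => verVal_injective hV H (show Θ (x + y) = Θ x + Θ y from map_add Θ x y)
        map_smul' := fun r x => verVal_injective hV H (by
          rw [RingHom.id_apply, LinearMap.map_smulₛₗ, verVal_verMk, verVal_verMk]
          exact LinearMap.map_smulₛₗ Θ r x) }
    have hPg : GrLC.IsGrHom (HMod F (irrH 𝒜') n).gr (verG hV H).gr P := fun j x hx =>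
      (mem_verG_gr hV H).2 ((hΘ j).1 x hx)
    have hP : Function.Bijective P := by
      refine ⟨fun x y h => hΘi (congrArg (verVal hV H) h), fun y => ?_⟩
      induction y using DirectSum.Decomposition.inductionOn (verG hV H).gr with
      | zero => exact ⟨0, map_zero _⟩
      | @homogeneous j y =>
        obtain ⟨x, -, hx⟩ := (hΘ j).2 _ ((mem_verG_gr hV H).1 y.2)
        exact ⟨x, verVal_injective hV H hx⟩
      | add a b ha hb =>
        obtain ⟨x, hx⟩ := ha
        obtain ⟨y, hy⟩ := hb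
        exact ⟨x + y, by rw [map_add, hx, hy]⟩
    exact starInj_of_equiv (M := HMod F (irrH 𝒜') n) (N := verG hV H) (LinearEquiv.ofBijective P hP)
      (g := 0) ((isGrHom_iff _ _).1 hPg) hinj'

end Groth.Agent.GrCoreLib
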