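import Mathlib
import Groth.Agent.GrCoreLib.VeroneseGor
import Groth.Agent.GrFieldLib.Top
import Groth.Agent.GrCoreLib.AInv

/-! The Euler characteristic of graded local cohomology is the Hilbert polynomial. -/

set_option autoImplicit false
set_option linter.style.haveILetI false
set_option linter.unusedSectionVars false
universe u

open DirectSum GrInjLib

namespace Groth.Agent.GrCoreLib

/-- Discrete antiderivatives of polynomials. -/
theorem exists_antidiff (D : Polynomial ℚ) :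
    ∃ Q : Polynomial ℚ, ∀ x : ℚ, Q.eval (x + 1) - Q.eval x = D.eval x := by
  refine ⟨∑ k ∈ D.support, (D.coeff k / (k + 1)) • Polynomial.bernoulli (k + 1), fun x => ?_⟩
  rw [Polynomial.eval_finsetSum, Polynomial.eval_finsetSum, ← Finset.sum_sub_distrib,
    Polynomial.eval_eq_sum, Polynomial.sum_def]
  refine Finset.sum_congr rfl fun k _ => ?_
  have hk : ((k : ℚ) + 1) ≠ 0 := by positivity
  rw [Polynomial.eval_smul, Polynomial.eval_smul, add_comm x 1, Polynomial.bernoulli_eval_one_add,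
    Nat.add_sub_cancel, smul_eq_mul, smul_eq_mul]
  push_cast
  field_simp
  ring

/-- A function on the integers with polynomial differences is polynomial. -/
theorem exists_poly_of_diff (f : ℤ → ℚ) (D : Polynomial ℚ)
    (h : ∀ n : ℤ, f (n + 1) - f n = D.eval (n : ℚ)) : ∃ Q : Polynomial ℚ, ∀ n : ℤ, f n = Q.eval (n : ℚ) := by
  obtain ⟨Q, hQ⟩ := exists_antidiff D
  refine ⟨Q + Polynomial.C (f 0 - Q.eval 0), fun n => ?_⟩
  rw [Polynomial.eval_add, Polynomial.eval_C]
  induction n using Int.induction_on with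
  | zero => simp
  | succ k ih =>
    have h1 := h (k : ℤ)
    have h2 := hQ ((k : ℤ) : ℚ)
    push_cast at h1 h2 ih ⊢
    linarith
  | pred k ih =>
    have h1 := h (-(k : ℤ) - 1)
    have h2 := hQ ((-(k : ℤ) - 1 : ℤ) : ℚ)
    rw [sub_add_cancel] at h1
    push_cast at h1 h2 ih ⊢
    rw [sub_add_cancel] at h2
    linarith

variable {R : Type u} [CommRing R] {𝒜 : ℤ → AddSubgroup R} [GradedRing 𝒜]

/-- The length as a rational number. -/
noncomputable def qlen (A : Type u) [CommRing A] (X : Type u) [AddCommGroup X] [Module A X] : ℚ :=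
  ((Module.length A X).toNat : ℚ)

theorem qlen_congr {A : Type u} [CommRing A] {X Y : Type u} [AddCommGroup X] [Module A X] [AddCommGroup Y]
    [Module A Y] (e : X ≃ₗ[A] Y) : qlen A X = qlen A Y := by rw [qlen, qlen, e.length_eq]

theorem qlen_eq_zero_of_bot {A : Type u} [CommRing A] {X : Type u} [AddCommGroup X] [Module A X]
    {p : Submodule A X} (h : p = ⊥) : qlen A p = 0 := by
  subst h
  rw [qlen, Module.length_eq_zero]
  rfl

/-- A submodule is the sum of its kernel part and its image. -/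
theorem qlen_eq_inf_add_map {A : Type u} [CommRing A] [IsArtinianRing A] {X Y : Type u} [AddCommGroup X]
    [Module A X] [AddCommGroup Y] [Module A Y] (f : X →ₗ[A] Y) (p : Submodule A X) [Module.Finite A p] :
    qlen A p = qlen A ↥(p ⊓ LinearMap.ker f) + qlen A ↥(p.map f) := by
  let g : p →ₗ[A] ↥(p.map f) := (f ∘ₗ p.subtype).codRestrict _ fun x => ⟨x.1, x.2, rfl⟩
  let ι : ↥(p ⊓ LinearMap.ker f) →ₗ[A] p := Submodule.inclusion inf_le_left
  have hι : Function.Injective ι := Submodule.inclusion_injective _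
  have hg : Function.Surjective g := fun y => by
    obtain ⟨x, hx, hxy⟩ := y.2
    exact ⟨⟨x, hx⟩, Subtype.ext hxy⟩
  have hex : Function.Exact ι g := fun x => by
    constructor
    · intro h
      exact ⟨⟨x.1, x.2, congrArg Subtype.val h⟩, rfl⟩
    · rintro ⟨w, rfl⟩
      exact Subtype.ext w.2.2
  have hne : Module.length A p ≠ ⊤ := by
    rw [Module.length_ne_top_iff, isFiniteLength_iff_isNoetherian_isArtinian]
    exact ⟨inferInstance, inferInstance⟩
  have h := Module.length_eq_add_of_exact ι g hι hg hex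
  rw [qlen, qlen, qlen, h, ENat.toNat_add, Nat.cast_add]
  · exact ne_top_of_le_ne_top hne (h ▸ le_self_add)
  · exact ne_top_of_le_ne_top hne (h ▸ le_add_self)

variable [IsNoetherianRing R]

/-- The degree `g` Euler characteristic up to degree `N`. -/
noncomputable def chiAt {M : Type u} [AddCommGroup M] [Module R M] {ℳ : ℤ → AddSubgroup M}
    [Decomposition ℳ] [SetLike.GradedSMul 𝒜 ℳ] (E : GrLC.StarInjRes 𝒜 ℳ) (a : HomogeneousIdeal 𝒜)
    (N : ℕ) (g : ℤ) : ℚ :=
  qlen (GrLC.deg0 𝒜) (GrLC.comp 𝒜 ℳ g) -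
    ∑ i ∈ Finset.range (N + 1), (-1 : ℚ) ^ i * qlen (GrLC.deg0 𝒜) (E.Hcomp a i g)

theorem chiAt_indep {M : Type u} [AddCommGroup M] [Module R M] {ℳ : ℤ → AddSubgroup M}
    [Decomposition ℳ] [SetLike.GradedSMul 𝒜 ℳ] (E E' : GrLC.StarInjRes 𝒜 ℳ) (a : HomogeneousIdeal 𝒜)
    (N : ℕ) (g : ℤ) : chiAt E a N g = chiAt E' a N g := by
  unfold chiAt
  congr 1
  refine Finset.sum_congr rfl fun i _ => ?_
  obtain ⟨e, he, he'⟩ := exists_H_equiv E a E' i
  congr 1
  exact qlen_congr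
    { toFun := fun x => ⟨e x.1, he g x.1 x.2⟩
      invFun := fun y => ⟨e.symm y.1, he' g y.1 y.2⟩
      left_inv := fun x => Subtype.ext (e.symm_apply_apply x.1)
      right_inv := fun y => Subtype.ext (e.apply_symm_apply y.1)
      map_add' := fun x y => Subtype.ext (map_add e x.1 y.1)
      map_smul' := fun c x => Subtype.ext (map_smul e (c : R) x.1) }

variable [IsArtinianRing (GrLC.deg0 𝒜)] (hpos : ∀ n : ℤ, n < 0 → ∀ x ∈ 𝒜 n, x = 0) (a : HomogeneousIdeal 𝒜)
  (ha : a.toIdeal = Ideal.span (⋃ n ∈ Set.Ioi (0 : ℤ), (𝒜 n : Set R))) {N : ℕ}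
  (hN : ringKrullDim R = N)

include hpos ha hN in
/-- Additivity in short exact sequences. -/
theorem chiAt_additive {A B C : GrLC.GMod.{u} 𝒜} [Module.Finite R A.carrier] [Module.Finite R B.carrier]
    [Module.Finite R C.carrier] {f : A.carrier →ₗ[R] B.carrier} {g : B.carrier →ₗ[R] C.carrier} {d : ℤ}
    (hf : GrLC.IsGrHomDeg A.gr B.gr f d) (hg : GrLC.IsGrHom B.gr C.gr g) (hinj : Function.Injective f)
    (hex : ∀ b, g b = 0 ↔ ∃ x, f x = b) (hsurj : Function.Surjective g)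
    (EA : GrLC.StarInjRes 𝒜 A.gr) (EB : GrLC.StarInjRes 𝒜 B.gr) (EC : GrLC.StarInjRes 𝒜 C.gr) (e : ℤ) :
    chiAt EB a N (e + d) = chiAt EA a N e + chiAt EC a N (e + d) := by
  classical
  let A₀ := GrLC.deg0 𝒜
  haveI := isNoetherian_comp 𝒜 A.gr e
  haveI := isNoetherian_comp 𝒜 B.gr (e + d)
  haveI := isNoetherian_comp 𝒜 C.gr (e + d)
  have hmod : qlen A₀ (GrLC.comp 𝒜 B.gr (e + d)) =
      qlen A₀ (GrLC.comp 𝒜 A.gr e) + qlen A₀ (GrLC.comp 𝒜 C.gr (e + d)) := by
    rw [qlen_eq_inf_add_map (g.restrictScalars A₀) (GrLC.comp 𝒜 B.gr (e + d))]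
    have h1 : GrLC.comp 𝒜 B.gr (e + d) ⊓ LinearMap.ker (g.restrictScalars A₀) =
        (GrLC.comp 𝒜 A.gr e).map (f.restrictScalars A₀) := by
      ext y
      constructor
      · rintro ⟨hy, hy0⟩
        obtain ⟨x, hx, hxy⟩ := exists_preimage_piece A.gr B.gr hf hy ((hex y).1 hy0)
        exact ⟨x, hx, hxy⟩
      · rintro ⟨x, hx, rfl⟩
        exact ⟨hf e x hx, (hex _).2 ⟨x, rfl⟩⟩
    have h2 : (GrLC.comp 𝒜 B.gr (e + d)).map (g.restrictScalars A₀) = GrLC.comp 𝒜 C.gr (e + d) := by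
      ext y
      constructor
      · rintro ⟨x, hx, rfl⟩
        exact hg _ x hx
      · intro hy
        obtain ⟨x, hx, hxy⟩ := exists_preimage_piece B.gr C.gr (d := 0) ((isGrHom_iff _ _).1 hg) (g := e + d)
          (by rw [add_zero]; exact hy) (hsurj y)
        exact ⟨x, hx, hxy⟩
    rw [h1, h2]
    congr 1
    exact (qlen_congr (Submodule.equivMapOfInjective (f.restrictScalars A₀) hinj _)).symm
  obtain ⟨Lf⟩ := exists_lift EA EB hf
  obtain ⟨Lg⟩ := exists_lift EB EC ((isGrHom_iff B.gr C.gr).1 hg)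
  obtain ⟨h0, δ, hδ, hB, hC, hA⟩ := exists_long_exact Lf Lg a hf hg hinj hex hsurj
  haveI := fun i => (pieces_finite_vanish hpos a ha i A EA).1 e
  haveI := fun i => (pieces_finite_vanish hpos a ha i B EB).1 (e + d)
  haveI := fun i => (pieces_finite_vanish hpos a ha i C EC).1 (e + d)
  let rf : ℕ → ℚ := fun i => qlen A₀ ↥((EA.Hcomp a i e).map ((Lf.mapH a i).restrictScalars A₀))
  let rg : ℕ → ℚ := fun i => qlen A₀ ↥((EB.Hcomp a i (e + d)).map ((Lg.mapH a i).restrictScalars A₀))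
  let rd : ℕ → ℚ := fun i => qlen A₀ ↥((EC.Hcomp a i (e + d)).map ((δ i).restrictScalars A₀))
  have eB : ∀ i, qlen A₀ (EB.Hcomp a i (e + d)) = rf i + rg i := fun i => by
    rw [qlen_eq_inf_add_map ((Lg.mapH a i).restrictScalars A₀) (EB.Hcomp a i (e + d))]
    have h1 : EB.Hcomp a i (e + d) ⊓ LinearMap.ker ((Lg.mapH a i).restrictScalars A₀) =
        (EA.Hcomp a i e).map ((Lf.mapH a i).restrictScalars A₀) := by
      ext y
      constructor
      · rintro ⟨hy, hy0⟩
        obtain ⟨x, hx, hxy⟩ := exists_H_preimage a (Lf.mapH a i) (Lf.mapH_grHomDeg a i) hy ((hB i).le hy0)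
        exact ⟨x, hx, hxy⟩
      · rintro ⟨x, hx, rfl⟩
        exact ⟨Lf.mapH_grHomDeg a i e x hx, (hB i).ge ⟨x, rfl⟩⟩
    rw [h1]
  have eC : ∀ i, qlen A₀ (EC.Hcomp a i (e + d)) = rg i + rd i := fun i => by
    rw [qlen_eq_inf_add_map ((δ i).restrictScalars A₀) (EC.Hcomp a i (e + d))]
    have h1 : EC.Hcomp a i (e + d) ⊓ LinearMap.ker ((δ i).restrictScalars A₀) =
        (EB.Hcomp a i (e + d)).map ((Lg.mapH a i).restrictScalars A₀) := by
      ext y
      constructor
      · rintro ⟨hy, hy0⟩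
        obtain ⟨x, hx, hxy⟩ := exists_H_preimage a (Lg.mapH a i) (Lg.mapH_grHomDeg a i)
          (g := e + d) (by rw [add_zero]; exact hy) ((hC i).le hy0)
        exact ⟨x, hx, hxy⟩
      · rintro ⟨x, hx, rfl⟩
        have h := Lg.mapH_grHomDeg a i (e + d) x hx
        rw [add_zero] at h
        exact ⟨h, (hC i).ge ⟨x, rfl⟩⟩
    rw [h1]
  have eA0 : qlen A₀ (EA.Hcomp a 0 e) = rf 0 :=
    qlen_congr (Submodule.equivMapOfInjective ((Lf.mapH a 0).restrictScalars A₀) h0 _)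
  have eA : ∀ i, qlen A₀ (EA.Hcomp a (i + 1) e) = rd i + rf (i + 1) := fun i => by
    rw [qlen_eq_inf_add_map ((Lf.mapH a (i + 1)).restrictScalars A₀) (EA.Hcomp a (i + 1) e)]
    have h1 : EA.Hcomp a (i + 1) e ⊓ LinearMap.ker ((Lf.mapH a (i + 1)).restrictScalars A₀) =
        (EC.Hcomp a i (e + d)).map ((δ i).restrictScalars A₀) := by
      ext y
      constructor
      · rintro ⟨hy, hy0⟩
        obtain ⟨x, hx, hxy⟩ := exists_H_preimage a (δ i) (hδ i) (g := e + d)
          (by rw [add_neg_cancel_right]; exact hy) ((hA i).le hy0)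
        exact ⟨x, hx, hxy⟩
      · rintro ⟨x, hx, rfl⟩
        have h := hδ i (e + d) x hx
        rw [add_neg_cancel_right] at h
        exact ⟨h, (hA i).ge ⟨x, rfl⟩⟩
    rw [h1]
  have hlast : rd N = 0 := by
    refine qlen_eq_zero_of_bot ((Submodule.eq_bot_iff _).2 ?_)
    rintro _ ⟨x, hx, rfl⟩
    have h := hδ N (e + d) x hx
    rw [add_neg_cancel_right] at h
    exact (Submodule.eq_bot_iff _).1 (GrFieldLib.van_above_dim hN A (N + 1) (Nat.lt_succ_self N) e EA) _ h
  have key : ∀ k : ℕ, ∑ i ∈ Finset.range (k + 1), (-1 : ℚ) ^ i *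
      (qlen A₀ (EA.Hcomp a i e) + qlen A₀ (EC.Hcomp a i (e + d)) - qlen A₀ (EB.Hcomp a i (e + d))) =
        (-1 : ℚ) ^ k * rd k := by
    intro k
    induction k with
    | zero => rw [Finset.sum_range_one, eA0, eB, eC]; ring
    | succ k ih => rw [Finset.sum_range_succ, ih, eA, eB, eC, pow_succ]; ring
  have hk := key N
  rw [hlast, mul_zero] at hk
  simp only [mul_sub, mul_add, Finset.sum_sub_distrib, Finset.sum_add_distrib] at hk
  unfold chiAt
  linarith

include hpos ha in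
/-- A module killed by the irrelevant ideal has zero characteristic. -/
theorem chiAt_torsion (X : GrLC.GMod.{u} 𝒜) (htor : GrLC.gam a.toIdeal X.carrier = ⊤)
    (E : GrLC.StarInjRes 𝒜 X.gr) (g : ℤ) : chiAt E a N g = 0 := by
  have hε : ∀ y : X.carrier, E.ε y ∈ E.cocyc a 0 := fun y =>
    ⟨map_gam E.ε a.toIdeal (htor.ge Submodule.mem_top), E.exact_zero.ge ⟨y, rfl⟩⟩
  let φ : GrLC.comp 𝒜 X.gr g →ₗ[GrLC.deg0 𝒜] E.Hcomp a 0 g :=
    { toFun := fun y => ⟨E.toH a 0 ⟨E.ε y.1, hε y.1⟩, ⟨E.ε y.1, hε y.1⟩, E.ε_grHom g y.1 y.2, rfl⟩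
      map_add' := fun y z => Subtype.ext (by
        show E.toH a 0 _ = E.toH a 0 _ + E.toH a 0 _
        rw [← map_add]
        exact congrArg (E.toH a 0) (Subtype.ext (map_add E.ε _ _)))
      map_smul' := fun c y => Subtype.ext (by
        show E.toH a 0 _ = (c : R) • E.toH a 0 _
        rw [← map_smul]
        exact congrArg (E.toH a 0) (Subtype.ext (map_smul E.ε (c : R) _))) }
  have hφ : Function.Bijective φ := by
    refine ⟨(injective_iff_map_eq_zero φ).2 fun y hy => ?_, ?_⟩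
    · have h0 : E.toH a 0 ⟨E.ε y.1, hε y.1⟩ = 0 := congrArg Subtype.val hy
      have h1 : E.ε y.1 = 0 := (Submodule.Quotient.mk_eq_zero
        ((E.cobdy a 0).comap (E.cocyc a 0).subtype)).1 h0
      exact Subtype.ext (E.ε_injective (h1.trans (map_zero E.ε).symm))
    · rintro ⟨_, z, hz, rfl⟩
      obtain ⟨y, hy, hyz⟩ := exists_preimage_piece X.gr (E.X 0).gr (d := 0) (g := g)
        ((isGrHom_iff _ _).1 E.ε_grHom) (by rw [add_zero]; exact hz) (E.exact_zero.le z.2.2)
      exact ⟨⟨y, hy⟩, Subtype.ext (congrArg (E.toH a 0) (Subtype.ext hyz))⟩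
  unfold chiAt
  rw [Finset.sum_range_succ', Finset.sum_eq_zero fun i _ => by
    rw [qlen_eq_zero_of_bot (van_of_torsion htor i g E), mul_zero], pow_zero, one_mul,
    qlen_congr (LinearEquiv.ofBijective φ hφ)]
  ring

include hpos ha hN in
/-- The characteristic of a finite module is polynomial. -/
theorem exists_poly_chiAt (hstd : a.toIdeal = Ideal.span ((𝒜 1 : AddSubgroup R) : Set R))
    (X : GrLC.GMod.{u} 𝒜) [Module.Finite R X.carrier] (E : GrLC.StarInjRes 𝒜 X.gr) :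
    ∃ Q : Polynomial ℚ, ∀ g : ℤ, chiAt E a N g = Q.eval (g : ℚ) := by
  classical
  obtain ⟨S, hS, hspan⟩ := exists_linear_generators hstd
  suffices key : ∀ U : Finset R, U ⊆ S → ∀ (X : GrLC.GMod.{u} 𝒜) [Module.Finite R X.carrier],
      (∀ s ∈ S, s ∉ U → ∀ v : X.carrier, s • v = 0) → ∀ E : GrLC.StarInjRes 𝒜 X.gr,
        ∃ Q : Polynomial ℚ, ∀ g : ℤ, chiAt E a N g = Q.eval (g : ℚ) from
    key S subset_rfl X (fun s hs hn => absurd hs hn) E
  intro U
  induction U using Finset.induction_on with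
  | empty =>
    intro _ X _ hkill E
    refine ⟨0, fun g => ?_⟩
    rw [Polynomial.eval_zero]
    refine chiAt_torsion hpos a ha X (eq_top_iff.2 fun v _ => ⟨1, fun r hr => ?_⟩) E g
    rw [pow_one, hspan] at hr
    induction hr using Submodule.span_induction with
    | mem s hs => exact hkill s hs (Finset.notMem_empty s) v
    | zero => exact zero_smul R v
    | add p q _ _ hp hq => rw [add_smul, hp, hq, add_zero]
    | smul c p _ hp => rw [smul_eq_mul, mul_smul, hp, smul_zero]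
  | insert x U hxU ih =>
    intro hUS X _ hkill E
    rw [Finset.insert_subset_iff] at hUS
    have hx : x ∈ 𝒜 1 := hS x hUS.1
    haveI : IsNoetherian R X.carrier := isNoetherian_of_isNoetherianRing_of_finite R X.carrier
    let f : X.carrier →ₗ[R] X.carrier := x • (LinearMap.id : X.carrier →ₗ[R] X.carrier)
    have hf : GrLC.IsGrHomDeg X.gr X.gr f 1 := fun b z hz => by
      show x • z ∈ X.gr (b + 1)
      rw [add_comm]
      exact smul_mem 𝒜 X.gr hx hz
    have hK : (LinearMap.ker f).IsHomogeneous X.gr := ker_homogeneous X.gr X.gr hf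
    have hI : (LinearMap.range f).IsHomogeneous X.gr := range_homogeneous X.gr X.gr hf
    let K := subG 𝒜 X.gr hK
    let Q := quotG 𝒜 X.gr hK
    let C := quotG 𝒜 X.gr hI
    haveI : Module.Finite R K.carrier := Module.Finite.of_injective (subIncl 𝒜 X.gr hK) (subIncl_injective 𝒜 X.gr hK)
    haveI : Module.Finite R Q.carrier := Module.Finite.of_surjective (quotMk 𝒜 X.gr hK) (quotMk_surjective 𝒜 X.gr hK)
    haveI : Module.Finite R C.carrier := Module.Finite.of_surjective (quotMk 𝒜 X.gr hI) (quotMk_surjective 𝒜 X.gr hI)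
    have hkK : ∀ s ∈ S, s ∉ U → ∀ v : K.carrier, s • v = 0 := fun s hs hn v => by
      refine subIncl_injective 𝒜 X.gr hK ?_
      rw [map_smul, map_zero]
      by_cases h : s = x
      · subst h; exact LinearMap.mem_ker.1 (subIncl_mem 𝒜 X.gr hK v)
      · exact hkill s hs (by simp [h, hn]) _
    have hkC : ∀ s ∈ S, s ∉ U → ∀ v : C.carrier, s • v = 0 := fun s hs hn v => by
      obtain ⟨w, rfl⟩ := quotMk_surjective 𝒜 X.gr hI v
      rw [← map_smul]
      by_cases h : s = x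
      · subst h; exact LinearMap.mem_ker.1 ((ker_quotMk 𝒜 X.gr hI).ge ⟨w, rfl⟩)
      · rw [hkill s hs (by simp [h, hn]), map_zero]
    obtain ⟨EK⟩ := exists_starInjRes 𝒜 K.gr
    obtain ⟨EQ⟩ := exists_starInjRes 𝒜 Q.gr
    obtain ⟨EC⟩ := exists_starInjRes 𝒜 C.gr
    obtain ⟨PK, hPK⟩ := ih hUS.2 K hkK EK
    obtain ⟨PC, hPC⟩ := ih hUS.2 C hkC EC
    let j : Q.carrier →ₗ[R] X.carrier := (LinearMap.ker f).liftQ f le_rfl
    have hjq : ∀ w, j (quotMk 𝒜 X.gr hK w) = f w := fun w => rfl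
    have hj : GrLC.IsGrHomDeg Q.gr X.gr j 1 := by
      rintro b _ ⟨w, hw, rfl⟩
      exact hf b w hw
    have h1 : ∀ g, chiAt E a N g = chiAt EK a N g + chiAt EQ a N g := fun g => by
      have := chiAt_additive hpos a ha hN (A := K) (B := X) (C := Q) (f := subIncl 𝒜 X.gr hK) (g := quotMk 𝒜 X.gr hK)
        ((isGrHom_iff _ _).1 (subIncl_grHom 𝒜 X.gr hK)) (quotMk_grHom 𝒜 X.gr hK) (subIncl_injective 𝒜 X.gr hK)
        (fun b => by rw [← LinearMap.mem_ker, ker_quotMk, ← LinearMap.mem_range, range_subIncl])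
        (quotMk_surjective 𝒜 X.gr hK) EK E EQ g
      rwa [add_zero] at this
    have h2 : ∀ g, chiAt E a N (g + 1) = chiAt EQ a N g + chiAt EC a N (g + 1) := fun g =>
      chiAt_additive hpos a ha hN (A := Q) (B := X) (C := C) (f := j) (g := quotMk 𝒜 X.gr hI) hj
        (quotMk_grHom 𝒜 X.gr hI)
        (LinearMap.ker_eq_bot.1 (Submodule.ker_liftQ_eq_bot _ _ _ le_rfl))
        (fun b => by
          rw [← LinearMap.mem_ker, ker_quotMk]
          constructor
          · rintro ⟨w, rfl⟩; exact ⟨quotMk 𝒜 X.gr hK w, hjq w⟩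
          · rintro ⟨v, rfl⟩
            obtain ⟨w, rfl⟩ := quotMk_surjective 𝒜 X.gr hK v
            exact ⟨w, (hjq w).symm⟩)
        (quotMk_surjective 𝒜 X.gr hI) EQ E EC g
    refine exists_poly_of_diff _ (PC.comp (Polynomial.X + 1) - PK) fun g => ?_
    rw [h2, h1 g, hPK, hPC, Polynomial.eval_sub, Polynomial.eval_comp, Polynomial.eval_add, Polynomial.eval_X,
      Polynomial.eval_one]
    push_cast
    ring

include hpos ha hN in
/-- The characteristic is the Hilbert polynomial. -/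
theorem chiAt_eq_eval (hstd : a.toIdeal = Ideal.span ((𝒜 1 : AddSubgroup R) : Set R))
    (X : GrLC.GMod.{u} 𝒜) [Module.Finite R X.carrier] (E : GrLC.StarInjRes 𝒜 X.gr) (P : Polynomial ℚ)
    (hP : ∃ M : ℤ, ∀ n : ℤ, M ≤ n → P.eval (n : ℚ) = qlen (GrLC.deg0 𝒜) (GrLC.comp 𝒜 X.gr n)) (g : ℤ) :
    chiAt E a N g = P.eval (g : ℚ) := by
  obtain ⟨Q, hQ⟩ := exists_poly_chiAt hpos a ha hN hstd X E
  obtain ⟨M, hM⟩ := hP
  choose r hr using fun i => (pieces_finite_vanish hpos a ha i X E).2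
  let B := M + ∑ i ∈ Finset.range (N + 1), |r i - M|
  have hMB : M ≤ B := le_add_of_nonneg_right (Finset.sum_nonneg fun i _ => abs_nonneg _)
  have hrB : ∀ i ∈ Finset.range (N + 1), r i ≤ B := fun i hi => by
    have h2 : |r i - M| ≤ ∑ j ∈ Finset.range (N + 1), |r j - M| :=
      Finset.single_le_sum (f := fun j => |r j - M|) (fun j _ => abs_nonneg _) hi
    have h3 := le_abs_self (r i - M)
    omega
  have hPQ : P = Q := by
    refine Polynomial.eq_of_infinite_eval_eq P Q (Set.Infinite.mono (s := Set.range fun k : ℕ => ((B + k : ℤ) : ℚ)) ?_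
      (Set.infinite_range_of_injective fun x y h => by simpa using h))
    rintro _ ⟨k, rfl⟩
    show P.eval _ = Q.eval _
    rw [← hQ, hM _ (by omega)]
    unfold chiAt
    rw [Finset.sum_eq_zero fun i hi => by
      rw [qlen_eq_zero_of_bot (hr i _ (by have := hrB i hi; omega)), mul_zero], sub_zero]
  rw [hQ, hPQ]

omit [IsArtinianRing (GrLC.deg0 𝒜)] [IsNoetherianRing R] in
/-- Cohomology only sees the torsion functor. -/
theorem qlen_hcomp_congr {M : Type u} [AddCommGroup M] [Module R M] {ℳ : ℤ → AddSubgroup M}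
    [Decomposition ℳ] [SetLike.GradedSMul 𝒜 ℳ] (E : GrLC.StarInjRes 𝒜 ℳ) {a b : HomogeneousIdeal 𝒜}
    (h : ∀ n, GrLC.gam a.toIdeal (E.X n).carrier = GrLC.gam b.toIdeal (E.X n).carrier) (i : ℕ) (g : ℤ) :
    qlen (GrLC.deg0 𝒜) (E.Hcomp a i g) = qlen (GrLC.deg0 𝒜) (E.Hcomp b i g) := by
  have hZ : E.cocyc a i = E.cocyc b i := by simp only [GrLC.StarInjRes.cocyc, h]
  have hB : E.cobdy a i = E.cobdy b i := by
    cases i with
    | zero => rfl
    | succ k => simp only [GrLC.StarInjRes.cobdy, h]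
  let eZ := LinearEquiv.ofEq _ _ hZ
  let e : E.H a i ≃ₗ[R] E.H b i := Submodule.Quotient.equiv ((E.cobdy a i).comap (E.cocyc a i).subtype)
    ((E.cobdy b i).comap (E.cocyc b i).subtype) eZ (by
      ext z
      constructor
      · rintro ⟨w, hw, rfl⟩
        exact hB.le hw
      · intro hz
        exact ⟨eZ.symm z, hB.ge hz, eZ.apply_symm_apply z⟩)
  refine qlen_congr (A := GrLC.deg0 𝒜)
    { toFun := fun x => ⟨e x.1, ?_⟩
      invFun := fun y => ⟨e.symm y.1, ?_⟩
      left_inv := fun x => Subtype.ext (e.symm_apply_apply x.1)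
      right_inv := fun y => Subtype.ext (e.apply_symm_apply y.1)
      map_add' := fun x y => Subtype.ext (map_add e x.1 y.1)
      map_smul' := fun c x => Subtype.ext (map_smul e (c : R) x.1) }
  · obtain ⟨z, hz, hzx⟩ := x.2
    exact ⟨eZ z, hz, by rw [← hzx]; rfl⟩
  · obtain ⟨z, hz, hzy⟩ := y.2
    refine ⟨eZ.symm z, hz, e.injective ?_⟩
    rw [e.apply_symm_apply, ← hzy]
    rfl

/-- The Serre–Grothendieck formula at the *maximal ideal. -/
theorem hilbert_sub_eval (hpos : ∀ n : ℤ, n < 0 → 𝒜 n = ⊥)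
    (hstd : Ideal.span (⋃ n ∈ Set.Ioi (0 : ℤ), (𝒜 n : Set R)) = Ideal.span ((𝒜 1 : AddSubgroup R) : Set R))
    {m : HomogeneousIdeal 𝒜} (hm : GrLC.IsStarLocal 𝒜 m) {d : ℕ} (hd : ringKrullDim R = d)
    {M : Type u} [AddCommGroup M] [Module R M] [Module.Finite R M] {ℳ : ℤ → AddSubgroup M}
    [Decomposition ℳ] [SetLike.GradedSMul 𝒜 ℳ] (E : GrLC.StarInjRes 𝒜 ℳ) (P : Polynomial ℚ)
    (hP : ∃ N : ℤ, ∀ n : ℤ, N ≤ n → P.eval (n : ℚ) = qlen (GrLC.deg0 𝒜) (GrLC.comp 𝒜 ℳ n)) (g : ℤ) :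
    qlen (GrLC.deg0 𝒜) (GrLC.comp 𝒜 ℳ g) - P.eval (g : ℚ) =
      ∑ i ∈ Finset.range (d + 1), (-1 : ℚ) ^ i * qlen (GrLC.deg0 𝒜) (E.Hcomp m i g) := by
  let X : GrLC.GMod.{u} 𝒜 := GrLC.GMod.of 𝒜 M ℳ
  haveI : Module.Finite R X.carrier := inferInstanceAs (Module.Finite R M)
  obtain ⟨N, hN⟩ := exists_pow_le_irr hpos hm
  have hgam : ∀ (Y : Type u) [AddCommGroup Y] [Module R Y],
      GrLC.gam (irrH 𝒜).toIdeal Y = GrLC.gam m.toIdeal Y := by
    intro Y _ _
    refine le_antisymm ?_ ?_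
    · rintro x ⟨k, hk⟩
      refine ⟨N * k, fun r hr => hk r ?_⟩
      rw [pow_mul] at hr
      exact Ideal.pow_right_mono hN k hr
    · rintro x ⟨k, hk⟩
      exact ⟨k, fun r hr => hk r (Ideal.pow_right_mono (GrFieldLib.StarLocal.irr_le hpos hm) k hr)⟩
  rw [← chiAt_eq_eval (GrFieldLib.eq_zero_of_neg hpos) (irrH 𝒜) rfl hd hstd X
    (E : GrLC.StarInjRes 𝒜 X.gr) P hP g]
  unfold chiAt
  refine (sub_sub_cancel _ _).trans ?_
  refine Finset.sum_congr rfl fun i _ => congrArg ((-1 : ℚ) ^ i * ·) ?_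
  exact qlen_hcomp_congr (E : GrLC.StarInjRes 𝒜 X.gr) (fun n => hgam _) i g

end Groth.Agent.GrCoreLib
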