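import Mathlib
import Groth.Agent.GrCoreLib.VeroneseGor

/-! The pairing between a Gorenstein graded ring and its top local cohomology. -/

set_option autoImplicit false
set_option linter.style.haveILetI false
set_option linter.unusedSectionVars false
universe u

open DirectSum GrInjLib

namespace Groth.Agent.GrCoreLib

/-- Two finite spaces paired nondegenerately into a line have the same dimension. -/
theorem finrank_eq_of_pairing {K V W L : Type*} [Field K] [AddCommGroup V] [Module K V] [AddCommGroup W]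
    [Module K W] [AddCommGroup L] [Module K L] (hL : Module.finrank K L = 1) [Module.Finite K W]
    (P : V →ₗ[K] W →ₗ[K] L) (hV : Function.Injective P) (hW : Function.Injective P.flip) :
    Module.finrank K V = Module.finrank K W := by
  haveI : Module.Finite K L := Module.finite_of_finrank_eq_succ hL
  haveI : Module.Finite K V := Module.Finite.of_injective P hV
  refine le_antisymm ?_ ?_
  · have := LinearMap.finrank_le_finrank_of_injective hV
    rwa [Module.finrank_linearMap, hL, mul_one] at this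
  · have := LinearMap.finrank_le_finrank_of_injective hW
    rwa [Module.finrank_linearMap, hL, mul_one] at this

variable {R : Type u} [CommRing R] [LocCoh.IsGorensteinRing R] {𝒜 : ℤ → AddSubgroup R} [GradedRing 𝒜]
  (hpos : ∀ n : ℤ, n < 0 → 𝒜 n = ⊥) (h0 : IsField (GrLC.deg0 𝒜)) {m : HomogeneousIdeal 𝒜}
  (hm : GrLC.IsStarLocal 𝒜 m) (hmsp : m.toIdeal = GrFieldLib.irr 𝒜) {n : ℕ} (hn : ringKrullDim R = n)
  (I : GrLC.StarInjRes 𝒜 𝒜) {a : ℤ}
  (ha : GrLC.endDeg (I.Hgr m n) = ((a : WithTop ℤ) : WithBot (WithTop ℤ)))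

include hpos h0 hm hmsp hn ha in
/-- Graded local duality for a Gorenstein ring over a field, piece by piece. -/
theorem gorenstein_pairing :
    Module.finrank (GrLC.deg0 𝒜) (I.Hcomp m n a) = 1 ∧
      (∀ k, ∀ x ∈ I.Hgr m n k, x ≠ 0 → k ≤ a ∧ ∃ r ∈ 𝒜 (a - k), r • x ≠ 0) ∧
      ∀ ρ : ℤ, Module.Finite (GrLC.deg0 𝒜) (I.Hcomp m n (a - ρ)) ∧
        Module.finrank (GrLC.deg0 𝒜) (I.Hcomp m n (a - ρ)) =
          Module.finrank (GrLC.deg0 𝒜) (GrLC.comp 𝒜 𝒜 ρ) := by
  classical
  haveI := isPrime_of_starLocal hm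
  letI : Field (GrLC.deg0 𝒜) := h0.toField
  have hht : m.toIdeal.height = n := by
    have h := (GrFieldLib.height_irr 𝒜 hpos h0).trans hn
    rw [← hmsp] at h
    exact_mod_cast h
  obtain ⟨hinj, d, y₀, hy1, hy2, hy3, hd2⟩ := exists_socle_degree hpos hm hmsp hht I
  have hda : d = a := socle_degree_eq_end ⟨y₀, hy1, hy2⟩ (fun k x hx hx0 => (hd2 k x hx hx0).1) ha
  subst hda
  let H := HMod I m n
  have hkill : ∀ r ∈ m.toIdeal, r • y₀ = 0 := by
    intro r hr
    rw [hmsp] at hr
    induction hr using Submodule.span_induction with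
    | mem s hs =>
      obtain ⟨e, he, hse⟩ := Set.mem_iUnion₂.1 hs
      by_contra hne
      have h1 := (hd2 _ _ (smul_mem 𝒜 H.gr hse (hy1 : (y₀ : H.carrier) ∈ H.gr d)) hne).1
      have : (0 : ℤ) < e := he
      omega
    | zero => exact zero_smul _ _
    | add p p' _ _ hp hp' => rw [add_smul, hp, hp', add_zero]
    | smul c p _ hp => rw [smul_eq_mul, mul_smul, hp, smul_zero]
  have hone : Module.finrank (GrLC.deg0 𝒜) (I.Hcomp m n d) = 1 := by
    refine finrank_eq_one ⟨y₀, hy1⟩ (fun h => hy2 (congrArg Subtype.val h)) fun w => ?_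
    obtain ⟨c, hc⟩ := hy3 w.1 w.2
    refine ⟨⟨_, (decompose 𝒜 c 0).2⟩, Subtype.ext ?_⟩
    show (decompose 𝒜 c 0 : R) • y₀ = w.1
    rw [← hc]
    have hsub : c - (decompose 𝒜 c 0 : R) ∈ m.toIdeal := by
      rw [hmsp]
      clear hc
      induction c using smul_induction 𝒜 with
      | h0 => simp
      | hadd r s hr hs =>
        rw [decompose_add, DirectSum.add_apply, AddSubgroup.coe_add, add_sub_add_comm]
        exact add_mem hr hs
      | hhom b r hr =>
        rcases lt_trichotomy b 0 with hb | hb | hb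
        · rw [hpos b hb, AddSubgroup.mem_bot] at hr
          rw [hr]; simp
        · subst hb; rw [decompose_of_mem_same 𝒜 hr, sub_self]; exact zero_mem _
        · rw [decompose_of_mem_ne 𝒜 hr hb.ne', sub_zero]
          exact Ideal.subset_span (Set.mem_iUnion₂.2 ⟨b, hb, hr⟩)
    have h := hkill _ hsub
    rw [sub_smul, sub_eq_zero] at h
    exact h.symm
  refine ⟨hone, hd2, fun ρ => ?_⟩
  haveI : IsNoetherian (GrLC.deg0 𝒜) (GrLC.comp 𝒜 𝒜 ρ) := isNoetherian_comp 𝒜 𝒜 ρ
  let P : I.Hcomp m n (d - ρ) →ₗ[GrLC.deg0 𝒜] GrLC.comp 𝒜 𝒜 ρ →ₗ[GrLC.deg0 𝒜] I.Hcomp m n d :=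
    LinearMap.mk₂ _ (fun x r => ⟨(r : R) • x.1, by
        have h : (r : R) • (x.1 : H.carrier) ∈ H.gr (ρ + (d - ρ)) := smul_mem 𝒜 H.gr r.2 x.2
        rwa [add_sub_cancel] at h⟩)
      (fun x x' r => Subtype.ext (smul_add _ _ _))
      (fun c x r => Subtype.ext (show (r : R) • ((c : R) • x.1) = (c : R) • ((r : R) • x.1) from smul_comm _ _ _))
      (fun x r r' => Subtype.ext (add_smul _ _ _))
      (fun c x r => Subtype.ext (show ((c : R) • (r : R)) • x.1 = (c : R) • ((r : R) • x.1) from smul_assoc _ _ _))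
  have hP : Function.Injective P := by
    refine (injective_iff_map_eq_zero P).2 fun x hx => Subtype.ext ?_
    by_contra hne
    obtain ⟨-, r, hr, hrx⟩ := hd2 _ x.1 x.2 hne
    rw [sub_sub_cancel] at hr
    exact hrx (congrArg Subtype.val (LinearMap.congr_fun hx ⟨r, hr⟩))
  haveI : Module.Finite (GrLC.deg0 𝒜) (I.Hcomp m n d) := Module.finite_of_finrank_eq_succ hone
  refine ⟨Module.Finite.of_injective P hP, finrank_eq_of_pairing hone P hP ?_⟩
  refine (injective_iff_map_eq_zero P.flip).2 fun r hr => ?_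
  by_contra hne
  have hr0 : (r : R) ≠ 0 := fun h => hne (Subtype.ext h)
  letI := (shift_isInternal (ringPieces 𝒜) (-ρ)).chooseDecomposition
  let f : R →ₗ[R] R := LinearMap.toSpanSingleton R R (r : R)
  have hf : GrLC.IsGrHom (shiftPieces (ringPieces 𝒜) (-ρ)) (ringPieces 𝒜) f := fun j c hc => by
    show c * (r : R) ∈ 𝒜 j
    have := SetLike.GradedMul.mul_mem (A := 𝒜) (hc : c ∈ 𝒜 (j + -ρ)) r.2
    rwa [neg_add_cancel_right] at this
  have hg : GrLC.IsGrHomDeg (shiftPieces (ringPieces 𝒜) (-ρ)) H.gr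
      (LinearMap.toSpanSingleton R H.carrier y₀) (d - ρ) := fun j c hc => by
    rw [LinearMap.toSpanSingleton_apply]
    have := smul_mem 𝒜 H.gr (hc : c ∈ 𝒜 (j + -ρ)) (hy1 : (y₀ : H.carrier) ∈ H.gr d)
    rwa [show j + -ρ + d = j + (d - ρ) by ring] at this
  have hker : ∀ c, f c = 0 → LinearMap.toSpanSingleton R H.carrier y₀ c = 0 := fun c hc => by
    rw [LinearMap.toSpanSingleton_apply]
    refine hkill c ?_
    rw [hmsp]
    rw [← DirectSum.sum_support_decompose 𝒜 c]
    refine Ideal.sum_mem _ fun b _ => ?_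
    rcases lt_trichotomy b 0 with hb | hb | hb
    · have h0b := (decompose 𝒜 c b).2
      simp only [hpos b hb, AddSubgroup.mem_bot] at h0b
      rw [h0b]; exact zero_mem _
    · subst hb
      have h1 : (decompose 𝒜 c 0 : R) * (r : R) = 0 := by
        have := coe_decompose_mul_add_of_right_mem 𝒜 (a := c) (i := 0) r.2
        rw [zero_add, show c * (r : R) = 0 from hc, decompose_zero] at this
        simpa using this.symm
      by_cases hz : (⟨_, (decompose 𝒜 c 0).2⟩ : GrLC.deg0 𝒜) = 0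
      · rw [show ((decompose 𝒜 c 0 : R)) = 0 from congrArg Subtype.val hz]; exact zero_mem _
      · obtain ⟨w, hw⟩ := h0.mul_inv_cancel hz
        refine absurd ?_ hr0
        have hw' : (decompose 𝒜 c 0 : R) * (w : R) = 1 := congrArg Subtype.val hw
        calc (r : R) = ((decompose 𝒜 c 0 : R) * (w : R)) * r := by rw [hw', one_mul]
          _ = (w : R) * ((decompose 𝒜 c 0 : R) * r) := by ring
          _ = 0 := by rw [h1, mul_zero]
    · exact Ideal.subset_span (Set.mem_iUnion₂.2 ⟨b, hb, (decompose 𝒜 c b).2⟩)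
  obtain ⟨h, hh, hhf⟩ := factor_deg 𝒜 (shiftPieces (ringPieces 𝒜) (-ρ)) (ringPieces 𝒜) hinj hf hg hker
  have hx : h 1 ∈ H.gr (d - ρ) := by
    have := hh 0 1 (SetLike.GradedOne.one_mem (A := 𝒜))
    rwa [zero_add] at this
  have h1 : (r : R) • h 1 = (y₀ : H.carrier) := by
    rw [← map_smul, smul_eq_mul, mul_one]
    have := LinearMap.congr_fun hhf 1
    simp only [LinearMap.comp_apply, LinearMap.toSpanSingleton_apply, one_smul, f] at this
    simpa using this
  exact hy2 (h1.symm.trans (congrArg Subtype.val (LinearMap.congr_fun hr (⟨h 1, hx⟩ : I.Hcomp m n (d - ρ)))))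

end Groth.Agent.GrCoreLib
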