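import Mathlib
import Groth.Agent.GrFieldLib.RegSeq
import Groth.Agent.GrCoreLib.AInv
import Groth.Agent.GrCoreLib.VeroneseGor
import Groth.Agent.QRegLib.Basic

/-! Regular sequences of linear forms over an Artinian base with infinite residue field. -/

set_option autoImplicit false
set_option linter.style.haveILetI false
set_option linter.unusedSectionVars false
universe u

open DirectSum GrInjLib RingTheory.Sequence
open scoped Pointwise

namespace Groth.Agent.GrCoreLib

variable {R : Type u} [CommRing R] [IsNoetherianRing R] {𝒜 : ℤ → AddSubgroup R} [GradedRing 𝒜]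
  {m : HomogeneousIdeal 𝒜}

theorem exists_linear_avoid (hpos : ∀ n : ℤ, n < 0 → 𝒜 n = ⊥) (hm : GrLC.IsStarLocal 𝒜 m)
    (hinf : Infinite (R ⧸ m.toIdeal)) (P : Finset (Ideal R))
    (hP : ∀ p ∈ P, p.IsPrime ∧ ∃ w ∈ 𝒜 1, w ∉ p) : ∃ x ∈ 𝒜 1, ∀ p ∈ P, x ∉ p := by
  classical
  -- representatives of the residue field in degree zero
  have hrep : ∀ y : R ⧸ m.toIdeal, ∃ t : R, t ∈ 𝒜 0 ∧ Ideal.Quotient.mk m.toIdeal t = y := by
    intro y
    obtain ⟨c, rfl⟩ := Ideal.Quotient.mk_surjective y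
    refine ⟨(decompose 𝒜 c 0 : R), (decompose 𝒜 c 0).2, ?_⟩
    induction c using smul_induction 𝒜 with
    | h0 => simp
    | hadd r s hr hs => rw [decompose_add, DirectSum.add_apply, AddSubgroup.coe_add, map_add, hr, hs, map_add]
    | hhom b r hr =>
      rcases lt_trichotomy b 0 with hb | hb | hb
      · rw [GrFieldLib.eq_zero_of_neg hpos b hb r hr]; simp
      · subst hb; rw [decompose_of_mem_same 𝒜 hr]
      · rw [decompose_of_mem_ne 𝒜 hr hb.ne', map_zero, eq_comm, Ideal.Quotient.eq_zero_iff_mem]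
        exact GrFieldLib.StarLocal.irr_le hpos hm (Ideal.subset_span (Set.mem_iUnion₂.2 ⟨b, hb, hr⟩))
  choose t ht0 htq using hrep
  induction P using Finset.induction_on with
  | empty => exact ⟨0, zero_mem _, fun p hp => absurd hp (Finset.notMem_empty p)⟩
  | insert p P hpP ih =>
    obtain ⟨v, hv, hvP⟩ := ih fun q hq => hP q (Finset.mem_insert_of_mem hq)
    obtain ⟨hpp, w, hw, hwp⟩ := hP p (Finset.mem_insert_self p P)
    -- each prime excludes at most one scalar
    have hbad : ∀ q ∈ insert p P, {y : R ⧸ m.toIdeal | v + t y * w ∈ q}.Subsingleton := by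
      intro q hq y hy y' hy'
      by_contra hne
      obtain ⟨hqq, -⟩ := hP q hq
      have hsub : (t y - t y') * w ∈ q := by
        have := q.sub_mem hy hy'
        rwa [add_sub_add_left_eq_sub, ← sub_mul] at this
      have hunit : IsUnit (t y - t y') := isUnit_of_notMem hm (sub_mem (ht0 y) (ht0 y')) fun h => hne (by
        rw [← htq y, ← htq y']
        exact Ideal.Quotient.eq.2 h)
      have hwq : w ∈ q := (hqq.mem_or_mem hsub).resolve_left fun h => hqq.ne_top (q.eq_top_of_isUnit_mem h hunit)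
      rcases Finset.mem_insert.1 hq with rfl | hqP
      · exact hwp hwq
      · refine hvP q hqP ?_
        have := q.sub_mem hy (q.mul_mem_left (t y) hwq)
        rwa [add_sub_cancel_right] at this
    obtain ⟨y, hy⟩ := ((insert p P).finite_toSet.biUnion fun q hq => (hbad q hq).finite).infinite_compl.nonempty
    refine ⟨v + t y * w, add_mem hv ?_, fun q hq hmem => hy (Set.mem_iUnion₂.2 ⟨q, hq, hmem⟩)⟩
    have := SetLike.GradedMul.mul_mem (A := 𝒜) (ht0 y) hw
    rwa [zero_add] at this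

theorem irr_le_radical' (hm : GrLC.IsStarLocal 𝒜 m) (hpos : ∀ n : ℤ, n < 0 → 𝒜 n = ⊥) {J : Ideal R}
    (hJ : J.IsHomogeneous 𝒜) (hd : ringKrullDim (R ⧸ J) ≤ 0) : GrFieldLib.irr 𝒜 ≤ J.radical := by
  rw [Ideal.radical_eq_sInf]
  refine le_sInf fun q hq => ?_
  obtain ⟨hJq, hqp⟩ := hq
  haveI := hqp
  haveI hcp : (q.homogeneousCore 𝒜).toIdeal.IsPrime := (corePt 𝒜 ⟨q, hqp⟩).isPrime
  have hJc : J ≤ (q.homogeneousCore 𝒜).toIdeal := fun x hx => by
    classical
    rw [← sum_support_decompose 𝒜 x]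
    exact sum_mem fun i _ => Ideal.mem_homogeneousCore_of_homogeneous_of_mem ⟨i, (decompose 𝒜 x i).2⟩ (hJq (hJ i hx))
  haveI : Ring.KrullDimLE 0 (R ⧸ (q.homogeneousCore 𝒜).toIdeal) := Ring.krullDimLE_iff.2
    ((ringKrullDim_le_of_surjective (Ideal.Quotient.factor hJc) (Ideal.Quotient.factor_surjective hJc)).trans hd)
  have hmax : (q.homogeneousCore 𝒜).toIdeal.IsMaximal :=
    Ideal.Quotient.maximal_of_isField _ Ring.KrullDimLE.isField_of_isDomain
  have hle := le_of_homogeneous hm (q.homogeneousCore 𝒜).isHomogeneous hmax.ne_top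
  have heq := hmax.eq_of_le (fun e => hm.1.1 (HomogeneousIdeal.toIdeal_injective (by simpa using e))) hle
  exact (GrFieldLib.StarLocal.irr_le hpos hm).trans (heq.ge.trans (Ideal.toIdeal_homogeneousCore_le 𝒜 q))

variable (hpos : ∀ n : ℤ, n < 0 → 𝒜 n = ⊥) (hm : GrLC.IsStarLocal 𝒜 m) (hinf : Infinite (R ⧸ m.toIdeal))
  {a : HomogeneousIdeal 𝒜} (ha : a.toIdeal = GrFieldLib.irr 𝒜)
  (hstd : GrFieldLib.irr 𝒜 = Ideal.span ((𝒜 1 : AddSubgroup R) : Set R))

include hpos hm hinf ha hstd in
/-- Regular sequences of linear forms cutting down to dimension zero. -/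
theorem exists_linear_seq_aux : ∀ (n : ℕ) (J : Ideal R) (hJ : J.IsHomogeneous 𝒜),
    ringKrullDim (R ⧸ J) ≤ n →
    (∀ i, i < n → ∀ g, Van a (quotG 𝒜 (ringPieces 𝒜) (ideal_homogeneous 𝒜 hJ)) i g) →
    ∃ L : List R, (∀ y ∈ L, y ∈ 𝒜 1) ∧ L.length = n ∧ IsWeaklyRegular (R ⧸ J) L ∧
      GrFieldLib.irr 𝒜 ≤ (J ⊔ Ideal.ofList L).radical := by
  intro n
  induction n with
  | zero =>
    intro J hJ hd _
    refine ⟨[], by simp, rfl, IsWeaklyRegular.nil R _, ?_⟩
    simpa using irr_le_radical' hm hpos hJ hd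
  | succ n ih =>
    intro J hJ hd hvan
    let N := quotG 𝒜 (ringPieces 𝒜) (ideal_homogeneous 𝒜 hJ)
    haveI : Module.Finite R N.carrier :=
      Module.Finite.of_surjective (quotMk 𝒜 (ringPieces 𝒜) (ideal_homogeneous 𝒜 hJ))
        (quotMk_surjective 𝒜 (ringPieces 𝒜) (ideal_homogeneous 𝒜 hJ))
    have hgam : GrLC.gam a.toIdeal N.carrier = ⊥ := by
      refine (Submodule.eq_bot_iff _).2 fun y hy => ?_
      classical
      rw [← sum_support_decompose N.gr y]
      exact Finset.sum_eq_zero fun g _ => eq_zero_of_van_zero (hvan 0 (by omega) g)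
        (decompose N.gr y g).2 (gam_homogeneous N.gr a g hy)
    obtain ⟨x, hx, hxP⟩ := exists_linear_avoid hpos hm hinf (associatedPrimes.finite R N.carrier).toFinset
      (fun p hp => by
        rw [Set.Finite.mem_toFinset] at hp
        obtain ⟨hprime, v, hv⟩ := Submodule.isAssociatedPrime_iff.1 hp
        refine ⟨hprime, ?_⟩
        by_contra! hle
        have hap : a.toIdeal ≤ p := by
          rw [ha, hstd]
          exact Ideal.span_le.2 hle
        have hv0 : v ∈ GrLC.gam a.toIdeal N.carrier := ⟨1, fun r hr => by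
          rw [pow_one] at hr
          have := hap hr
          rw [hv, Submodule.mem_colon_singleton] at this
          exact (Submodule.mem_bot R).1 this⟩
        rw [hgam, Submodule.mem_bot] at hv0
        refine hprime.ne_top ?_
        rw [hv, Ideal.eq_top_iff_one, Submodule.mem_colon_singleton, hv0, smul_zero]
        exact zero_mem _)
    have hreg : IsSMulRegular N.carrier x := by
      refine (isSMulRegular_iff_right_eq_zero_of_smul).2 fun y hy => ?_
      by_contra hne
      obtain ⟨p, hp, hle⟩ := exists_le_isAssociatedPrime_of_isNoetherianRing R y hne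
      refine hxP p ((Set.Finite.mem_toFinset _).2 hp) (hle ?_)
      rw [Submodule.mem_colon_singleton]
      exact (Submodule.mem_bot R).2 hy
    have hK : (J ⊔ Ideal.span {x}).IsHomogeneous 𝒜 := hJ.sup (Ideal.homogeneous_span 𝒜 _
      fun y hy => ⟨(1 : ℤ), by rw [Set.mem_singleton_iff.1 hy]; exact hx⟩)
    have hxJ : ∀ z : R, x * z ∈ J → z ∈ J := fun z hz => by
      have h1 := (isSMulRegular_iff_right_eq_zero_of_smul).1 hreg
        (quotMk 𝒜 (ringPieces 𝒜) (ideal_homogeneous 𝒜 hJ) z) (by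
          rw [← map_smul, smul_eq_mul, ← LinearMap.mem_ker, ker_quotMk]
          exact hz)
      rwa [← LinearMap.mem_ker, ker_quotMk] at h1
    have hd' : ringKrullDim (R ⧸ (J ⊔ Ideal.span {x})) ≤ n := by
      have hnz : Ideal.Quotient.mk J x ∈ nonZeroDivisors (R ⧸ J) := by
        refine mem_nonZeroDivisors_iff_right.2 fun z hz => ?_
        obtain ⟨z, rfl⟩ := Ideal.Quotient.mk_surjective z
        rw [← map_mul, Ideal.Quotient.eq_zero_iff_mem, mul_comm] at hz
        exact Ideal.Quotient.eq_zero_iff_mem.2 (hxJ z hz)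
      have h1 := (ringKrullDim_quotient_succ_le_of_nonZeroDivisor hnz).trans hd
      have h2 : ringKrullDim (R ⧸ (J ⊔ Ideal.span {x})) =
          ringKrullDim ((R ⧸ J) ⧸ Ideal.span {Ideal.Quotient.mk J x}) := by
        rw [← Set.image_singleton, ← Ideal.map_span]
        exact (ringKrullDim_eq_of_ringEquiv (DoubleQuot.quotQuotEquivQuotSup J _)).symm
      rw [h2]
      push_cast at h1
      exact ENat.WithBot.add_le_add_one_right_iff.1 h1
    let N' := quotG 𝒜 (ringPieces 𝒜) (ideal_homogeneous 𝒜 hK)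
    let π : N.carrier →ₗ[R] N'.carrier := Submodule.liftQ J
      (quotMk 𝒜 (ringPieces 𝒜) (ideal_homogeneous 𝒜 hK))
      (le_sup_left.trans (ker_quotMk 𝒜 (ringPieces 𝒜) (ideal_homogeneous 𝒜 hK)).ge)
    have hπs : Function.Surjective π := fun y => by
      obtain ⟨z, rfl⟩ := quotMk_surjective 𝒜 (ringPieces 𝒜) (ideal_homogeneous 𝒜 hK) y
      exact ⟨quotMk 𝒜 (ringPieces 𝒜) (ideal_homogeneous 𝒜 hJ) z, rfl⟩
    have hπg : GrLC.IsGrHom N.gr N'.gr π := by
      rintro g _ ⟨z, hz, rfl⟩
      exact ⟨z, hz, rfl⟩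
    have hπk : LinearMap.ker π =
        LinearMap.range (x • (LinearMap.id : N.carrier →ₗ[R] N.carrier)) := by
      ext y
      obtain ⟨z, rfl⟩ := quotMk_surjective 𝒜 (ringPieces 𝒜) (ideal_homogeneous 𝒜 hJ) y
      rw [LinearMap.mem_ker, LinearMap.mem_range,
        show π (quotMk 𝒜 (ringPieces 𝒜) (ideal_homogeneous 𝒜 hJ) z) =
          quotMk 𝒜 (ringPieces 𝒜) (ideal_homogeneous 𝒜 hK) z from rfl,
        ← LinearMap.mem_ker, ker_quotMk]
      constructor
      · intro hz
        obtain ⟨p, hp, b, hb, rfl⟩ := Submodule.mem_sup.1 hz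
        obtain ⟨c, rfl⟩ := Ideal.mem_span_singleton'.1 hb
        refine ⟨quotMk 𝒜 (ringPieces 𝒜) (ideal_homogeneous 𝒜 hJ) c, ?_⟩
        rw [map_add, LinearMap.mem_ker.1 ((ker_quotMk 𝒜 (ringPieces 𝒜)
          (ideal_homogeneous 𝒜 hJ)).ge hp), zero_add, mul_comm]
        exact (map_smul (quotMk 𝒜 (ringPieces 𝒜) (ideal_homogeneous 𝒜 hJ)) x c).symm
      · rintro ⟨w, hw⟩
        obtain ⟨c, rfl⟩ := quotMk_surjective 𝒜 (ringPieces 𝒜) (ideal_homogeneous 𝒜 hJ) w
        have h1 : z - x * c ∈ J := by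
          rw [← ker_quotMk 𝒜 (ringPieces 𝒜) (ideal_homogeneous 𝒜 hJ), LinearMap.mem_ker, map_sub,
            ← hw, ← smul_eq_mul, map_smul]
          exact sub_self _
        have := Submodule.add_mem_sup h1
          (Ideal.mem_span_singleton'.2 ⟨c, mul_comm c x⟩ : x * c ∈ Ideal.span {x})
        rwa [sub_add_cancel] at this
    obtain ⟨L, hL, hlen, hwr, hrad⟩ := ih (J ⊔ Ideal.span {x}) hK hd'
      (GrFieldLib.van_quot_below (m := a) (M := N) (N := N') hx hreg hπs hπg hπk hvan)
    refine ⟨x :: L, fun p hp => ?_, by simp [hlen], ?_, ?_⟩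
    · rcases List.mem_cons.1 hp with rfl | hp
      · exact hx
      · exact hL p hp
    · rw [isWeaklyRegular_cons_iff]
      have hr : LinearMap.range (x • (LinearMap.id : N.carrier →ₗ[R] N.carrier)) =
          x • (⊤ : Submodule R N.carrier) := by
        ext z
        simp [Submodule.mem_smul_pointwise_iff_exists]
      let eN : QuotSMulTop x N.carrier ≃ₗ[R] N'.carrier :=
        (Submodule.quotEquivOfEq _ _ ((hπk.trans hr)).symm).trans (π.quotKerEquivOfSurjective hπs)
      exact ⟨hreg, (LinearEquiv.isWeaklyRegular_congr eN _).2 hwr⟩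
    · rw [Ideal.ofList_cons, ← sup_assoc]
      exact hrad

include hpos in
/-- Weakly regular linear forms are algebraically independent over the degree zero part. -/
theorem aeval_injective_of_weaklyRegular {d : ℕ} (b : Fin d → R) (hb : ∀ i, b i ∈ 𝒜 1)
    (hwr : IsWeaklyRegular R (List.ofFn b)) :
    Function.Injective (MvPolynomial.aeval b : MvPolynomial (Fin d) (GrLC.deg0 𝒜) →ₐ[GrLC.deg0 𝒜] R) := by
  classical
  set φ : MvPolynomial (Fin d) (GrLC.deg0 𝒜) →ₐ[GrLC.deg0 𝒜] R := MvPolynomial.aeval b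
  have hmem : ∀ (e : ℕ) (p : MvPolynomial (Fin d) (GrLC.deg0 𝒜)), p.IsHomogeneous e → φ p ∈ 𝒜 (e : ℤ) := by
    intro e p hp
    rw [p.as_sum, map_sum]
    refine sum_mem fun k hk => ?_
    have hw := hp (MvPolynomial.mem_support_iff.1 hk)
    rw [MvPolynomial.aeval_monomial, Finsupp.prod_fintype _ _ fun i => pow_zero _]
    have h1 : ∏ i, b i ^ k i ∈ 𝒜 (∑ i, k i • (1 : ℤ)) :=
      SetLike.prod_pow_mem_graded 𝒜 (fun _ => (1 : ℤ)) b k fun i _ => hb i
    have h2 : ∑ i, k i • (1 : ℤ) = (e : ℤ) := by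
      rw [← hw, Finsupp.weight_apply, Finsupp.sum_fintype _ _ (fun i => by simp)]
      simp
    rw [h2] at h1
    have h3 := SetLike.GradedMul.mul_mem (A := 𝒜) (MvPolynomial.coeff k p).2 h1
    rwa [zero_add] at h3
  refine (injective_iff_map_eq_zero φ).2 fun p hp => ?_
  rw [← MvPolynomial.sum_homogeneousComponent p]
  refine Finset.sum_eq_zero fun e he => ?_
  set P := MvPolynomial.homogeneousComponent e p
  have hP : P.IsHomogeneous e := MvPolynomial.homogeneousComponent_isHomogeneous e p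
  have hP0 : φ P = 0 := by
    have h := congrArg (fun r => (decompose 𝒜 r (e : ℤ) : R)) hp
    simp only [decompose_zero, DirectSum.zero_apply, ZeroMemClass.coe_zero] at h
    rw [← MvPolynomial.sum_homogeneousComponent p, map_sum, decompose_sum, DFinsupp.finsetSum_apply,
      AddSubmonoidClass.coe_finsetSum, Finset.sum_eq_single_of_mem e he, decompose_of_mem_same 𝒜 (hmem e P hP)] at h
    · exact h
    · intro j _ hj
      rw [decompose_of_mem_ne 𝒜 (hmem j _ (MvPolynomial.homogeneousComponent_isHomogeneous j p))]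
      exact_mod_cast hj
  have hq := QRegLib.isQuasiRegular_of_isWeaklyRegular b hwr e (MvPolynomial.map (GrLC.deg0 𝒜).subtype P)
    (hP.map _) (by
      rw [MvPolynomial.eval_map]
      have : MvPolynomial.eval₂ (GrLC.deg0 𝒜).subtype b P = 0 := hP0
      rw [this]
      exact zero_mem _)
  ext k
  have hk := hq k
  rw [MvPolynomial.coeff_map] at hk
  have hle : Ideal.span (Set.range b) ≤ GrFieldLib.irr 𝒜 := Ideal.span_le.2 fun y ⟨i, hi⟩ =>
    hi ▸ Ideal.subset_span (Set.mem_iUnion₂.2 ⟨1, show (0 : ℤ) < 1 from one_pos, hb i⟩)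
  have h0 := decompose_irr_zero' hpos (hle hk)
  rw [Subring.subtype_apply, decompose_of_mem_same 𝒜 (MvPolynomial.coeff k P).2] at h0
  rw [MvPolynomial.coeff_zero]
  exact_mod_cast h0

end Groth.Agent.GrCoreLib
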