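import Mathlib
import Groth.Agent.GrInjLib.Primes

/-! A grading by subgroups of any kind as a grading by additive subgroups. -/

set_option autoImplicit false
set_option linter.style.haveILetI false
set_option linter.unusedSectionVars false
universe u

open DirectSum GrInjLib

namespace Groth.Agent.GrCoreLib.Regrade

variable {ι : Type} [AddCommGroup ι] [DecidableEq ι] {R : Type u} [CommRing R]
  {σ : Type u} [SetLike σ R] [AddSubgroupClass σ R] (𝒜 : ι → σ) [GradedRing 𝒜]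

instance gradedMonoid : SetLike.GradedMonoid (ringPieces 𝒜) where
  one_mem := (SetLike.GradedOne.one_mem (A := 𝒜) : (1 : R) ∈ 𝒜 0)
  mul_mem := fun {a b x y} hx hy => (SetLike.GradedMul.mul_mem (A := 𝒜) hx hy : x * y ∈ 𝒜 (a + b))

noncomputable instance gradedRing : GradedRing (ringPieces 𝒜) :=
  { gradedMonoid 𝒜, ringDecomposition 𝒜 with }

theorem decompose_eq (g : ι) (x : R) :
    (decompose (ringPieces 𝒜) x g : R) = (decompose 𝒜 x g : R) := proj_ringPieces 𝒜 g x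

theorem isHomogeneous_iff (I : Ideal R) : I.IsHomogeneous (ringPieces 𝒜) ↔ I.IsHomogeneous 𝒜 := by
  constructor
  · intro h g x hx
    show (decompose 𝒜 x g : R) ∈ I
    rw [← decompose_eq]
    exact h g hx
  · intro h g x hx
    show (decompose (ringPieces 𝒜) x g : R) ∈ I
    rw [decompose_eq]
    exact h g hx

variable {𝒜}

/-- A homogeneous ideal for the new grading. -/
def toA (m : HomogeneousIdeal 𝒜) : HomogeneousIdeal (ringPieces 𝒜) :=
  ⟨m.toIdeal, (isHomogeneous_iff 𝒜 _).2 m.isHomogeneous⟩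

theorem isStarLocal (m : HomogeneousIdeal 𝒜) (hm : GrLC.IsStarLocal 𝒜 m) :
    GrLC.IsStarLocal (ringPieces 𝒜) (toA m) := by
  let e : HomogeneousIdeal 𝒜 ≃o HomogeneousIdeal (ringPieces 𝒜) :=
    { toFun := toA
      invFun := fun n => ⟨n.toIdeal, (isHomogeneous_iff 𝒜 _).1 n.isHomogeneous⟩
      left_inv := fun _ => HomogeneousIdeal.toIdeal_injective rfl
      right_inv := fun _ => HomogeneousIdeal.toIdeal_injective rfl
      map_rel_iff' := Iff.rfl }
  refine ⟨(e.isCoatom_iff m).2 hm.1, fun n hn => ?_⟩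
  obtain ⟨k, rfl⟩ := e.surjective n
  exact congrArg e (hm.2 k ((e.isCoatom_iff k).1 hn))

theorem gradedSMul {M : Type u} [AddCommGroup M] [Module R M] {τ : Type u} [SetLike τ M]
    [AddSubgroupClass τ M] (ℳ : ι → τ) [SetLike.GradedSMul 𝒜 ℳ] : SetLike.GradedSMul (ringPieces 𝒜) ℳ :=
  ⟨fun {a b r m} hr hm => SetLike.GradedSMul.smul_mem (A := 𝒜) (B := ℳ) (hr : r ∈ 𝒜 a) hm⟩

instance gradedSMulA {M : Type u} [AddCommGroup M] [Module R M] (ℳ : ι → AddSubgroup M)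
    [SetLike.GradedSMul 𝒜 ℳ] : SetLike.GradedSMul (ringPieces 𝒜) ℳ := gradedSMul ℳ

/-- A graded module for the new grading. -/
noncomputable def gmod (X : GrLC.GMod.{u} 𝒜) : GrLC.GMod.{u} (ringPieces 𝒜) :=
  { carrier := X.carrier, gr := X.gr, dec := X.dec, gsmul := gradedSMul X.gr }

/-- A graded module for the old grading. -/
noncomputable def gmodInv (X : GrLC.GMod.{u} (ringPieces 𝒜)) : GrLC.GMod.{u} 𝒜 :=
  { carrier := X.carrier, gr := X.gr, dec := X.dec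
    gsmul := ⟨fun {a b r m} hr hm =>
      SetLike.GradedSMul.smul_mem (A := ringPieces 𝒜) (B := X.gr) (hr : r ∈ ringPieces 𝒜 a) hm⟩ }

theorem starInj {M : Type u} [AddCommGroup M] [Module R M] (ℳ : ι → AddSubgroup M) [Decomposition ℳ]
    [SetLike.GradedSMul 𝒜 ℳ] (h : GrLC.IsStarInj 𝒜 ℳ) : GrLC.IsStarInj (ringPieces 𝒜) ℳ :=
  fun A B f hf hinj g hg => h (gmodInv A) (gmodInv B) f hf hinj g hg

theorem starInjHull {N : Type u} [AddCommGroup N] [Module R N] {τ : Type u} [SetLike τ N]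
    [AddSubgroupClass τ N] {ℳ : ι → τ} {M : Type u} [AddCommGroup M] [Module R M]
    {𝒩 : ι → AddSubgroup M} [Decomposition 𝒩] [SetLike.GradedSMul 𝒜 𝒩] {f : N →ₗ[R] M}
    (h : GrLC.IsStarInjHull 𝒜 ℳ 𝒩 f) : GrLC.IsStarInjHull (ringPieces 𝒜) ℳ 𝒩 f :=
  { toIsStarEss := h.toIsStarEss, starInj := starInj 𝒩 h.starInj }

theorem quotGr_eq (m : HomogeneousIdeal 𝒜) :
    GrLC.quotGr (ringPieces 𝒜) (toA m) = GrLC.quotGr 𝒜 m := rfl

/-- A resolution of the ring for the new grading. -/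
noncomputable def ringRes (I : GrLC.StarInjRes 𝒜 𝒜) :
    GrLC.StarInjRes (ringPieces 𝒜) (ringPieces 𝒜) where
  X n := gmod (I.X n)
  d := I.d
  ε := I.ε
  d_grHom := I.d_grHom
  ε_grHom := I.ε_grHom
  ε_injective := I.ε_injective
  exact_zero := I.exact_zero
  exact_succ := I.exact_succ
  starInj n := fun A B f hf hinj g hg => I.starInj n (gmodInv A) (gmodInv B) f hf hinj g hg

theorem deg0_eq : GrLC.deg0 (ringPieces 𝒜) = GrLC.deg0 𝒜 := SetLike.ext fun _ => Iff.rfl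

theorem isField_deg0 (h0 : IsField (GrLC.deg0 𝒜)) : IsField (GrLC.deg0 (ringPieces 𝒜)) :=
  MulEquiv.isField h0 (RingEquiv.subringCongr (deg0_eq (𝒜 := 𝒜))).toMulEquiv

theorem pos_of {ι' : Type} [AddCommGroup ι'] [DecidableEq ι'] {S : Type u} [CommRing S]
    {τ : Type u} [SetLike τ S] [AddSubgroupClass τ S] (ℬ : ι' → τ) (i : ι')
    (h : ∀ x, x ∈ ℬ i → x = 0) : ringPieces ℬ i = ⊥ :=
  (AddSubgroup.eq_bot_iff_forall _).2 h

theorem starCanonical {C : Type u} [AddCommGroup C] [Module R C] {𝒞 : ι → AddSubgroup C}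
    [Decomposition 𝒞] [SetLike.GradedSMul 𝒜 𝒞] {E' : Type u} [AddCommGroup E'] [Module R E']
    {𝓔 : ι → AddSubgroup E'} [Decomposition 𝓔] [SetLike.GradedSMul 𝒜 𝓔] {m : HomogeneousIdeal 𝒜} {n : ℕ}
    {I : GrLC.StarInjRes 𝒜 𝒜} (h : GrLC.IsStarCanonical 𝒜 𝒞 𝓔 m n I) :
    GrLC.IsStarCanonical (ringPieces 𝒜) 𝒞 𝓔 (toA m) n (ringRes I) := by
  obtain ⟨hfin, φ, hφ⟩ := h
  refine ⟨hfin, φ, fun d f hf => ?_⟩
  have hmem := hφ d f hf
  obtain ⟨z, hz, hze⟩ := hmem
  exact ⟨z, hz, hze⟩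

end Groth.Agent.GrCoreLib.Regrade
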