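import Mathlib
import Groth.Agent.GrCoreLib.VeroneseCoh
import Groth.Agent.GrCoreLib.DualPieces

/-! Canonical modules of Veronese subrings. -/

set_option autoImplicit false
set_option linter.style.haveILetI false
set_option linter.unusedSectionVars false
universe u

open DirectSum GrInjLib

namespace Groth.Agent.GrCoreLib

/-- A homogeneous preimage of a homogeneous class. -/
theorem exists_homDeg_of_mem {R : Type u} [CommRing R] {𝒜 : ℤ → AddSubgroup R} [GradedRing 𝒜]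
    {C : Type u} [AddCommGroup C] [Module R C] [Module.Finite R C] {𝒞 : ℤ → AddSubgroup C}
    [Decomposition 𝒞] [SetLike.GradedSMul 𝒜 𝒞]
    {E' : Type u} [AddCommGroup E'] [Module R E'] {𝓔 : ℤ → AddSubgroup E'} [Decomposition 𝓔]
    [SetLike.GradedSMul 𝒜 𝓔] {H : Type u} [AddCommGroup H] [Module R H] {ℋ : ℤ → AddSubgroup H}
    (hℋ : DirectSum.IsInternal ℋ) (Φ : (C →ₗ[R] E') ≃ₗ[R] H)
    (hΦ : GrLC.IsGrHom (fun d => (GrLC.homDeg 𝒜 𝒞 𝓔 d).toAddSubgroup) ℋ Φ.toLinearMap)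
    {d : ℤ} {x : H} (hx : x ∈ ℋ d) : Φ.symm x ∈ GrLC.homDeg 𝒜 𝒞 𝓔 d := by
  classical
  letI := hℋ.chooseDecomposition
  obtain ⟨S, hS⟩ := exists_sum_parts 𝒜 𝒞 𝓔 (Φ.symm x)
  set p := fun b => degPart 𝒜 𝒞 𝓔 (Φ.symm x) b with hp
  have hmem : ∀ b, Φ (p b) ∈ ℋ b := fun b => hΦ b _ (degPart_deg 𝒜 𝒞 𝓔 _ b)
  have hzero : ∀ b ∈ S, b ≠ d → p b = 0 := by
    intro b hb hbd
    have h1 : proj ℋ b x = Φ (p b) := by
      conv_lhs => rw [← Φ.apply_symm_apply x, hS, map_sum, map_sum]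
      rw [Finset.sum_eq_single b (fun c _ hc => proj_of_mem_ne ℋ (hmem c) hc) (fun h => absurd hb h),
        proj_of_mem ℋ (hmem b)]
    rw [proj_of_mem_ne ℋ hx (Ne.symm hbd)] at h1
    exact Φ.map_eq_zero_iff.1 h1.symm
  rw [hS]
  refine Submodule.sum_mem _ fun b hb => ?_
  by_cases hbd : b = d
  · subst hbd; exact degPart_deg 𝒜 𝒞 𝓔 _ b
  · rw [show degPart 𝒜 𝒞 𝓔 (Φ.symm x) b = 0 from hzero b hb hbd]
    exact zero_mem _

variable {R : Type u} [CommRing R] [IsNoetherianRing R] {𝒜 : ℤ → AddSubgroup R} [GradedRing 𝒜]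
  (hpos : ∀ n : ℤ, n < 0 → 𝒜 n = ⊥) (h0 : IsField (GrLC.deg0 𝒜))
  {m : HomogeneousIdeal 𝒜} (hmsp : m.toIdeal = GrFieldLib.irr 𝒜)
  {E' : Type u} [AddCommGroup E'] [Module R E'] {𝓔 : ℤ → AddSubgroup E'} [Decomposition 𝓔]
  [SetLike.GradedSMul 𝒜 𝓔] {e : (R ⧸ m.toIdeal) →ₗ[R] E'}
  (he : GrLC.IsStarInjHull 𝒜 (GrLC.quotGr 𝒜 m) 𝓔 e)
  {C : Type u} [AddCommGroup C] [Module R C] [Module.Finite R C] {𝒞 : ℤ → AddSubgroup C} [Decomposition 𝒞]
  [SetLike.GradedSMul 𝒜 𝒞]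
  {R' : Type u} [CommRing R'] [IsNoetherianRing R'] {𝒜' : ℤ → AddSubgroup R'} [GradedRing 𝒜'] {φ : R' →+* R} {q : ℕ}
  (hV : IsVeronese 𝒜 𝒜' φ q)
  (hpos' : ∀ n : ℤ, n < 0 → 𝒜' n = ⊥) (h0' : IsField (GrLC.deg0 𝒜'))
  {m' : HomogeneousIdeal 𝒜'} (hmsp' : m'.toIdeal = GrFieldLib.irr 𝒜')
  {E'' : Type u} [AddCommGroup E''] [Module R' E''] {𝓔'' : ℤ → AddSubgroup E''} [Decomposition 𝓔'']
  [SetLike.GradedSMul 𝒜' 𝓔''] {e' : (R' ⧸ m'.toIdeal) →ₗ[R'] E''}
  (he' : GrLC.IsStarInjHull 𝒜' (GrLC.quotGr 𝒜' m') 𝓔'' e')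
  {C' : Type u} [AddCommGroup C'] [Module R' C'] [Module.Finite R' C'] {𝒞' : ℤ → AddSubgroup C'}
  [Decomposition 𝒞'] [SetLike.GradedSMul 𝒜' 𝒞']
  {H : Type u} [AddCommGroup H] [Module R H] {ℋ : ℤ → AddSubgroup H} (hℋ : DirectSum.IsInternal ℋ)
  (Φ : (C →ₗ[R] E') ≃ₗ[R] H)
  (hΦ : GrLC.IsGrHom (fun d => (GrLC.homDeg 𝒜 𝒞 𝓔 d).toAddSubgroup) ℋ Φ.toLinearMap)
  {H' : Type u} [AddCommGroup H'] [Module R' H'] {ℋ' : ℤ → AddSubgroup H'} (hℋ' : DirectSum.IsInternal ℋ')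
  (Φ' : (C' →ₗ[R'] E'') ≃ₗ[R'] H')
  (hΦ' : GrLC.IsGrHom (fun d => (GrLC.homDeg 𝒜' 𝒞' 𝓔'' d).toAddSubgroup) ℋ' Φ'.toLinearMap)
  (Θ : H' →ₛₗ[φ] H) (hΘi : Function.Injective Θ)
  (hΘ : ∀ j : ℤ, (∀ x ∈ ℋ' j, Θ x ∈ ℋ (j * q)) ∧ ∀ y ∈ ℋ (j * q), ∃ x ∈ ℋ' j, Θ x = y)

include hpos h0 hmsp he hV hpos' h0' hmsp' he' hℋ hΦ hℋ' hΦ' hΘi hΘ in
/-- The canonical module of a Veronese subring is the Veronese submodule of the canonical module. -/
theorem exists_veronese_canonical :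
    ∃ g : C' →ₛₗ[φ] C, Function.Injective g ∧ ∀ j : ℤ, (𝒞' j).map (g : C' →+ C) = 𝒞 (j * q) := by
  classical
  let ι₀ : GrLC.deg0 𝒜' →+* GrLC.deg0 𝒜 := (φ.comp (GrLC.deg0 𝒜').subtype).codRestrict _ fun r => by
    show φ r.1 ∈ 𝒜 0
    have := hV.map_mem r.2
    rwa [zero_mul] at this
  let i : GrLC.deg0 𝒜' ≃+* GrLC.deg0 𝒜 := RingEquiv.ofBijective ι₀
    ⟨fun r s h => Subtype.ext (hV.inj (congrArg Subtype.val h)), fun x => by
      obtain ⟨a, ha, hax⟩ := hV.exists_preimage (j := 0) (x := x.1) (by rw [zero_mul]; exact x.2)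
      exact ⟨⟨a, ha⟩, Subtype.ext hax⟩⟩
  have hi : ∀ r : GrLC.deg0 𝒜', ((i r : GrLC.deg0 𝒜) : R) = φ (r : R') := fun _ => rfl
  let Rel : (C →ₗ[R] E') → (C' →ₗ[R'] E'') → Prop := fun h h' => Θ (Φ' h') = Φ h
  have huniq : ∀ {h h₁ h₂}, Rel h h₁ → Rel h h₂ → h₁ = h₂ := fun e1 e2 =>
    Φ'.injective (hΘi (e1.trans e2.symm))
  have hT : ∀ j : ℤ, ∀ h : GrLC.homDeg 𝒜 𝒞 𝓔 (-(j * q)),
      ∃ h' : GrLC.homDeg 𝒜' 𝒞' 𝓔'' (-j), Rel h.1 h'.1 := fun j h => by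
    obtain ⟨x, hx, hxy⟩ := (hΘ (-j)).2 (Φ h.1) (by rw [neg_mul]; exact hΦ _ _ h.2)
    exact ⟨⟨Φ'.symm x, exists_homDeg_of_mem hℋ' Φ' hΦ' hx⟩, by
      show Θ (Φ' (Φ'.symm x)) = _
      rw [Φ'.apply_symm_apply, hxy]⟩
  have hS : ∀ j : ℤ, ∀ h' : GrLC.homDeg 𝒜' 𝒞' 𝓔'' (-j),
      ∃ h : GrLC.homDeg 𝒜 𝒞 𝓔 (-(j * q)), Rel h.1 h'.1 := fun j h' =>
    ⟨⟨Φ.symm (Θ (Φ' h'.1)), exists_homDeg_of_mem hℋ Φ hΦ (by
      rw [← neg_mul]; exact (hΘ (-j)).1 _ (hΦ' _ _ h'.2))⟩, (Φ.apply_symm_apply _).symm⟩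
  choose T hTr using hT
  choose S hSr using hS
  have hRadd : ∀ {h₁ h₂ h₁' h₂'}, Rel h₁ h₁' → Rel h₂ h₂' → Rel (h₁ + h₂) (h₁' + h₂') := by
    intro h₁ h₂ h₁' h₂' e1 e2
    show Θ (Φ' (h₁' + h₂')) = Φ (h₁ + h₂)
    rw [map_add, map_add, map_add, e1, e2]
  have hRsmul : ∀ (r : R') {h h'}, Rel h h' → Rel (φ r • h) (r • h') := by
    intro r h h' e1
    show Θ (Φ' (r • h')) = Φ (φ r • h)
    rw [map_smul, LinearMap.map_smulₛₗ, map_smul, e1]
  let P := fun j => piecePairing (C := C) (𝒞 := 𝒞) hpos h0 hmsp he j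
  let P' := fun j => piecePairing (C := C') (𝒞 := 𝒞') hpos' h0' hmsp' he' j
  have hPb := fun j => piecePairing_bijective (C := C) 𝒞 hpos h0 hmsp he j
  have hPb' := fun j => piecePairing_bijective (C := C') 𝒞' hpos' h0' hmsp' he' j
  let L : ∀ j : ℤ, GrLC.comp 𝒜' 𝒞' j → Module.Dual (GrLC.deg0 𝒜) (GrLC.homDeg 𝒜 𝒞 𝓔 (-(j * q))) :=
    fun j c =>
      { toFun := fun h => i (P' j c (T j h))
        map_add' := fun h h₂ => by
          rw [show T j (h + h₂) = T j h + T j h₂ from Subtype.ext (huniq (hTr j _) (hRadd (hTr j h) (hTr j h₂))),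
            map_add, map_add]
        map_smul' := fun t h => by
          obtain ⟨t', rfl⟩ := i.surjective t
          have e : T j (i t' • h) = t' • T j h :=
            Subtype.ext (huniq (hTr j (i t' • h)) (hRsmul (t' : R') (hTr j h)))
          rw [RingHom.id_apply, e, map_smul, smul_eq_mul, map_mul, smul_eq_mul] }
  have hG : ∀ (j : ℤ) (c : GrLC.comp 𝒜' 𝒞' j), ∃ d : GrLC.comp 𝒜 𝒞 (j * q), P (j * q) d = L j c :=
    fun j c => (hPb (j * q)).2 _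
  choose G hGe using hG
  let G' : ∀ j : ℤ, 𝒞' j →+ C := fun j =>
    { toFun := fun c => (G j c : C)
      map_zero' := by
        have : G j (0 : 𝒞' j) = 0 := (hPb (j * q)).1 (by
          rw [hGe, map_zero]
          refine LinearMap.ext fun h => ?_
          show i (P' j (0 : GrLC.comp 𝒜' 𝒞' j) (T j h)) = 0
          rw [map_zero, LinearMap.zero_apply, map_zero])
        exact congrArg Subtype.val this
      map_add' := fun c c₂ => by
        have : G j (c + c₂ : 𝒞' j) = G j c + G j c₂ := (hPb (j * q)).1 (by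
          rw [hGe, map_add, hGe, hGe]
          refine LinearMap.ext fun h => ?_
          show i (P' j _ (T j h)) = i (P' j c (T j h)) + i (P' j c₂ (T j h))
          rw [← map_add, ← LinearMap.add_apply, ← map_add]
          rfl)
        exact congrArg Subtype.val this }
  let gA : C' →+ C := (DirectSum.toAddMonoid G').comp (decomposeAddEquiv 𝒞').toAddMonoidHom
  have hgA : ∀ (j : ℤ) (c : C') (hc : c ∈ 𝒞' j), gA c = (G j ⟨c, hc⟩ : C) := fun j c hc => by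
    show DirectSum.toAddMonoid G' (decompose 𝒞' c) = _
    rw [decompose_of_mem 𝒞' hc, DirectSum.toAddMonoid_of]
    rfl
  have hmap : ∀ (a : ℤ) (r : R'), r ∈ 𝒜' a → ∀ (j : ℤ) (c : C'), c ∈ 𝒞' j →
      gA (r • c) = φ r • gA c := by
    intro a r hr j c hc
    have hrc := smul_mem 𝒜' 𝒞' hr hc
    rw [hgA _ _ hrc, hgA _ _ hc]
    have hd : φ r • (G j ⟨c, hc⟩ : C) ∈ 𝒞 ((a + j) * q) := by
      rw [add_mul]; exact smul_mem 𝒜 𝒞 (hV.map_mem hr) (G j ⟨c, hc⟩).2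
    suffices hs : G (a + j) ⟨r • c, hrc⟩ = ⟨φ r • (G j ⟨c, hc⟩ : C), hd⟩ from congrArg Subtype.val hs
    refine (hPb _).1 ?_
    rw [hGe]
    refine LinearMap.ext fun h => ?_
    have hh1 : φ r • h.1 ∈ GrLC.homDeg 𝒜 𝒞 𝓔 (-(j * q)) := fun g y hy => by
      rw [LinearMap.smul_apply]
      have := smul_mem 𝒜 𝓔 (hV.map_mem hr) (h.2 g y hy)
      rwa [show a * q + (g + -((a + j) * q)) = g + -(j * q) by ring] at this
    have hh2 : r • (T (a + j) h).1 ∈ GrLC.homDeg 𝒜' 𝒞' 𝓔'' (-j) := fun g y hy => by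
      rw [LinearMap.smul_apply]
      have := smul_mem 𝒜' 𝓔'' hr ((T (a + j) h).2 g y hy)
      rwa [show a + (g + -(a + j)) = g + -j by ring] at this
    have hT' : T j ⟨_, hh1⟩ = ⟨_, hh2⟩ := Subtype.ext (huniq (hTr j _) (hRsmul r (hTr (a + j) h)))
    have key := LinearMap.congr_fun (hGe j ⟨c, hc⟩) ⟨_, hh1⟩
    show i (P' (a + j) ⟨r • c, hrc⟩ (T (a + j) h)) = _
    have e1 : P ((a + j) * q) ⟨φ r • (G j ⟨c, hc⟩ : C), hd⟩ h = P (j * q) (G j ⟨c, hc⟩) ⟨_, hh1⟩ :=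
      congrArg (socleEquiv hpos h0 hmsp he).symm (Subtype.ext (by
        show h.1 (φ r • (G j ⟨c, hc⟩ : C)) = φ r • h.1 (G j ⟨c, hc⟩ : C)
        rw [map_smul]))
    have e2 : P' (a + j) ⟨r • c, hrc⟩ (T (a + j) h) = P' j ⟨c, hc⟩ ⟨_, hh2⟩ :=
      congrArg (socleEquiv hpos' h0' hmsp' he').symm (Subtype.ext (by
        show (T (a + j) h).1 (r • c) = r • (T (a + j) h).1 c
        rw [map_smul]))
    rw [e1, key, e2]
    show _ = i (P' j ⟨c, hc⟩ (T j ⟨_, hh1⟩))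
    rw [hT']
  let g : C' →ₛₗ[φ] C :=
    { toFun := gA
      map_add' := map_add gA
      map_smul' := fun r c => by
        induction c using DirectSum.Decomposition.inductionOn 𝒞' with
        | zero => rw [smul_zero, map_zero, smul_zero]
        | add x y hx hy => rw [smul_add, map_add, map_add, hx, hy, smul_add]
        | @homogeneous j c =>
          induction r using smul_induction 𝒜' with
          | h0 => rw [zero_smul, map_zero, map_zero, zero_smul]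
          | hadd r s hr hs => rw [add_smul, map_add, hr, hs, map_add, add_smul]
          | hhom a r hr => exact hmap a r hr j c c.2 }
  have hGinj : ∀ j, Function.Injective (G j) := fun j c c₂ h => (hPb' j).1 (LinearMap.ext fun h' => by
    have e : T j (S j h') = h' := Subtype.ext (huniq (hTr j _) (hSr j h'))
    have h1 := LinearMap.congr_fun ((hGe j c).symm.trans ((congrArg (P (j * q)) h).trans (hGe j c₂))) (S j h')
    have h2 : i (P' j c (T j (S j h'))) = i (P' j c₂ (T j (S j h'))) := h1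
    rw [e] at h2
    exact i.injective h2)
  have hGsurj : ∀ j, Function.Surjective (G j) := fun j d => by
    let L' : Module.Dual (GrLC.deg0 𝒜') (GrLC.homDeg 𝒜' 𝒞' 𝓔'' (-j)) :=
      { toFun := fun h' => i.symm (P (j * q) d (S j h'))
        map_add' := fun h h₂ => by
          rw [show S j (h + h₂) = S j h + S j h₂ from Subtype.ext (Φ.injective
            ((hSr j (h + h₂)).symm.trans (hRadd (hSr j h) (hSr j h₂)))), map_add, map_add]
        map_smul' := fun t h => by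
          have e : S j (t • h) = i t • S j h := Subtype.ext (Φ.injective
            ((hSr j (t • h)).symm.trans (hRsmul (t : R') (hSr j h))))
          rw [RingHom.id_apply, e, map_smul, smul_eq_mul, map_mul, i.symm_apply_apply, smul_eq_mul] }
    obtain ⟨c, hc⟩ := (hPb' j).2 L'
    refine ⟨c, (hPb _).1 ?_⟩
    rw [hGe]
    refine LinearMap.ext fun h => ?_
    show i (P' j c (T j h)) = _
    rw [show P' j c = L' from hc]
    show i (i.symm (P (j * q) d (S j (T j h)))) = _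
    rw [i.apply_symm_apply, show S j (T j h) = h from Subtype.ext (Φ.injective ((hSr j _).symm.trans (hTr j h)))]
  have hq : (q : ℤ) ≠ 0 := by exact_mod_cast hV.q_pos.ne'
  refine ⟨g, (injective_iff_map_eq_zero g).2 fun c hc => ?_, fun j => ?_⟩
  · refine eq_zero_of_proj 𝒞' c fun j => ?_
    have key : ∀ x : C', proj 𝒞 (j * q) (gA x) = gA (proj 𝒞' j x) := by
      intro x
      induction x using DirectSum.Decomposition.inductionOn 𝒞' with
      | zero => simp only [map_zero]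
      | add x y hx hy => rw [map_add, map_add, hx, hy, map_add, map_add]
      | @homogeneous b x =>
        rw [hgA b x x.2]
        by_cases hb : b = j
        · subst hb
          rw [proj_of_mem 𝒞 (G b _).2, proj_of_mem 𝒞' x.2, hgA b x x.2]
        · rw [proj_of_mem_ne 𝒞 (G b _).2 (fun e => hb (mul_right_cancel₀ hq e)),
            proj_of_mem_ne 𝒞' x.2 hb, map_zero]
    have h1 := key c
    rw [show gA c = 0 from hc, map_zero, hgA j _ (proj_mem 𝒞' j c)] at h1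
    have h2 : G j ⟨proj 𝒞' j c, proj_mem 𝒞' j c⟩ = G j 0 := Subtype.ext (h1.symm.trans (G' j).map_zero.symm)
    exact congrArg Subtype.val (hGinj j h2)
  · ext d
    constructor
    · rintro ⟨c, hc, rfl⟩
      show gA c ∈ _
      rw [hgA j c hc]
      exact (G j _).2
    · intro hd
      obtain ⟨c, hc⟩ := hGsurj j ⟨d, hd⟩
      exact ⟨c.1, c.2, (hgA j c.1 c.2).trans (congrArg Subtype.val hc)⟩

end Groth.Agent.GrCoreLib
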