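import Mathlib
import Groth.Agent.GrCoreLib.GorPairing
import Groth.Agent.GrCoreLib.TypeLocal
import Groth.Agent.GrCoreLib.Count
import Groth.Agent.GrCoreLib.Depth

/-! The type of a Veronese subring of a Gorenstein standard graded ring. -/

set_option autoImplicit false
set_option linter.style.haveILetI false
set_option linter.unusedSectionVars false
universe u

open DirectSum GrInjLib CategoryTheory

namespace Groth.Agent.GrCoreLib

section TopBass

variable {R : Type u} [CommRing R] [IsNoetherianRing R] {ι : Type} [AddCommGroup ι] [DecidableEq ι]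
  [Module.Free ℤ ι] [Module.Finite ℤ ι] {𝒜 : ι → AddSubgroup R} [GradedRing 𝒜]

/-- When lower local cohomology vanishes, the type is read off from the socle of the top one. -/
theorem bassNum_eq_bassNum_topH {m : HomogeneousIdeal 𝒜} [m.toIdeal.IsPrime] {n : ℕ}
    (I : GrLC.StarInjRes 𝒜 𝒜)
    (hlow : ∀ i < n, Subsingleton (I.H m i)) :
    GrLC.bassNum m.toIdeal R n = GrLC.bassNum m.toIdeal (HMod I m n).carrier 0 := by
  let B := Localization.AtPrime m.toIdeal
  let Q := IsLocalRing.ResidueField B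
  have hdep : (n : ℕ∞) ≤ LocCoh.depth B B := by
    refine (GorLib.natCast_le_depth_iff_subsingleton_H B n).mpr fun j hj => ?_
    haveI := hlow j hj
    obtain ⟨ej⟩ := exists_topH_equiv (m := m) I j
    haveI : Subsingleton (LocalizedModule m.toIdeal.primeCompl (I.H m j)) := ⟨fun x y => by
      induction x using LocalizedModule.induction_on with
      | h a s =>
        induction y using LocalizedModule.induction_on with
        | h b t => rw [Subsingleton.elim a 0, Subsingleton.elim b 0, LocalizedModule.zero_mk, LocalizedModule.zero_mk]⟩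
    exact ej.symm.toEquiv.subsingleton
  obtain ⟨e, he, -, -⟩ := exists_depth (B := B) (N := B)
  haveI : Module.Finite B Q := inferInstanceAs (Module.Finite B (B ⧸ IsLocalRing.maximalIdeal B))
  have hV : LocCohLib.Van (IsLocalRing.maximalIdeal B) (ModuleCat.of B B) n := by
    intro F _ _ hF hk i hi
    obtain ⟨k, hk⟩ := hk
    haveI := hF
    have hne : n ≤ e := by rw [he] at hdep; exact_mod_cast hdep
    refine LocCohLib.subsingleton_ext_of_supportDim B e he 0 F ?_ i (by omega)
    have hsub : Subsingleton (Module.support B F) := ⟨fun p q => Subtype.ext (PrimeSpectrum.ext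
      (((IsLocalRing.maximalIdeal.isMaximal B).eq_of_le p.1.isPrime.ne_top fun a ha => LocCohLib.support_subset_of_killedBy hk p.2 ha).symm.trans
        ((IsLocalRing.maximalIdeal.isMaximal B).eq_of_le q.1.isPrime.ne_top fun a ha => LocCohLib.support_subset_of_killedBy hk q.2 ha)))⟩
    exact Order.krullDim_nonpos_of_subsingleton
  obtain ⟨eX⟩ := LocCohLib.nonempty_ext_equiv_hom (G := ModuleCat.of B B) (n := n) hV (show LocCohLib.KilledBy (IsLocalRing.maximalIdeal B) 1 Q from fun b hb x => by rw [pow_one] at hb; rw [Algebra.smul_def, show algebraMap B Q b = 0 from Ideal.Quotient.eq_zero_iff_mem.mpr hb, zero_mul])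
  obtain ⟨eH⟩ := exists_topH_equiv (m := m) I n
  let eR : LocalizedModule m.toIdeal.primeCompl R ≃ₗ[B] B :=
    (nonempty_equiv_localized m.toIdeal.primeCompl (Algebra.linearMap R B)).some.symm
  have h1 : GrLC.bassNum m.toIdeal R n = GrLC.bassNumLocal B B n := length_ext_congr eR.toModuleIso n
  rw [h1]
  show Module.length B _ = Module.length B _
  rw [eX.length_eq]
  let e1 : (Q →ₗ[B] ((localCohomology (IsLocalRing.maximalIdeal B) n).obj (ModuleCat.of B B) : Type u)) ≃ₗ[B]
      (Q →ₗ[B] LocalizedModule m.toIdeal.primeCompl (HMod I m n).carrier) :=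
    LinearEquiv.congrRight (M := Q) eH.symm
  have e2 := e1.length_eq
  have e3 := ((Abelian.Ext.linearEquiv₀ (R := B) (X := ModuleCat.of B Q)
    (Y := ModuleCat.of B (LocalizedModule m.toIdeal.primeCompl (HMod I m n).carrier))).trans
      (ModuleCat.homLinearEquiv (S := B))).length_eq.symm
  exact e2.trans e3

end TopBass

variable {R : Type u} [CommRing R] {𝒜 : ℤ → AddSubgroup R} [GradedRing 𝒜]

/-- The length of a module killed by the irrelevant ideal is its dimension over the field of degree zero. -/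
theorem length_localized_killed [IsNoetherianRing R] (hpos : ∀ n : ℤ, n < 0 → 𝒜 n = ⊥) (h0 : IsField (GrLC.deg0 𝒜))
    {m : Ideal R} [m.IsMaximal] (hmsp : m = GrFieldLib.irr 𝒜) (M : Type u) [AddCommGroup M] [Module R M] :
    Module.length (Localization.AtPrime m) (LocalizedModule m.primeCompl (killed m M)) =
      Module.length (GrLC.deg0 𝒜) (killed m M) := by
  letI : Field (GrLC.deg0 𝒜) := h0.toField
  let k := R ⧸ m
  have ht : Module.IsTorsionBySet R (killed m M) (m : Set R) := fun x b =>
    Subtype.ext ((mem_killed m).1 x.2 b.1 b.2)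
  letI := ht.module
  haveI : IsScalarTower R k (killed m M) := ht.isScalarTower
  haveI : IsScalarTower (GrLC.deg0 𝒜) k (killed m M) :=
    ⟨fun c b x => by
      induction b using Submodule.Quotient.induction_on with
      | _ r => exact smul_assoc (c : R) r x⟩
  have hs0 : Function.Surjective (algebraMap (GrLC.deg0 𝒜) k) := by
    intro b
    induction b using Submodule.Quotient.induction_on with
    | _ r =>
      refine ⟨⟨_, (decompose 𝒜 r 0).2⟩, Ideal.Quotient.eq.2 ?_⟩
      show (decompose 𝒜 r 0 : R) - r ∈ m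
      rw [hmsp, ← neg_mem_iff, neg_sub]
      induction r using smul_induction 𝒜 with
      | h0 => simp
      | hadd r s hr hs =>
        rw [decompose_add, DirectSum.add_apply, AddSubgroup.coe_add, add_sub_add_comm]
        exact add_mem hr hs
      | hhom b r hr =>
        rcases lt_trichotomy b 0 with hb | hb | hb
        · rw [hpos b hb, AddSubgroup.mem_bot] at hr
          rw [hr]; simp
        · subst hb; rw [decompose_of_mem_same 𝒜 hr, sub_self]; exact zero_mem _
        · rw [decompose_of_mem_ne 𝒜 hr hb.ne', sub_zero]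
          exact Ideal.subset_span (Set.mem_iUnion₂.2 ⟨b, hb, hr⟩)
  let B := Localization.AtPrime m
  let Q := IsLocalRing.ResidueField B
  have hQs : Function.Surjective (algebraMap R Q) := m.algebraMap_residueField_surjective
  let W := killed m M
  have hunit : ∀ s : m.primeCompl, Function.Bijective fun x : W => (s : R) • x := by
    intro s
    letI : Field k := Ideal.Quotient.field m
    have hne : (Ideal.Quotient.mk m (s : R) : k) ≠ 0 := fun h => s.2 (Ideal.Quotient.eq_zero_iff_mem.1 h)
    have he : ∀ x : W, (s : R) • x = (Ideal.Quotient.mk m (s : R) : k) • x :=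
      fun x => (algebraMap_smul k (s : R) x).symm
    refine ⟨fun x y h => ?_, fun y => ⟨(Ideal.Quotient.mk m (s : R) : k)⁻¹ • y, ?_⟩⟩
    · simp only [he] at h
      exact smul_right_injective W hne h
    · show (s : R) • _ = y
      rw [he, smul_inv_smul₀ hne]
  haveI : IsLocalizedModule m.primeCompl (LinearMap.id : W →ₗ[R] W) := by
    refine ⟨fun s => (Module.End.isUnit_iff _).2 (hunit s), fun y => ⟨⟨y, 1⟩, one_smul _ _⟩,
      fun {x y} h => ⟨1, by simpa using h⟩⟩
  let e : LocalizedModule m.primeCompl W ≃ₗ[R] W := IsLocalizedModule.iso m.primeCompl (LinearMap.id : W →ₗ[R] W)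
  have hB : Module.length B (LocalizedModule m.primeCompl W) = Module.length R (LocalizedModule m.primeCompl W) := by
    have hrange : ∀ (b : B) (x : LocalizedModule m.primeCompl W), ∃ r : R, b • x = r • x := by
      intro b x
      obtain ⟨⟨r, s⟩, hb⟩ := IsLocalization.surj m.primeCompl b
      letI : Field k := Ideal.Quotient.field m
      have hne : (Ideal.Quotient.mk m (s : R) : k) ≠ 0 := fun h => s.2 (Ideal.Quotient.eq_zero_iff_mem.1 h)
      obtain ⟨t, ht'⟩ := Ideal.Quotient.mk_surjective (Ideal.Quotient.mk m (s : R) : k)⁻¹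
      refine ⟨r * t, e.injective ?_⟩
      have h1 : ((s : R) * t) • e x = e x := by
        rw [← algebraMap_smul k ((s : R) * t) (e x)]
        show (Ideal.Quotient.mk m ((s : R) * t) : k) • e x = e x
        rw [map_mul, ht', mul_inv_cancel₀ hne, one_smul]
      have hx : ((s : R) * t) • x = x := e.injective (by rw [map_smul, h1])
      congr 1
      calc b • x = b • (((s : R) * t) • x) := by rw [hx]
        _ = (b * algebraMap R B s) • (t • x) := by
          rw [mul_smul ((s : R)) t x, mul_smul, algebraMap_smul]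
        _ = r • t • x := by rw [hb, algebraMap_smul]
        _ = (r * t) • x := (mul_smul r t x).symm
    unfold Module.length
    congr 1
    exact Order.krullDim_eq_of_orderIso
      { toFun := fun N => N.restrictScalars R
        invFun := fun N =>
          { carrier := (N : Set (LocalizedModule m.primeCompl W))
            add_mem' := N.add_mem
            zero_mem' := N.zero_mem
            smul_mem' := fun b x hx => by
              obtain ⟨r, hr⟩ := hrange b x
              rw [hr]
              exact N.smul_mem r hx }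
        left_inv := fun N => SetLike.ext fun _ => Iff.rfl
        right_inv := fun N => SetLike.ext fun _ => Iff.rfl
        map_rel_iff' := Iff.rfl }
  rw [hB, e.length_eq, Module.length_eq_of_surjective (R := k) (S := R) Ideal.Quotient.mk_surjective,
    ← Module.length_eq_of_surjective (R := k) (S := GrLC.deg0 𝒜) hs0]

variable {R' : Type u} [CommRing R'] {𝒜' : ℤ → AddSubgroup R'} [GradedRing 𝒜'] {φ : R' →+* R} {q : ℕ}

/-- In a standard graded ring the positive pieces are products of degree-one elements. -/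
theorem smul_eq_zero_of_std (hstd : GrFieldLib.irr 𝒜 = Ideal.span ((𝒜 1 : AddSubgroup R) : Set R))
    {M : Type u} [AddCommGroup M] [Module R M] (x : M) (q : ℕ)
    (hx : ∀ r ∈ 𝒜 (q : ℤ), r • x = 0) (e : ℕ) (he : q ≤ e) : ∀ r ∈ 𝒜 (e : ℤ), r • x = 0 := by
  induction e, he using Nat.le_induction with
  | base => exact hx
  | succ e _ ih =>
    intro r hr
    have hrI : r ∈ Ideal.span ((𝒜 1 : AddSubgroup R) : Set R) :=
      hstd ▸ Ideal.subset_span (Set.mem_iUnion₂.2 ⟨((e + 1 : ℕ) : ℤ), show (0 : ℤ) < ((e + 1 : ℕ) : ℤ) by omega, hr⟩)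
    suffices h : ∀ c : R, (decompose 𝒜 (c * r) ((e : ℤ) + 1) : R) • x = 0 by
      have := h 1
      rwa [one_mul, decompose_of_mem_same 𝒜 (by push_cast at hr; exact hr)] at this
    clear hr
    induction hrI using Submodule.span_induction with
    | mem w hw =>
      intro c
      rw [coe_decompose_mul_add_of_right_mem 𝒜 hw, mul_comm, mul_smul, ih _ (decompose 𝒜 c _).2, smul_zero]
    | zero => intro c; simp
    | add p p' _ _ hp hp' =>
      intro c
      rw [mul_add, decompose_add, DirectSum.add_apply, AddSubgroup.coe_add, add_smul, hp c, hp' c, add_zero]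
    | smul r p _ hp => intro c; rw [smul_eq_mul, ← mul_assoc]; exact hp _

variable [LocCoh.IsGorensteinRing R] [LocCoh.IsCohenMacaulayRing R] (hV : IsVeronese 𝒜 𝒜' φ q)
  (hpos : ∀ n : ℤ, n < 0 → 𝒜 n = ⊥) (h0 : IsField (GrLC.deg0 𝒜)) {m : HomogeneousIdeal 𝒜}
  (hm : GrLC.IsStarLocal 𝒜 m) (hmsp : m.toIdeal = GrFieldLib.irr 𝒜)
  (hstd : GrFieldLib.irr 𝒜 = Ideal.span ((𝒜 1 : AddSubgroup R) : Set R))
  {n : ℕ} (hn : ringKrullDim R = n) (I : GrLC.StarInjRes 𝒜 𝒜) {a : ℤ}
  (ha : GrLC.endDeg (I.Hgr m n) = ((a : WithTop ℤ) : WithBot (WithTop ℤ)))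
  {ρ : ℤ} (hρ0 : 0 ≤ ρ) (hρq : ρ < q) (hρa : (q : ℤ) ∣ a - ρ)

include hV hpos h0 hm hmsp hstd hn ha hρ0 hρq hρa in
/-- The socle of the top local cohomology of the Veronese subring is one piece. -/
theorem exists_socle_veronese :
    ∃ F : GrLC.StarInjRes 𝒜' 𝒜', (∀ i < n, Subsingleton (F.H (irrH 𝒜') i)) ∧ ∃ j : ℤ,
      Module.rank (GrLC.deg0 𝒜') (F.Hcomp (irrH 𝒜') n j) = (Module.finrank (GrLC.deg0 𝒜) (GrLC.comp 𝒜 𝒜 ρ) : Cardinal.{u}) ∧
      ∀ x : F.H (irrH 𝒜') n, x ∈ killed (irrH 𝒜').toIdeal (F.H (irrH 𝒜') n) ↔ x ∈ F.Hcomp (irrH 𝒜') n j := by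
  classical
  haveI := isNoetherianRing_of_veronese hV
  obtain ⟨-, hd2, hdual⟩ := gorenstein_pairing hpos h0 hm hmsp hn I ha
  obtain ⟨j, hj⟩ := hρa
  have hjq : j * q = a - ρ := by rw [hj, mul_comm]
  obtain ⟨F⟩ := exists_starInjRes 𝒜' 𝒜'
  obtain ⟨hle, hrad⟩ := irrelevant_radical hV hmsp (m' := (irrH 𝒜').toIdeal) rfl
  have hgdeg : ∀ j : ℤ, (𝒜' j).map (φ.toSemilinearMap : R' →+ R) = 𝒜 (j * q) := hV.hdeg
  have hH := fun i => exists_veronese_H hV I φ.toSemilinearMap hV.inj hgdeg (m := m) (m' := irrH 𝒜') hle hrad F i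
  refine ⟨F, fun i hi => ?_, j, ?_, fun x => ?_⟩
  · haveI := subsingleton_H_of_lt hpos h0 hmsp hn I i hi
    obtain ⟨Θ, hΘ, -⟩ := hH i
    exact hΘ.subsingleton
  · obtain ⟨hfin, hdim⟩ := hdual ρ
    rw [← hdim, ← hjq]
    rw [← hjq] at hfin
    haveI := hfin
    letI : Field (GrLC.deg0 𝒜) := h0.toField
    rw [Module.finrank_eq_rank]
    obtain ⟨Θ, hΘi, hΘ⟩ := hH n
    obtain ⟨hΘm, hΘs⟩ := hΘ j
    let i : GrLC.deg0 𝒜' →+* GrLC.deg0 𝒜 := (φ.comp (GrLC.deg0 𝒜').subtype).codRestrict _ fun r => by
      show φ r.1 ∈ 𝒜 0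
      have := hV.map_mem r.2
      rwa [zero_mul] at this
    have hi : Function.Bijective i := ⟨fun r s h => Subtype.ext (hV.inj (congrArg Subtype.val h)), fun x => by
      obtain ⟨b, hb, hbx⟩ := hV.exists_preimage (j := 0) (x := x.1) (by rw [zero_mul]; exact x.2)
      exact ⟨⟨b, hb⟩, Subtype.ext hbx⟩⟩
    let f : F.Hcomp (irrH 𝒜') n j →+ I.Hcomp m n (j * q) :=
      { toFun := fun x => ⟨Θ x.1, hΘm x.1 x.2⟩
        map_zero' := Subtype.ext (map_zero Θ)
        map_add' := fun x y => Subtype.ext (map_add Θ x.1 y.1) }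
    have hf : Function.Bijective f := ⟨fun x y h => Subtype.ext (hΘi (congrArg Subtype.val h)), fun y => by
      obtain ⟨x, hx, hxy⟩ := hΘs y.1 y.2
      exact ⟨⟨x, hx⟩, Subtype.ext hxy⟩⟩
    exact rank_eq_of_equiv_equiv i (AddEquiv.ofBijective f hf) hi
      fun r x => Subtype.ext (LinearMap.map_smulₛₗ Θ (r : R') x.1)
  · obtain ⟨Θ, hΘi, hΘ⟩ := hH n
    let H := HMod F (irrH 𝒜') n
    rw [mem_killed]
    constructor
    · intro hx
      letI := (H_isInternal F (irrH 𝒜') n).chooseDecomposition
      show (x : H.carrier) ∈ H.gr j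
      suffices hpr : ∀ i, i ≠ j → proj H.gr i (x : H.carrier) = 0 by
        rw [show (x : H.carrier) = proj H.gr j x from ext_proj H.gr fun g => by
          by_cases hg : g = j
          · subst hg; rw [proj_of_mem H.gr (proj_mem H.gr g _)]
          · rw [hpr g hg, proj_of_mem_ne H.gr (proj_mem H.gr j _) (Ne.symm hg)]]
        exact proj_mem H.gr j _
      intro i hi
      have hxi : ∀ r ∈ 𝒜' 1, r • proj H.gr i (x : H.carrier) = 0 := fun r hr => by
        rw [← proj_smul 𝒜' H.gr hr]
        exact (congrArg (proj H.gr (1 + i)) (hx r (Ideal.subset_span (Set.mem_iUnion₂.2 ⟨1, by simp, hr⟩)))).trans (map_zero _)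
      show proj H.gr i (x : H.carrier) = 0
      by_contra hne
      set z := Θ (proj H.gr i (x : H.carrier)) with hz
      have hz0 : z ≠ 0 := fun h => hne (hΘi (h.trans (map_zero Θ).symm))
      obtain ⟨hle', r, hr, hrz⟩ := hd2 (i * q) z ((hΘ i).1 _ (proj_mem H.gr i _)) hz0
      have hzq : ∀ r ∈ 𝒜 (q : ℤ), r • z = 0 := fun r hr => by
        obtain ⟨b, hb, rfl⟩ := hV.exists_preimage (j := 1) (x := r) (by rw [one_mul]; exact hr)
        rw [hz, ← LinearMap.map_smulₛₗ]
        exact (congrArg Θ (hxi b hb)).trans (map_zero Θ)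
      have hlt : a - i * q < q := by
        by_contra h
        obtain ⟨e, he⟩ := Int.eq_ofNat_of_zero_le (show (0 : ℤ) ≤ a - i * q by omega)
        rw [he] at hr
        exact hrz (smul_eq_zero_of_std hstd z q hzq e (by omega) r hr)
      refine hi ?_
      have h1 : ((i - j) * q : ℤ) = i * q - (a - ρ) := by rw [sub_mul, hjq]
      rcases lt_trichotomy i j with h | h | h
      · have h2 : (i - j) * (q : ℤ) ≤ (-1) * q := mul_le_mul_of_nonneg_right (by omega) (by positivity)
        omega
      · exact h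
      · have h2 : (1 : ℤ) * q ≤ (i - j) * q := mul_le_mul_of_nonneg_right (by omega) (by positivity)
        omega
    · intro hx r hr
      induction hr using Submodule.span_induction with
      | mem s hs =>
        obtain ⟨e, he, hse⟩ := Set.mem_iUnion₂.1 hs
        refine hΘi ?_
        rw [LinearMap.map_smulₛₗ, map_zero]
        by_contra hne
        have h1 := (hd2 _ _ (smul_mem 𝒜 (HMod I m n).gr (hV.map_mem hse) ((hΘ j).1 x hx)) hne).1
        have h2 : (1 : ℤ) * q ≤ e * q := mul_le_mul_of_nonneg_right (by have : (0:ℤ) < e := he; omega) (by positivity)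
        omega
      | zero => exact zero_smul _ _
      | add p p' _ _ hp hp' => rw [add_smul, hp, hp', add_zero]
      | smul c p _ hp => rw [smul_eq_mul, mul_smul, hp, smul_zero]

include hV hpos h0 hm hmsp hstd hn ha hρ0 hρq hρa in
/-- The type of the Veronese subring. -/
theorem bassNum_veronese (m' : Ideal R') [m'.IsMaximal] (hm' : m' = GrFieldLib.irr 𝒜') :
    GrLC.bassNum m' R' n = (Module.finrank (GrLC.deg0 𝒜) (GrLC.comp 𝒜 𝒜 ρ) : ℕ∞) := by
  haveI := isNoetherianRing_of_veronese hV
  obtain ⟨F, hlow, j, hdim, hsoc⟩ := exists_socle_veronese hV hpos h0 hm hmsp hstd hn I ha hρ0 hρq hρa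
  subst hm'
  haveI : (irrH 𝒜').toIdeal.IsPrime := inferInstanceAs (GrFieldLib.irr 𝒜').IsPrime
  have h1 := bassNum_eq_bassNum_topH (m := irrH 𝒜') F hlow
  have hpos' := veronese_pos hV hpos
  have h0' := veronese_isField hV h0
  refine h1.trans ?_
  rw [bassNum_zero_eq]
  refine (length_localized_killed hpos' h0' rfl (F.H (irrH 𝒜') n)).trans ?_
  letI : Field (GrLC.deg0 𝒜') := h0'.toField
  let e : killed (irrH 𝒜').toIdeal (F.H (irrH 𝒜') n) ≃ₗ[GrLC.deg0 𝒜'] F.Hcomp (irrH 𝒜') n j :=
    { toFun := fun x => ⟨x.1, (hsoc x.1).1 x.2⟩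
      invFun := fun x => ⟨x.1, (hsoc x.1).2 x.2⟩
      map_add' := fun _ _ => rfl
      map_smul' := fun _ _ => rfl
      left_inv := fun _ => rfl
      right_inv := fun _ => rfl }
  rw [show Module.length (GrLC.deg0 𝒜') (killed (GrFieldLib.irr 𝒜') (F.H (irrH 𝒜') n)) = _ from e.length_eq]
  haveI : Module.Finite (GrLC.deg0 𝒜') (F.Hcomp (irrH 𝒜') n j) :=
    Module.rank_lt_aleph0_iff.1 (hdim ▸ Cardinal.natCast_lt_aleph0)
  rw [Module.length_eq_finrank]
  norm_cast
  exact (congrArg Cardinal.toNat hdim).trans (Cardinal.toNat_natCast _)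

end Groth.Agent.GrCoreLib
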