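import Mathlib
import Groth.Agent.GrCoreLib.VeroneseType
import Groth.Agent.GrFieldLib.RegSeq
import Groth.Agent.GrFieldLib.Top
import Groth.Agent.GrCoreLib.DualPieces

/-! A standard graded ring with a Gorenstein Veronese subring has self-dual top local cohomology. -/

set_option autoImplicit false
set_option linter.style.haveILetI false
set_option linter.unusedSectionVars false
universe u

open DirectSum GrInjLib CategoryTheory RingTheory.Sequence
open scoped Pointwise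

namespace Groth.Agent.GrCoreLib

/-- Linear maps factor through an injective map of vector spaces. -/
theorem exists_factor {K V W L : Type*} [Field K] [AddCommGroup V] [Module K V] [AddCommGroup W]
    [Module K W] [AddCommGroup L] [Module K L] (f : V →ₗ[K] W) (g : V →ₗ[K] L)
    (h : ∀ v, f v = 0 → g v = 0) : ∃ φ : W →ₗ[K] L, ∀ v, φ (f v) = g v := by
  let g' : (V ⧸ LinearMap.ker f) →ₗ[K] L := (LinearMap.ker f).liftQ g fun v hv => h v hv
  let f' : (V ⧸ LinearMap.ker f) →ₗ[K] W := (LinearMap.ker f).liftQ f le_rfl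
  obtain ⟨s, hs⟩ := f'.exists_leftInverse_of_injective (LinearMap.ker_eq_bot.2
    (LinearMap.ker_eq_bot.1 (Submodule.ker_liftQ_eq_bot _ _ _ le_rfl)))
  exact ⟨g' ∘ₗ s, fun v => congrArg g' (LinearMap.congr_fun hs (Submodule.Quotient.mk v))⟩

/-- Regularity of a pair passes to powers. -/
theorem pair_pow {R : Type u} [CommRing R] {x z : R} (hx : ∀ r, x * r = 0 → r = 0)
    (hz : ∀ r, (∃ c, z * r = x * c) → ∃ s, r = x * s) (l e : ℕ) :
    (∀ r, x ^ l * r = 0 → r = 0) ∧ ∀ r, (∃ c, z ^ e * r = x ^ l * c) → ∃ s, r = x ^ l * s := by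
  have hz' : ∀ e r, (∃ c, z ^ e * r = x * c) → ∃ s, r = x * s := by
    intro e
    induction e with
    | zero => rintro r ⟨c, hc⟩; exact ⟨c, by rwa [pow_zero, one_mul] at hc⟩
    | succ e ih =>
      rintro r ⟨c, hc⟩
      exact ih r (hz _ ⟨c, by rw [← mul_assoc, ← pow_succ']; exact hc⟩)
  induction l with
  | zero => exact ⟨fun r hr => by rwa [pow_zero, one_mul] at hr, fun r _ => ⟨r, by simp⟩⟩
  | succ l ih =>
    refine ⟨fun r hr => hx r (ih.1 _ (by rw [← mul_assoc, ← pow_succ]; exact hr)), fun r hr => ?_⟩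
    obtain ⟨c, hc⟩ := hr
    obtain ⟨s, rfl⟩ := hz' e r ⟨x ^ l * c, by rw [hc, pow_succ']; ring⟩
    have h1 : z ^ e * s = x ^ l * c := by
      refine sub_eq_zero.1 (hx _ ?_)
      rw [mul_sub, sub_eq_zero]
      calc x * (z ^ e * s) = z ^ e * (x * s) := by ring
        _ = x ^ (l + 1) * c := hc
        _ = x * (x ^ l * c) := by rw [pow_succ']; ring
    obtain ⟨s', rfl⟩ := ih.2 s ⟨c, h1⟩
    exact ⟨s', by rw [pow_succ']; ring⟩

variable {R : Type u} [CommRing R] [IsNoetherianRing R] {𝒜 : ℤ → AddSubgroup R} [GradedRing 𝒜]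
  {m : HomogeneousIdeal 𝒜} {n : ℕ}

/-- Multiplication by a homogeneous nonzerodivisor is surjective on top local cohomology. -/
theorem exists_smul_eq_top (hn : ringKrullDim R = n) (I : GrLC.StarInjRes 𝒜 𝒜) {x : R} {D : ℤ}
    (hx : x ∈ 𝒜 D) (hreg : ∀ r, x * r = 0 → r = 0) {g : ℤ} {y : I.H m n} (hy : y ∈ I.Hgr m n g) :
    ∃ v ∈ I.Hgr m n (g - D), x • v = y := by
  classical
  let M : GrLC.GMod.{u} 𝒜 := GrInjLib.ringG (𝒜 := 𝒜)
  let EB : GrLC.StarInjRes 𝒜 M.gr := addRes 𝒜 I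
  let f : M.carrier →ₗ[R] M.carrier := x • (LinearMap.id : M.carrier →ₗ[R] M.carrier)
  have hf : GrLC.IsGrHomDeg M.gr M.gr f D := fun b z hz => by
    show x • z ∈ M.gr (b + D)
    rw [add_comm]
    exact smul_mem 𝒜 M.gr hx hz
  have hJ : (Ideal.span {x}).IsHomogeneous 𝒜 :=
    Ideal.homogeneous_span 𝒜 _ fun w hw => ⟨D, by rw [Set.mem_singleton_iff.1 hw]; exact hx⟩
  let C := quotG 𝒜 (ringPieces 𝒜) (ideal_homogeneous 𝒜 hJ)
  let π : M.carrier →ₗ[R] C.carrier := quotMk 𝒜 (ringPieces 𝒜) (ideal_homogeneous 𝒜 hJ)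
  obtain ⟨EC⟩ := exists_starInjRes 𝒜 C.gr
  let Lf : Lift EB EB f D :=
    { ψ := fun k => x • (LinearMap.id : (EB.X k).carrier →ₗ[R] (EB.X k).carrier)
      deg := fun k b z hz => by
        show x • z ∈ (EB.X k).gr (b + D)
        rw [add_comm]
        exact smul_mem 𝒜 (EB.X k).gr hx hz
      comm0 := LinearMap.ext fun z => (map_smul EB.ε x z).symm
      comm := fun k => LinearMap.ext fun z => (map_smul (EB.d k) x z).symm }
  have hg : GrLC.IsGrHom M.gr C.gr π := quotMk_grHom 𝒜 (ringPieces 𝒜) (ideal_homogeneous 𝒜 hJ)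
  obtain ⟨Lg⟩ := exists_lift EB EC ((isGrHom_iff M.gr C.gr).1 hg)
  have hinj : Function.Injective f := (injective_iff_map_eq_zero f).2 fun r hr => hreg r hr
  have e : ∀ c : R, x • c = c * x := fun c => mul_comm x c
  have hex : ∀ b, π b = 0 ↔ ∃ z, f z = b := fun b => by
    constructor
    · intro h
      obtain ⟨c, hc⟩ := Ideal.mem_span_singleton'.1
        ((ker_quotMk 𝒜 (ringPieces 𝒜) (ideal_homogeneous 𝒜 hJ)).le (LinearMap.mem_ker.2 h))
      exact ⟨c, (e c).trans hc⟩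
    · rintro ⟨z, rfl⟩
      exact LinearMap.mem_ker.1 ((ker_quotMk 𝒜 (ringPieces 𝒜) (ideal_homogeneous 𝒜 hJ)).ge
        (Ideal.mem_span_singleton'.2 ⟨z, (e z).symm⟩))
  obtain ⟨-, -, -, hC, -, -⟩ := exists_long_exact Lf Lg m hf hg hinj hex
    (quotMk_surjective 𝒜 (ringPieces 𝒜) (ideal_homogeneous 𝒜 hJ))
  haveI : Subsingleton (EC.H m n) := by
    obtain ⟨e⟩ := exists_H_equiv_locCoh EC m n
    have hnz : x ∈ nonZeroDivisors R := mem_nonZeroDivisors_iff_right.2 fun r hr => hreg r (by rwa [mul_comm])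
    haveI : Subsingleton ((localCohomology m.toIdeal n).obj (ModuleCat.of R C.carrier) : Type u) := by
      refine LocCohLib.subsingleton_of_supportDim_lt m.toIdeal (R ⧸ Ideal.span {x}) n ?_
      rw [Module.supportDim_quotient_eq_ringKrullDim]
      have h := (ringKrullDim_quotient_succ_le_of_nonZeroDivisor hnz).trans hn.le
      rcases eq_or_ne (ringKrullDim (R ⧸ Ideal.span {x})) ⊥ with h' | h'
      · rw [h']; exact WithBot.bot_lt_coe _
      obtain ⟨e, he⟩ := WithBot.ne_bot_iff_exists.1 h'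
      rw [← he] at h ⊢
      have h2 : e + 1 ≤ (n : ℕ∞) := by exact_mod_cast h
      exact_mod_cast lt_of_lt_of_le (ENat.lt_add_one_iff (ne_top_of_le_ne_top (ENat.coe_ne_top n)
        (le_self_add.trans h2)) |>.2 le_rfl) h2
    exact e.toEquiv.subsingleton
  have hy' : (y : EB.H m n) ∈ LinearMap.range (Lf.mapH m n) :=
    (hC n).le (LinearMap.mem_ker.2 (Subsingleton.elim (α := EC.H m n) _ _))
  obtain ⟨v, hv, hvy⟩ := exists_H_preimage m (Lf.mapH m n) (Lf.mapH_grHomDeg m n) (g := g - D)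
    (by rw [sub_add_cancel]; exact hy) hy'
  refine ⟨v, hv, ?_⟩
  obtain ⟨z, rfl⟩ := Submodule.mkQ_surjective _ v
  exact hvy

variable [LocCoh.IsCohenMacaulayRing R]

/-- If the pieces in degrees congruent to `a` modulo `q` are dual to those of the ring, all are. -/
theorem selfdual_of_veronese (hpos : ∀ n : ℤ, n < 0 → 𝒜 n = ⊥) (h0 : IsField (GrLC.deg0 𝒜))
    (hmsp : m.toIdeal = GrFieldLib.irr 𝒜)
    (hstd : GrFieldLib.irr 𝒜 = Ideal.span ((𝒜 1 : AddSubgroup R) : Set R))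
    (hn : ringKrullDim R = n) (h2 : 2 ≤ n) (I : GrLC.StarInjRes 𝒜 𝒜) {q : ℕ} (hq : 0 < q) {a : ℤ}
    (hP : ∀ k : ℤ, (q : ℤ) ∣ a - k → ∀ x ∈ I.Hgr m n k, x ≠ 0 → ∃ r ∈ 𝒜 (a - k), r • x ≠ 0)
    (hS : ∀ i : ℤ, (q : ℤ) ∣ i → ∀ ψ : GrLC.comp 𝒜 𝒜 i →ₗ[GrLC.deg0 𝒜] I.Hcomp m n a,
      ∃ y ∈ I.Hgr m n (a - i), ∀ r : GrLC.comp 𝒜 𝒜 i, (r : R) • y = (ψ r).1) :
    (∀ k, ∀ x ∈ I.Hgr m n k, x ≠ 0 → k ≤ a ∧ ∃ r ∈ 𝒜 (a - k), r • x ≠ 0) ∧
      ∀ i : ℤ, ∀ ψ : GrLC.comp 𝒜 𝒜 i →ₗ[GrLC.deg0 𝒜] I.Hcomp m n a,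
        ∃ y ∈ I.Hgr m n (a - i), ∀ r : GrLC.comp 𝒜 𝒜 i, (r : R) • y = (ψ r).1 := by
  classical
  letI : Field (GrLC.deg0 𝒜) := h0.toField
  let H := HMod I m n
  -- a homogeneous regular pair of large degree
  obtain ⟨L, hL, hlen, hwr, -⟩ := GrFieldLib.exists_regular_seq hpos h0 hmsp hn
  rcases L with _ | ⟨⟨x₀, D₁⟩, _ | ⟨⟨z₀, D₂⟩, L⟩⟩
  · simp at hlen; omega
  · simp at hlen; omega
  simp only [List.map_cons, isWeaklyRegular_cons_iff] at hwr
  obtain ⟨hx₀, hz₀, -⟩ := hwr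
  have hx₁ := hL (x₀, D₁) (by simp)
  have hz₁ := hL (z₀, D₂) (by simp)
  have hreg₀ : ∀ r, x₀ * r = 0 → r = 0 := fun r hr => isSMulRegular_iff_right_eq_zero_of_smul.1 hx₀ r hr
  have hpair₀ : ∀ r, (∃ c, z₀ * r = x₀ * c) → ∃ s, r = x₀ * s := by
    rintro r ⟨c, hc⟩
    have := (isSMulRegular_quotient_iff_mem_of_smul_mem (x₀ • (⊤ : Submodule R R)) z₀).1 hz₀ r
      ((Submodule.mem_smul_pointwise_iff_exists _ _ _).2 ⟨c, trivial, hc.symm⟩)
    obtain ⟨s, -, hs⟩ := (Submodule.mem_smul_pointwise_iff_exists _ _ _).1 this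
    exact ⟨s, hs.symm⟩
  -- elements of large degree kill the kernel of the pairing
  let Ker : ℤ → I.H m n → Prop := fun g y => y ∈ I.Hgr m n g ∧ ∀ r ∈ 𝒜 (a - g), r • y = 0
  have hlow : ∀ g y, Ker g y → ∀ e : ℕ, q ≤ e → ∀ s ∈ 𝒜 (e : ℤ), s • y = 0 := by
    rintro g y ⟨hy, hk⟩
    have hqz : (q : ℤ) ≠ 0 := by exact_mod_cast hq.ne'
    obtain ⟨l, hl⟩ : ∃ l : ℕ, (l : ℤ) = (a - g) % q :=
      ⟨_, Int.toNat_of_nonneg (Int.emod_nonneg _ hqz)⟩
    have hlq : l ≤ q := by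
      have h1 := Int.emod_lt_of_pos (a - g) (show (0 : ℤ) < q by exact_mod_cast hq)
      omega
    have hkl : ∀ s ∈ 𝒜 (l : ℤ), s • y = 0 := by
      intro s hs
      by_contra hne
      have hsy : s • y ∈ I.Hgr m n (l + g) := smul_mem 𝒜 H.gr hs hy
      have hdiv : (q : ℤ) ∣ a - (l + g) := by
        rw [show a - (l + g) = a - g - (a - g) % q by omega]
        exact Int.dvd_self_sub_emod
      obtain ⟨r, hr, hrs⟩ := hP _ hdiv _ hsy hne
      refine hrs ?_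
      rw [← mul_smul]
      refine hk _ ?_
      have := SetLike.GradedMul.mul_mem (A := 𝒜) hr hs
      rwa [show a - (l + g) + l = a - g by omega] at this
    exact fun e he s hs => smul_eq_zero_of_std hstd y l hkl e (hlq.trans he) s hs
  obtain ⟨E₁, hE₁⟩ : ∃ E : ℕ, (E : ℤ) = D₁ := ⟨_, Int.toNat_of_nonneg hx₁.2.le⟩
  obtain ⟨E₂, hE₂⟩ : ∃ E : ℕ, (E : ℤ) = D₂ := ⟨_, Int.toNat_of_nonneg hz₁.2.le⟩
  set x := x₀ ^ q with hx
  set z := z₀ ^ q with hz
  have hxd : x ∈ 𝒜 ((q * E₁ : ℕ) : ℤ) := by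
    have := SetLike.pow_mem_graded q hx₁.1
    rwa [nsmul_eq_mul, ← hE₁, ← Nat.cast_mul] at this
  have hzd : z ∈ 𝒜 ((q * E₂ : ℕ) : ℤ) := by
    have := SetLike.pow_mem_graded q hz₁.1
    rwa [nsmul_eq_mul, ← hE₂, ← Nat.cast_mul] at this
  obtain ⟨hxreg, hxz⟩ := pair_pow hreg₀ hpair₀ q q
  have hq1 : q ≤ q * E₁ := Nat.le_mul_of_pos_right q (by omega)
  have hq2 : q ≤ q * E₂ := Nat.le_mul_of_pos_right q (by omega)
  -- every functional on a piece of the ring is given by an element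
  have hall : ∀ i : ℤ, ∀ ψ : GrLC.comp 𝒜 𝒜 i →ₗ[GrLC.deg0 𝒜] I.Hcomp m n a,
      ∃ y ∈ I.Hgr m n (a - i), ∀ r : GrLC.comp 𝒜 𝒜 i, (r : R) • y = (ψ r).1 := by
    intro i ψ
    have hqz : (q : ℤ) ≠ 0 := by exact_mod_cast hq.ne'
    obtain ⟨l, hl⟩ : ∃ l : ℕ, (l : ℤ) = (-i) % q := ⟨_, Int.toNat_of_nonneg (Int.emod_nonneg _ hqz)⟩
    have hdiv : (q : ℤ) ∣ i + l := by
      rw [show i + (l : ℤ) = -(-i - (-i) % q) by omega, dvd_neg]
      exact Int.dvd_self_sub_emod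
    haveI : IsNoetherian (GrLC.deg0 𝒜) (GrLC.comp 𝒜 𝒜 (l : ℤ)) := isNoetherian_comp 𝒜 𝒜 _
    let N := Module.finrank (GrLC.deg0 𝒜) (GrLC.comp 𝒜 𝒜 (l : ℤ))
    let t := Module.finBasis (GrLC.deg0 𝒜) (GrLC.comp 𝒜 𝒜 (l : ℤ))
    let ι : GrLC.comp 𝒜 𝒜 i →ₗ[GrLC.deg0 𝒜] (Fin N → GrLC.comp 𝒜 𝒜 (i + l)) :=
      LinearMap.pi fun k =>
        { toFun := fun r => ⟨(r : R) * (t k : R), SetLike.GradedMul.mul_mem (A := 𝒜) r.2 (t k).2⟩
          map_add' := fun r r' => Subtype.ext (add_mul _ _ _)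
          map_smul' := fun c r => Subtype.ext (show ((c : R) • (r : R)) * (t k : R) = (c : R) • ((r : R) * (t k : R)) from smul_mul_assoc _ _ _) }
    have hι : ∀ r, ι r = 0 → ψ r = 0 := by
      intro r hr
      suffices h : (r : R) = 0 by rw [show r = 0 from Subtype.ext h, map_zero]
      have hkl : ∀ s ∈ 𝒜 (l : ℤ), s • (r : R) = 0 := by
        intro s hs
        have hsum := congrArg Subtype.val (t.sum_repr ⟨s, hs⟩)
        rw [Submodule.coe_sum] at hsum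
        rw [show s = ∑ k, ((t.repr ⟨s, hs⟩ k : GrLC.deg0 𝒜) : R) • (t k : R) from hsum.symm, Finset.sum_smul]
        refine Finset.sum_eq_zero fun k _ => ?_
        have := congrArg Subtype.val (congrFun hr k)
        rw [smul_eq_mul, smul_eq_mul, mul_assoc, mul_comm (t k : R)]
        rw [show (r : R) * (t k : R) = 0 from this, mul_zero]
      obtain ⟨hxl, -⟩ := pair_pow hreg₀ hpair₀ l 0
      refine hxl _ ?_
      have h1 : x₀ ^ l ∈ 𝒜 ((l * E₁ : ℕ) : ℤ) := by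
        have := SetLike.pow_mem_graded l hx₁.1
        rwa [nsmul_eq_mul, ← hE₁, ← Nat.cast_mul] at this
      exact smul_eq_zero_of_std hstd (r : R) l hkl _ (Nat.le_mul_of_pos_right l (by omega)) _ h1
    obtain ⟨Φ, hΦ⟩ := exists_factor ι ψ hι
    choose y hy hyr using fun k => hS (i + l) hdiv (Φ ∘ₗ LinearMap.single (GrLC.deg0 𝒜) (fun _ : Fin N => GrLC.comp 𝒜 𝒜 (i + l)) k)
    refine ⟨∑ k, (t k : R) • y k, sum_mem fun k _ => ?_, fun r => ?_⟩
    · have := smul_mem 𝒜 H.gr (t k).2 (hy k : (y k : H.carrier) ∈ H.gr (a - (i + l)))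
      rwa [show (l : ℤ) + (a - (i + l)) = a - i by omega] at this
    · rw [← hΦ r, Finset.smul_sum]
      conv_rhs => rw [← Finset.univ_sum_single (ι r), map_sum, Submodule.coe_sum]
      refine Finset.sum_congr rfl fun k _ => ?_
      rw [← mul_smul]
      exact hyr k (ι r k)
  -- the kernel of the pairing vanishes
  have hker : ∀ g y, Ker g y → y = 0 := by
    intro g y hy
    obtain ⟨u, hu, hxu⟩ := exists_smul_eq_top hn I hxd hxreg hy.1
    set j : ℤ := a - g + (q * E₁ : ℕ) with hj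
    have hju : ∀ r ∈ 𝒜 j, r • u ∈ I.Hgr m n a := fun r hr => by
      have := smul_mem 𝒜 H.gr hr (hu : (u : H.carrier) ∈ H.gr _)
      rwa [show j + (g - ((q * E₁ : ℕ) : ℤ)) = a by omega] at this
    let ψ : GrLC.comp 𝒜 𝒜 j →ₗ[GrLC.deg0 𝒜] I.Hcomp m n a :=
      { toFun := fun r => ⟨(r : R) • u, hju _ r.2⟩
        map_add' := fun r r' => Subtype.ext (add_smul _ _ _)
        map_smul' := fun c r => Subtype.ext (show ((c : R) • (r : R)) • u = (c : R) • ((r : R) • u) from smul_assoc _ _ _) }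
    let J : Ideal R := Ideal.span {x}
    let f : GrLC.comp 𝒜 𝒜 j →ₗ[GrLC.deg0 𝒜] (GrLC.comp 𝒜 𝒜 (j + (q * E₂ : ℕ))) ⧸
        (J.restrictScalars (GrLC.deg0 𝒜)).comap (GrLC.comp 𝒜 𝒜 (j + (q * E₂ : ℕ))).subtype :=
      Submodule.mkQ _ ∘ₗ
        { toFun := fun r => ⟨(r : R) * z, SetLike.GradedMul.mul_mem (A := 𝒜) r.2 hzd⟩
          map_add' := fun r r' => Subtype.ext (add_mul _ _ _)
          map_smul' := fun c r => Subtype.ext (show ((c : R) • (r : R)) * z = (c : R) • ((r : R) * z) from smul_mul_assoc _ _ _) }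
    have hfψ : ∀ r, f r = 0 → ψ r = 0 := by
      intro r hr
      have h1 : (r : R) * z ∈ J := by
        simp only [f, LinearMap.comp_apply, LinearMap.coe_mk, AddHom.coe_mk, Submodule.mkQ_apply,
          Submodule.Quotient.mk_eq_zero] at hr
        exact hr
      obtain ⟨c, hc⟩ := Ideal.mem_span_singleton'.1 h1
      obtain ⟨s, hs⟩ := hxz (r : R) ⟨c, by rw [← hz, ← hx, mul_comm, ← hc, mul_comm]⟩
      rw [← hx] at hs
      refine Subtype.ext ?_
      show (r : R) • u = 0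
      have hs' : (r : R) = (decompose 𝒜 s (j - (q * E₁ : ℕ)) : R) * x := by
        have h := coe_decompose_mul_add_of_right_mem 𝒜 (a := s) (i := j - (q * E₁ : ℕ)) hxd
        rwa [sub_add_cancel, mul_comm s, ← hs, decompose_of_mem_same 𝒜 r.2] at h
      rw [hs', mul_smul, hxu]
      refine hy.2 _ ?_
      have hjg : j - (q * E₁ : ℕ) = a - g := by omega
      exact hjg ▸ (decompose 𝒜 s (j - (q * E₁ : ℕ))).2
    obtain ⟨Φ, hΦ⟩ := exists_factor f ψ hfψ
    obtain ⟨p, hp, hpr⟩ := hall (j + (q * E₂ : ℕ)) (Φ ∘ₗ Submodule.mkQ _)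
    have hxp : Ker (((q * E₁ : ℕ) : ℤ) + (a - (j + (q * E₂ : ℕ)))) (x • p) := by
      refine ⟨smul_mem 𝒜 H.gr hxd hp, fun r hr => ?_⟩
      rw [← mul_smul]
      have hr' : r * x ∈ 𝒜 (j + (q * E₂ : ℕ)) := by
        have := SetLike.GradedMul.mul_mem (A := 𝒜) hr hxd
        rwa [show a - (((q * E₁ : ℕ) : ℤ) + (a - (j + (q * E₂ : ℕ)))) + (q * E₁ : ℕ) = j + (q * E₂ : ℕ) by omega] at this
      refine (hpr ⟨r * x, hr'⟩).trans ?_
      have hz0 : Submodule.mkQ ((J.restrictScalars (GrLC.deg0 𝒜)).comap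
          (GrLC.comp 𝒜 𝒜 (j + (q * E₂ : ℕ))).subtype) ⟨r * x, hr'⟩ = 0 :=
        (Submodule.Quotient.mk_eq_zero _).2 (Ideal.mem_span_singleton'.2 ⟨r, rfl⟩ : r * x ∈ J)
      rw [LinearMap.comp_apply, hz0, map_zero]
      rfl
    have hzp : z • p ∈ I.Hgr m n (g - (q * E₁ : ℕ)) := by
      have := smul_mem 𝒜 H.gr hzd (hp : (p : H.carrier) ∈ H.gr _)
      rwa [show ((q * E₂ : ℕ) : ℤ) + (a - (j + (q * E₂ : ℕ))) = g - (q * E₁ : ℕ) by omega] at this
    have hw : Ker (g - (q * E₁ : ℕ)) (u - z • p) := by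
      refine ⟨sub_mem hu hzp, fun r hr => ?_⟩
      have hr' : r ∈ 𝒜 j := by rwa [show a - (g - ((q * E₁ : ℕ) : ℤ)) = j by omega] at hr
      rw [smul_sub, ← mul_smul, sub_eq_zero]
      exact ((hpr ⟨r * z, SetLike.GradedMul.mul_mem (A := 𝒜) hr' hzd⟩).trans
        (congrArg Subtype.val (hΦ ⟨r, hr'⟩))).symm
    have h1 := hlow _ _ hw _ hq1 x hxd
    have h2 := hlow _ _ hxp _ hq2 z hzd
    rw [smul_sub, sub_eq_zero, hxu] at h1
    rw [h1, smul_comm, h2]
  refine ⟨?_, hall⟩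
  intro k v hv hv0
  refine ⟨?_, ?_⟩
  · by_contra hlt
    refine hv0 (hker k v ⟨hv, fun r hr => ?_⟩)
    rw [GrFieldLib.eq_zero_of_neg hpos _ (by omega) r hr, zero_smul]
  · by_contra h
    push Not at h
    exact hv0 (hker k v ⟨hv, h⟩)

/-- Self-dual top local cohomology is *injective, so the ring is Gorenstein. -/
theorem isGorensteinRing_of_selfdual (hpos : ∀ n : ℤ, n < 0 → 𝒜 n = ⊥) (h0 : IsField (GrLC.deg0 𝒜))
    (hm : GrLC.IsStarLocal 𝒜 m) (hmsp : m.toIdeal = GrFieldLib.irr 𝒜) (hn : ringKrullDim R = n)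
    (I : GrLC.StarInjRes 𝒜 𝒜) {a : ℤ} {σ : I.H m n} (hσ : σ ∈ I.Hgr m n a) (hσ0 : σ ≠ 0)
    (hline : ∀ y ∈ I.Hgr m n a, ∃ c : R, c ∈ 𝒜 0 ∧ c • σ = y)
    (hP : ∀ k, ∀ x ∈ I.Hgr m n k, x ≠ 0 → k ≤ a ∧ ∃ r ∈ 𝒜 (a - k), r • x ≠ 0)
    (hS : ∀ i : ℤ, ∀ ψ : GrLC.comp 𝒜 𝒜 i →ₗ[GrLC.deg0 𝒜] I.Hcomp m n a,
      ∃ y ∈ I.Hgr m n (a - i), ∀ r : GrLC.comp 𝒜 𝒜 i, (r : R) • y = (ψ r).1) :
    LocCoh.IsGorensteinRing R := by
  classical
  letI : Field (GrLC.deg0 𝒜) := h0.toField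
  haveI := isPrime_of_starLocal hm
  let H := HMod I m n
  letI := (H_isInternal I m n).chooseDecomposition
  let Q := quotG 𝒜 (ringPieces 𝒜) (ideal_homogeneous 𝒜 m.isHomogeneous)
  obtain ⟨E', e₀, he₀⟩ := exists_starInjHull 𝒜 Q.gr
  let e : (R ⧸ m.toIdeal) →ₗ[R] E'.carrier := e₀
  have he : GrLC.IsStarInjHull 𝒜 (GrLC.quotGr 𝒜 m) E'.gr e := he₀
  set ε := e (Submodule.Quotient.mk 1) with hε
  letI := (shift_isInternal (ringPieces 𝒜) (-a)).chooseDecomposition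
  have hf : GrLC.IsGrHom (shiftPieces (ringPieces 𝒜) (-a)) H.gr (LinearMap.toSpanSingleton R H.carrier σ) :=
    fun j c hc => by
      rw [LinearMap.toSpanSingleton_apply]
      have := smul_mem 𝒜 H.gr (hc : c ∈ 𝒜 (j + -a)) (hσ : (σ : H.carrier) ∈ H.gr a)
      rwa [neg_add_cancel_right] at this
  have hg : GrLC.IsGrHomDeg (shiftPieces (ringPieces 𝒜) (-a)) E'.gr
      (LinearMap.toSpanSingleton R E'.carrier ε) (-a) := fun j c hc => by
    rw [LinearMap.toSpanSingleton_apply]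
    have := smul_mem 𝒜 E'.gr (hc : c ∈ 𝒜 (j + -a)) (GrFieldLib.Dual.socle_mem he)
    rwa [add_zero] at this
  have hcomp : ∀ c : R, ∀ i, (decompose 𝒜 c i : R) • σ = proj H.gr (i + a) ((c • σ : I.H m n) : H.carrier) := by
    intro c i
    induction c using smul_induction 𝒜 with
    | h0 =>
      rw [decompose_zero, DirectSum.zero_apply, ZeroMemClass.coe_zero, zero_smul]
      exact (map_zero _).symm
    | hadd r s hr hs =>
      rw [decompose_add, DirectSum.add_apply, AddSubgroup.coe_add, add_smul, hr, hs, add_smul]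
      exact (map_add (proj H.gr (i + a)) _ _).symm
    | hhom b r hr =>
      have hmem : ((r • σ : I.H m n) : H.carrier) ∈ H.gr (b + a) := smul_mem 𝒜 H.gr hr hσ
      by_cases hb : b = i
      · subst hb
        rw [decompose_of_mem_same 𝒜 hr, proj_of_mem H.gr hmem]
      · rw [decompose_of_mem_ne 𝒜 hr hb, zero_smul, proj_of_mem_ne H.gr hmem (by omega)]
        rfl
  have hker : ∀ c, LinearMap.toSpanSingleton R H.carrier σ c = 0 →
      LinearMap.toSpanSingleton R E'.carrier ε c = 0 := fun c hc => by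
    rw [LinearMap.toSpanSingleton_apply] at hc ⊢
    rw [hε, GrFieldLib.Dual.smul_socle, show (Submodule.Quotient.mk c : R ⧸ m.toIdeal) = 0 from ?_, map_zero]
    refine (Submodule.Quotient.mk_eq_zero _).2 ?_
    rw [← DirectSum.sum_support_decompose 𝒜 c]
    refine Ideal.sum_mem _ fun b _ => ?_
    rcases lt_trichotomy b 0 with hb | hb | hb
    · rw [show (decompose 𝒜 c b : R) = 0 from GrFieldLib.eq_zero_of_neg hpos b hb _ (decompose 𝒜 c b).2]
      exact zero_mem _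
    · subst hb
      by_cases hz : (⟨_, (decompose 𝒜 c 0).2⟩ : GrLC.deg0 𝒜) = 0
      · rw [show ((decompose 𝒜 c 0 : R)) = 0 from congrArg Subtype.val hz]; exact zero_mem _
      · obtain ⟨w, hw⟩ := h0.mul_inv_cancel hz
        have hw' : (decompose 𝒜 c 0 : R) * (w : R) = 1 := congrArg Subtype.val hw
        have h1 : (decompose 𝒜 c 0 : R) • σ = 0 := by
          rw [hcomp c 0]
          exact (congrArg (proj H.gr (0 + a)) hc).trans (map_zero _)
        refine absurd ?_ hσ0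
        calc σ = ((decompose 𝒜 c 0 : R) * (w : R)) • σ := by rw [hw', one_smul]
          _ = (w : R) • ((decompose 𝒜 c 0 : R) • σ) := by rw [mul_comm, mul_smul]
          _ = 0 := by rw [h1, smul_zero]
    · rw [hmsp]
      exact Ideal.subset_span (Set.mem_iUnion₂.2 ⟨b, hb, (decompose 𝒜 c b).2⟩)
  obtain ⟨h, hh, hhf⟩ := factor_deg 𝒜 (shiftPieces (ringPieces 𝒜) (-a)) H.gr he.starInj hf hg hker
  have hσε : h σ = ε := by
    have := LinearMap.congr_fun hhf 1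
    simpa using this
  have hinj : Function.Injective h := by
    refine LinearMap.ker_eq_bot.1 ?_
    by_contra hne
    obtain ⟨g, x, hx, hxk, hx0⟩ := exists_homogeneous_ne H.gr (ker_homogeneous H.gr E'.gr hh) hne
    obtain ⟨-, r, hr, hrx⟩ := hP g x hx hx0
    have hmem := smul_mem 𝒜 H.gr hr hx
    rw [sub_add_cancel] at hmem
    obtain ⟨c, hc, hcσ⟩ := hline _ hmem
    have h1 : c • ε = 0 := by
      rw [← hσε, ← map_smul]
      refine (congrArg h hcσ).trans ?_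
      rw [map_smul, LinearMap.mem_ker.1 hxk, smul_zero]
    have h2 : (⟨c, hc⟩ : GrLC.deg0 𝒜) = 0 := GrFieldLib.Dual.smul_socle_inj hpos h0 hmsp he ⟨c, hc⟩ h1
    refine hrx (hcσ.symm.trans ?_)
    rw [show c = 0 from congrArg Subtype.val h2]
    exact zero_smul R σ
  have hsurj : Function.Surjective h := by
    intro y
    induction y using DirectSum.Decomposition.inductionOn E'.gr with
    | zero => exact ⟨0, map_zero h⟩
    | add y y' hy hy' =>
      obtain ⟨p, hp⟩ := hy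
      obtain ⟨p', hp'⟩ := hy'
      exact ⟨p + p', by rw [map_add, hp, hp']⟩
    | @homogeneous g y =>
      let ev : GrLC.comp 𝒜 𝒜 (-g) →ₗ[GrLC.deg0 𝒜] GrLC.comp 𝒜 E'.gr 0 :=
        { toFun := fun r => ⟨(r : R) • (y : E'.carrier), by
            have := smul_mem 𝒜 E'.gr r.2 y.2
            rwa [neg_add_cancel] at this⟩
          map_add' := fun r r' => Subtype.ext (add_smul _ _ _)
          map_smul' := fun c r => Subtype.ext (show ((c : R) • (r : R)) • (y : E'.carrier) = (c : R) • ((r : R) • (y : E'.carrier)) from smul_assoc _ _ _) }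
      obtain ⟨p, hp, hpr⟩ := hS (-g) (LinearMap.toSpanSingleton (GrLC.deg0 𝒜) (I.Hcomp m n a) ⟨σ, hσ⟩ ∘ₗ
        (socleEquiv hpos h0 hmsp he).symm.toLinearMap ∘ₗ ev)
      have hd : h p - (y : E'.carrier) ∈ E'.gr g := by
        refine sub_mem ?_ y.2
        have := hh _ p hp
        rwa [show a - -g + -a = g by omega] at this
      refine ⟨p, sub_eq_zero.1 ?_⟩
      have hz := GrFieldLib.Dual.eq_zero_of_piece (𝒜 := 𝒜) (C := R) (𝒞 := 𝒜) hpos hmsp he
        (h := LinearMap.toSpanSingleton R E'.carrier (h p - (y : E'.carrier))) (d := g)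
        (fun i c hc => by
          rw [LinearMap.toSpanSingleton_apply]
          exact smul_mem 𝒜 E'.gr hc hd)
        (fun r hr => by
          rw [LinearMap.toSpanSingleton_apply, smul_sub, ← map_smul, sub_eq_zero]
          refine (congrArg h (hpr ⟨r, hr⟩)).trans ?_
          have h3 := congrArg Subtype.val ((socleEquiv hpos h0 hmsp he).apply_symm_apply (ev ⟨r, hr⟩))
          refine (map_smul h (((socleEquiv hpos h0 hmsp he).symm (ev ⟨r, hr⟩) : GrLC.deg0 𝒜) : R) σ).trans ?_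
          exact (congrArg ((((socleEquiv hpos h0 hmsp he).symm (ev ⟨r, hr⟩) : GrLC.deg0 𝒜) : R) • ·) hσε).trans h3)
      have := LinearMap.congr_fun hz 1
      simpa using this
  have hht : m.toIdeal.height = n := by
    have h := (GrFieldLib.height_irr 𝒜 hpos h0).trans hn
    rw [← hmsp] at h
    exact_mod_cast h
  exact isGorensteinRing_of_starInj hm hht I (fun i hi => subsingleton_H_of_lt hpos h0 hmsp hn I i hi)
    (starInj_of_equiv (M := H) (N := E') (LinearEquiv.ofBijective h ⟨hinj, hsurj⟩) (g := -a) hh he.starInj)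

end Groth.Agent.GrCoreLib
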