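import Mathlib
import Groth.Agent.GrCoreLib.Regrade
import Groth.Agent.GrCoreLib.Canon
import Groth.Agent.GrCoreLib.DualPieces
import Groth.Agent.GrFieldLib.Top
import Groth.Agent.GrRegLib.Poly
import Groth.Agent.GrInjLib.QuasiRegular

/-! The a-invariant of a weighted polynomial ring. -/

set_option autoImplicit false
set_option linter.style.haveILetI false
set_option linter.unusedSectionVars false
universe u

open DirectSum GrInjLib MvPolynomial RingTheory.Sequence

namespace Groth.Agent.GrCoreLib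

attribute [local instance] MvPolynomial.weightedGradedAlgebra

variable (k : Type u) [Field k] (N : ℕ)

/-- The variables form a weakly regular sequence. -/
theorem isWeaklyRegular_X :
    IsWeaklyRegular (MvPolynomial (Fin N) k) (List.ofFn fun i : Fin N => (X i : MvPolynomial (Fin N) k)) := by
  classical
  rw [isWeaklyRegular_iff]
  intro i hi
  have hi' : i < N := by simpa using hi
  rw [List.getElem_ofFn]
  set j : Fin N := ⟨i, hi'⟩
  have hset : Ideal.ofList ((List.ofFn fun i : Fin N => (X i : MvPolynomial (Fin N) k)).take i) =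
      Ideal.span (X '' {l : Fin N | (l : ℕ) < i}) := by
    unfold Ideal.ofList
    congr 1
    ext x
    simp only [List.mem_take_iff_getElem, Set.mem_image, Set.mem_setOf_eq, List.getElem_ofFn]
    constructor
    · rintro ⟨l, hl, rfl⟩
      simp only [List.length_ofFn, lt_min_iff] at hl
      exact ⟨⟨l, hl.2⟩, hl.1, rfl⟩
    · rintro ⟨l, hl, rfl⟩
      exact ⟨l.1, by simp [hl, l.2], rfl⟩
  rw [isSMulRegular_quotient_iff_mem_of_smul_mem]
  intro p hp
  simp only [smul_eq_mul, Ideal.mul_top, hset] at hp ⊢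
  rw [mem_ideal_span_X_image] at hp ⊢
  intro d hd
  obtain ⟨l, hl, hl0⟩ := hp (Finsupp.single j 1 + d) (by
    rw [mem_support_iff] at hd ⊢
    rwa [coeff_X_mul])
  refine ⟨l, hl, ?_⟩
  have hlj : j ≠ l := fun e => by
    have : (j : ℕ) = (l : ℕ) := congrArg Fin.val e
    have h' : (l : ℕ) < i := hl
    simp [j] at this
    omega
  rwa [Finsupp.add_apply, Finsupp.single_eq_of_ne (Ne.symm hlj), zero_add] at hl0

variable {k N} (w : Fin N → ℤ) (hw : ∀ i, 0 < w i)

include hw in
theorem weighted_pos (n : ℤ) (hn : n < 0) :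
    ringPieces (weightedHomogeneousSubmodule k w) n = ⊥ := by
  refine Regrade.pos_of (weightedHomogeneousSubmodule k w) n fun x hx => ?_
  by_contra hne
  obtain ⟨d, hd⟩ := support_nonempty.mpr hne
  have h1 := (mem_weightedHomogeneousSubmodule k w n x).1 hx (mem_support_iff.1 hd)
  have h2 : 0 ≤ Finsupp.weight w d := by
    rw [Finsupp.weight_apply, Finsupp.sum]
    exact Finset.sum_nonneg fun i _ => nsmul_nonneg (hw i).le _
  omega

include hw in
theorem weighted_zero {x : MvPolynomial (Fin N) k} (hx : x ∈ weightedHomogeneousSubmodule k w (0 : ℤ)) :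
    x = C (coeff 0 x) := by
  classical
  ext d
  rw [coeff_C]
  by_cases hd : (0 : Fin N →₀ ℕ) = d
  · rw [if_pos hd, hd]
  rw [if_neg hd]
  by_contra hne
  have h1 := (mem_weightedHomogeneousSubmodule k w 0 x).1 hx hne
  obtain ⟨i, hi⟩ := Finsupp.support_nonempty_iff.2 (Ne.symm hd)
  have h2 : 0 < Finsupp.weight w d := by
    rw [Finsupp.weight_apply, Finsupp.sum]
    refine Finset.sum_pos' (fun i _ => nsmul_nonneg (hw i).le _) ⟨i, hi, ?_⟩
    exact nsmul_pos (hw i) (Finsupp.mem_support_iff.1 hi)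
  omega

include hw in
theorem weighted_isField : IsField (GrLC.deg0 (ringPieces (weightedHomogeneousSubmodule k w))) := by
  let f : k →+* GrLC.deg0 (ringPieces (weightedHomogeneousSubmodule k w)) :=
    C.codRestrict _ fun c => (mem_weightedHomogeneousSubmodule k w 0 _).2 (isWeightedHomogeneous_C w c)
  have hf : Function.Bijective f := ⟨fun a b h => C_injective _ _ (congrArg Subtype.val h),
    fun x => ⟨coeff 0 x.1, Subtype.ext (weighted_zero w hw x.2).symm⟩⟩
  exact MulEquiv.isField (Field.toIsField k) (RingEquiv.ofBijective f hf).symm.toMulEquiv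

include hw in
theorem weighted_irr :
    GrFieldLib.irr (ringPieces (weightedHomogeneousSubmodule k w)) = Ideal.span (Set.range (X : Fin N → MvPolynomial (Fin N) k)) := by
  refine le_antisymm (Ideal.span_le.2 fun x hx => ?_) (Ideal.span_le.2 ?_)
  · obtain ⟨n, hn, hxn⟩ := Set.mem_iUnion₂.1 hx
    show x ∈ Ideal.span (Set.range X)
    rw [← Set.image_univ, mem_ideal_span_X_image]
    intro d hd
    have h1 := (mem_weightedHomogeneousSubmodule k w n x).1 hxn (mem_support_iff.1 hd)
    by_contra h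
    push Not at h
    have : d = 0 := Finsupp.ext fun i => h i trivial
    rw [this, map_zero] at h1
    have : (0 : ℤ) < n := hn
    omega
  · rintro _ ⟨i, rfl⟩
    exact Ideal.subset_span (Set.mem_iUnion₂.2 ⟨w i, hw i,
      (mem_weightedHomogeneousSubmodule k w _ _).2 (isWeightedHomogeneous_X k w i)⟩)

include hw in
/-- The a-invariant of a weighted polynomial ring is minus the total weight. -/
theorem weighted_endDeg [LocCoh.IsCohenMacaulayRing (MvPolynomial (Fin N) k)]
    {m : HomogeneousIdeal (ringPieces (weightedHomogeneousSubmodule k w))}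
    (hmsp : m.toIdeal = GrFieldLib.irr (ringPieces (weightedHomogeneousSubmodule k w)))
    (I : GrLC.StarInjRes (ringPieces (weightedHomogeneousSubmodule k w)) (ringPieces (weightedHomogeneousSubmodule k w))) :
    GrLC.endDeg (I.Hgr m N) =
      (((-(Finset.univ.sum w) : ℤ) : WithTop ℤ) : WithBot (WithTop ℤ)) := by
  classical
  set 𝒜 := ringPieces (weightedHomogeneousSubmodule k w) with h𝒜
  have hpos : ∀ n : ℤ, n < 0 → 𝒜 n = ⊥ := weighted_pos w hw
  have h0 := weighted_isField (k := k) w hw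
  have hn : ringKrullDim (MvPolynomial (Fin N) k) = N := by
    rw [MvPolynomial.ringKrullDim_of_isNoetherianRing, ringKrullDim_eq_zero_of_field]
    simp
  let M : GrLC.GMod.{u} 𝒜 := (GrInjLib.ringG (𝒜 := 𝒜))
  haveI : Module.Finite (MvPolynomial (Fin N) k) M.carrier :=
    inferInstanceAs (Module.Finite (MvPolynomial (Fin N) k) (MvPolynomial (Fin N) k))
  have hJ := ideal_homogeneous 𝒜 (I := m.toIdeal) m.isHomogeneous
  let Q : GrLC.GMod.{u} 𝒜 := quotG 𝒜 (ringPieces 𝒜) hJ
  let π : M.carrier →ₗ[MvPolynomial (Fin N) k] Q.carrier := quotMk 𝒜 (ringPieces 𝒜) hJ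
  let L : List (MvPolynomial (Fin N) k × ℤ) := List.ofFn fun i => (X i, w i)
  have hL1 : L.map Prod.fst = List.ofFn fun i => (X i : MvPolynomial (Fin N) k) := by simp [L, Function.comp_def]
  have hL2 : (L.map Prod.snd).sum = Finset.univ.sum w := by simp [L, List.sum_ofFn, Function.comp_def]
  have hLlen : L.length = N := by simp [L]
  have hL : ∀ p ∈ L, p.1 ∈ 𝒜 p.2 ∧ 0 < p.2 := fun p hp => by
    obtain ⟨i, rfl⟩ := List.mem_ofFn.1 hp
    exact ⟨(mem_weightedHomogeneousSubmodule k w _ _).2 (isWeightedHomogeneous_X k w i), hw i⟩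
  have hsp : m.toIdeal = Ideal.ofList (L.map Prod.fst) := by
    rw [hmsp, weighted_irr w hw, hL1, Ideal.ofList]
    congr 1
    ext y
    simp [List.mem_ofFn]
  have hker : LinearMap.ker π = Ideal.ofList (L.map Prod.fst) • (⊤ : Submodule (MvPolynomial (Fin N) k) M.carrier) := by
    rw [← hsp]
    refine (ker_quotMk 𝒜 (ringPieces 𝒜) hJ).trans ?_
    exact ((smul_eq_mul _ _).trans (Ideal.mul_top m.toIdeal)).symm
  have htor : GrLC.gam m.toIdeal Q.carrier = ⊤ := by
    refine eq_top_iff.2 fun x _ => ?_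
    obtain ⟨y, rfl⟩ := quotMk_surjective 𝒜 (ringPieces 𝒜) hJ x
    refine ⟨1, fun r hr => ?_⟩
    rw [pow_one] at hr
    rw [← map_smul]
    exact LinearMap.mem_ker.1 ((ker_quotMk 𝒜 (ringPieces 𝒜) hJ).ge
      (show r * y ∈ m.toIdeal from Ideal.mul_mem_right _ _ hr))
  refine GrInjLib.Poly.eq_of_forall_le_iff fun d => ?_
  refine (van_endDeg (M := M) (addRes 𝒜 I) N d).trans ?_
  have key := GrFieldLib.van_end_seq (m := m) (GrFieldLib.eq_zero_of_neg hpos) hmsp L hL M Q π
    (by rw [hL1]; exact isWeaklyRegular_X k N) (quotMk_surjective 𝒜 (ringPieces 𝒜) hJ)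
    (fun g z hz => quotMk_grHom 𝒜 (ringPieces 𝒜) hJ g z hz) hker
    (fun i hi g => GrFieldLib.van_below_dim hpos h0 hmsp hn i (by omega) g) htor d
  rw [hLlen, hL2] at key
  refine key.trans ?_
  rw [WithBot.coe_le_coe, WithTop.coe_le_coe]
  constructor
  · intro h
    by_contra hlt
    have h1 := h 0 (by omega) (1 : MvPolynomial (Fin N) k)
      ((mem_weightedHomogeneousSubmodule k w 0 1).2 (isWeightedHomogeneous_one k w))
    have h2 : (1 : MvPolynomial (Fin N) k) ∈ m.toIdeal :=
      (ker_quotMk 𝒜 (ringPieces 𝒜) hJ).le (LinearMap.mem_ker.2 h1)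
    rw [hmsp] at h2
    exact (GrFieldLib.irr_isMaximal 𝒜 hpos h0).ne_top ((Ideal.eq_top_iff_one _).2 h2)
  · intro h g hg x hx
    refine LinearMap.mem_ker.1 ((ker_quotMk 𝒜 (ringPieces 𝒜) hJ).ge ?_)
    show x ∈ m.toIdeal
    rw [hmsp]
    exact Ideal.subset_span (Set.mem_iUnion₂.2 ⟨g, show (0 : ℤ) < g by omega, hx⟩)

end Groth.Agent.GrCoreLib
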