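import Mathlib
import Groth.Agent.GrCoreLib.WeightedPoly
import Groth.Agent.GrCoreLib.Veronese

/-! A presented Veronese subring gets its grading from the ambient ring; pieces of polynomial rings. -/

set_option autoImplicit false
set_option linter.style.haveILetI false
set_option linter.unusedSectionVars false
universe u

open DirectSum GrInjLib MvPolynomial

namespace Groth.Agent.GrCoreLib

section Present

variable {R : Type u} [CommRing R] {R' : Type u} [CommRing R'] (𝒜 : ℤ → AddSubgroup R) (φ : R' →+* R) (q : ℕ)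

/-- The pieces of a presented Veronese subring. -/
def pullPieces : ℤ → AddSubgroup R' := fun j => (𝒜 (j * q)).comap (φ : R' →+ R)

theorem exists_pullGradedRing [GradedRing 𝒜] (hq : 0 < q) (hφ : Function.Injective φ)
    (hin : ∀ j : ℤ, ∀ x ∈ 𝒜 (j * q), x ∈ φ.range)
    (hout : ∀ (x : R') (i : ℤ), ¬ (q : ℤ) ∣ i → (decompose 𝒜 (φ x) i : R) = 0) :
    ∃ _ : GradedRing (pullPieces 𝒜 φ q), IsVeronese 𝒜 (pullPieces 𝒜 φ q) φ q := by
  classical
  haveI : SetLike.GradedMonoid (pullPieces 𝒜 φ q) :=
    { one_mem := by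
        show φ 1 ∈ 𝒜 _
        rw [map_one, zero_mul]
        exact SetLike.GradedOne.one_mem (A := 𝒜)
      mul_mem := fun {a b x y} hx hy => by
        show φ (x * y) ∈ 𝒜 ((a + b) * q)
        rw [map_mul, add_mul]
        exact SetLike.GradedMul.mul_mem (A := 𝒜) (hx : φ x ∈ 𝒜 (a * q)) (hy : φ y ∈ 𝒜 (b * q)) }
  have hpre : ∀ (g : ℤ) (x : R'), ∃ y : R', φ y = (decompose 𝒜 (φ x) (g * q) : R) := fun g x =>
    RingHom.mem_range.1 (hin g _ (decompose 𝒜 (φ x) (g * q)).2)
  choose p hp using hpre
  let π : ℤ → R' →+ R' := fun g =>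
    AddMonoidHom.mk' (p g) fun x y => hφ (by
      rw [map_add, hp, hp, hp, map_add, decompose_add, DirectSum.add_apply, AddSubgroup.coe_add])
  have hqz : (q : ℤ) ≠ 0 := by exact_mod_cast hq.ne'
  have hint : DirectSum.IsInternal (pullPieces 𝒜 φ q) := by
    refine isInternal_of_proj _ π (fun g x hx => hφ ?_) (fun g h hne x hx => hφ ?_) fun x => ?_
    · show φ (p g x) = φ x
      rw [hp]
      exact decompose_of_mem_same 𝒜 hx
    · show φ (p g x) = φ 0
      rw [hp, map_zero]
      exact decompose_of_mem_ne 𝒜 hx fun e => hne (mul_right_cancel₀ hqz e)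
    · let S : Finset ℤ := (decompose 𝒜 (φ x)).support.image fun i : ℤ => i / (q : ℤ)
      have hx : x = ∑ g ∈ S, p g x := by
        refine hφ ?_
        rw [map_sum]
        conv_lhs => rw [← DirectSum.sum_support_decompose 𝒜 (φ x)]
        simp only [hp]
        rw [Finset.sum_image]
        · refine Finset.sum_congr rfl fun i hi => ?_
          have hd : (q : ℤ) ∣ i := by
            by_contra h
            exact (DFinsupp.mem_support_iff.1 hi) (Subtype.ext (hout x i h))
          rw [Int.ediv_mul_cancel hd]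
        · intro i hi j hj hij
          have hd : ∀ i ∈ (decompose 𝒜 (φ x)).support, (q : ℤ) ∣ i := fun i hi => by
            by_contra h
            exact (DFinsupp.mem_support_iff.1 hi) (Subtype.ext (hout x i h))
          rw [← Int.ediv_mul_cancel (hd i hi), ← Int.ediv_mul_cancel (hd j hj)]
          exact congrArg (· * (q : ℤ)) hij
      rw [hx]
      refine sum_mem fun g _ => AddSubgroup.mem_iSup_of_mem g ?_
      show φ (p g x) ∈ 𝒜 (g * q)
      rw [hp]
      exact (decompose 𝒜 (φ x) (g * q)).2
  letI := hint.chooseDecomposition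
  refine ⟨{ ‹SetLike.GradedMonoid (pullPieces 𝒜 φ q)›, hint.chooseDecomposition with }, hq, hφ, fun j => ?_⟩
  refine le_antisymm (AddSubgroup.map_comap_le _ _) fun y hy => ?_
  obtain ⟨x, rfl⟩ := RingHom.mem_range.1 (hin j y hy)
  exact ⟨x, hy, rfl⟩

end Present

section Poly

attribute [local instance] MvPolynomial.weightedGradedAlgebra

variable (k : Type u) [Field k] {N : ℕ}

theorem weight_one_eq_sum (e : Fin N →₀ ℕ) : Finsupp.weight (fun _ : Fin N => (1 : ℤ)) e = ((∑ i, e i : ℕ) : ℤ) := by
  rw [Finsupp.weight_apply, Finsupp.sum_fintype _ _ (fun i => by simp)]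
  simp

/-- The pieces of the standard polynomial ring. -/
theorem finrank_weighted_one (r : ℕ) :
    Module.finrank k (weightedHomogeneousSubmodule k (fun _ : Fin N => (1 : ℤ)) (r : ℤ)) =
      (N + r - 1).choose r := by
  classical
  have hset : {e : Fin N →₀ ℕ | Finsupp.weight (fun _ : Fin N => (1 : ℤ)) e = (r : ℤ)} =
      ((Finset.univ : Finset (Fin N)).finsuppAntidiag r : Set (Fin N →₀ ℕ)) := by
    ext e
    simp [Finset.mem_finsuppAntidiag, weight_one_eq_sum]
    norm_cast
  have he : weightedHomogeneousSubmodule k (fun _ : Fin N => (1 : ℤ)) (r : ℤ) =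
      restrictSupport k ((Finset.univ : Finset (Fin N)).finsuppAntidiag r : Set (Fin N →₀ ℕ)) := by
    rw [weightedHomogeneousSubmodule_eq_finsupp_supported, hset]; rfl
  rw [he, Module.finrank_eq_card_basis (basisRestrictSupport k _)]
  simp only [Finset.coe_sort_coe, Fintype.card_coe]
  rw [Finset.card_finsuppAntidiag_nat_eq_choose, Finset.card_univ, Fintype.card_fin]

theorem finrank_deg0_weighted_one (r : ℕ) :
    Module.finrank (GrLC.deg0 (ringPieces (weightedHomogeneousSubmodule k (fun _ : Fin N => (1 : ℤ)))))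
      (GrLC.comp (ringPieces (weightedHomogeneousSubmodule k (fun _ : Fin N => (1 : ℤ))))
        (ringPieces (weightedHomogeneousSubmodule k (fun _ : Fin N => (1 : ℤ)))) (r : ℤ)) =
      (N + r - 1).choose r := by
  classical
  have hw : ∀ _i : Fin N, (0 : ℤ) < 1 := fun _ => one_pos
  let w : Fin N → ℤ := fun _ => 1
  let i : k →+* GrLC.deg0 (ringPieces (weightedHomogeneousSubmodule k w)) :=
    C.codRestrict _ fun c => (mem_weightedHomogeneousSubmodule k w 0 _).2 (isWeightedHomogeneous_C w c)
  have hi : Function.Bijective i := ⟨fun a b h => C_injective _ _ (congrArg Subtype.val h),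
    fun x => ⟨coeff 0 x.1, Subtype.ext (weighted_zero w hw x.2).symm⟩⟩
  rw [← finrank_weighted_one k r]
  let e : weightedHomogeneousSubmodule k w (r : ℤ) ≃+
      GrLC.comp (ringPieces (weightedHomogeneousSubmodule k w)) (ringPieces (weightedHomogeneousSubmodule k w)) (r : ℤ) :=
    { toFun := fun x => ⟨x.1, x.2⟩
      invFun := fun x => ⟨x.1, x.2⟩
      left_inv := fun _ => rfl
      right_inv := fun _ => rfl
      map_add' := fun _ _ => rfl }
  exact (congrArg Cardinal.toNat (rank_eq_of_equiv_equiv i e hi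
    fun c x => Subtype.ext (MvPolynomial.smul_eq_C_mul x.1 c))).symm

end Poly

end Groth.Agent.GrCoreLib
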